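import Groth.Agent.Hensel20.Stages
import Groth.Agent.CAlg1.Complete
import Groth.Agent.CAlg7.FlatLimit
import Mathlib.RingTheory.AdicCompletion.LocalRing
import Mathlib.LinearAlgebra.TensorProduct.Quotient

/-! Henselizations of Noetherian local rings are Noetherian. -/

set_option autoImplicit false

open IsLocalRing TensorProduct

namespace Groth.Agent.Hensel20

open Henz21

universe u

section

variable (L H' C : Type u) [CommRing L] [CommRing H'] [CommRing C] [Algebra L H'] [Algebra L C]
  [Algebra H' C] [IsScalarTower L H' C]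

/-- If `H' → C` is an isomorphism modulo `J` and `H'` is flat over `L`, so is `C / J C` over `L / J`. -/
theorem flat_quotient_of_bijective_mod [Module.Flat L H'] (J : Ideal L)
    (hsurj : ∀ c : C, ∃ h : H', c - algebraMap H' C h ∈ J.map (algebraMap L C))
    (hker : ∀ h : H', algebraMap H' C h ∈ J.map (algebraMap L C) → h ∈ J.map (algebraMap L H')) :
    Module.Flat (L ⧸ J) (C ⧸ (J • ⊤ : Submodule L C)) := by
  let ψ : H' →ₗ[L] C ⧸ (J • ⊤ : Submodule L C) :=
    (Submodule.mkQ _).comp (IsScalarTower.toAlgHom L H' C).toLinearMap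
  have hψs : Function.Surjective ψ := fun z => by
    obtain ⟨c, rfl⟩ := Submodule.Quotient.mk_surjective _ z
    obtain ⟨h, hh⟩ := hsurj c
    refine ⟨h, ((Submodule.Quotient.eq _).mpr ?_).symm⟩
    rw [Ideal.smul_top_eq_map]; exact hh
  have hψk : LinearMap.ker ψ = (J • ⊤ : Submodule L H') := by
    refine le_antisymm (fun h hh => ?_) ?_
    · have h' : algebraMap H' C h ∈ (J • ⊤ : Submodule L C) := (Submodule.Quotient.mk_eq_zero _).mp hh
      rw [Ideal.smul_top_eq_map] at h' ⊢
      exact hker h h'
    · rw [Submodule.smul_le]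
      intro r hr h _
      rw [LinearMap.mem_ker, map_smul]
      obtain ⟨c, hc⟩ := Submodule.Quotient.mk_surjective _ (ψ h)
      rw [← hc, ← Submodule.Quotient.mk_smul, Submodule.Quotient.mk_eq_zero]
      exact Submodule.smul_mem_smul hr trivial
  let e : (L ⧸ J) ⊗[L] H' ≃ₗ[L] C ⧸ (J • ⊤ : Submodule L C) :=
    (TensorProduct.quotTensorEquivQuotSMul H' J).trans
      ((Submodule.quotEquivOfEq _ _ hψk.symm).trans (ψ.quotKerEquivOfSurjective hψs))
  have : Module.Flat (L ⧸ J) ((L ⧸ J) ⊗[L] H') := Module.Flat.baseChange L (L ⧸ J) H'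
  exact Module.Flat.of_linearEquiv
    (LinearEquiv.extendScalarsOfSurjective Ideal.Quotient.mk_surjective e).symm

end

variable {R K : Type u} [CommRing R] [IsLocalRing R] [Field K] [Algebra R K]
  [IsLocalHom (algebraMap R K)]

theorem isNoetherianRing_H [IsNoetherianRing R] : IsNoetherianRing (H R K) := by
  have hfg : (maximalIdeal (H R K)).FG := by
    rw [← H.map_maximalIdeal (R := R) (K := K)]
    exact (maximalIdeal R).fg_of_isNoetherianRing.map _
  let C := AdicCompletion (maximalIdeal (H R K)) (H R K)
  have : IsNoetherianRing (H R K ⧸ maximalIdeal (H R K)) := by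
    let _ := Ideal.Quotient.field (maximalIdeal (H R K))
    infer_instance
  have hC : IsNoetherianRing C := CAlg1.isNoetherianRing_adicCompletion _ hfg
  have hCl : IsLocalRing C := AdicCompletion.isLocalRing_of_fg hfg
  have hCh : IsLocalHom (algebraMap (H R K) C) := AdicCompletion.algebraMap_isLocalHom_of_fg hfg
  have hker : ∀ (n : ℕ) (c : C),
      c ∈ (maximalIdeal (H R K) ^ n).map (algebraMap (H R K) C) ↔
        AdicCompletion.eval (maximalIdeal (H R K)) (H R K) n c = 0 := fun n c => by
    rw [← Submodule.restrictScalars_mem (H R K), ← Ideal.smul_top_eq_map,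
      AdicCompletion.pow_smul_top_eq_ker_eval hfg, LinearMap.mem_ker]
  have hfg' : ∀ i : Pt R K, ∀ a : Ideal (Stage i), ∀ x : Stage i,
      algebraMap (H R K) C (stageHom i x) ∈
        (a.map (algebraMap (Stage i) (H R K))).map (algebraMap (H R K) C) → x ∈ a := by
    intro i a x hx
    have : IsScalarTower (Stage i) (H R K) C := IsScalarTower.of_algebraMap_eq fun _ => rfl
    have := stage_noetherian (R := R) (K := K) i
    have hloc : IsLocalHom (algebraMap (Stage i) C) := by
      rw [IsScalarTower.algebraMap_eq (Stage i) (H R K) C]; exact RingHom.isLocalHom_comp _ _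
    have hpow : ∀ n : ℕ, (maximalIdeal (Stage i) ^ n).map (algebraMap (Stage i) C) =
        (maximalIdeal (H R K) ^ n).map (algebraMap (H R K) C) := fun n => by
      rw [IsScalarTower.algebraMap_eq (Stage i) (H R K) C, ← Ideal.map_map, Ideal.map_pow,
        stage_map_maximalIdeal_H]
    have hflat : Module.Flat (Stage i) C := by
      refine CAlg7.flat_of_forall_flat_mod_pow (S := C) (maximalIdeal (Stage i)) ?_ fun n _ => ?_
      · rw [IsLocalRing.jacobson_eq_maximalIdeal ⊥ bot_ne_top]
        exact Ideal.map_le_iff_le_comap.mpr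
          (((local_hom_TFAE (algebraMap (Stage i) C)).out 0 3).mp hloc)
      · refine flat_quotient_of_bijective_mod (Stage i) (H R K) C _ (fun c => ?_) fun h hh => ?_
        · obtain ⟨h, hh⟩ := Submodule.Quotient.mk_surjective _
            (AdicCompletion.eval (maximalIdeal (H R K)) (H R K) n c)
          refine ⟨h, ?_⟩
          rw [hpow, hker, map_sub, sub_eq_zero, ← hh]
          rfl
        · rw [hpow, hker] at hh
          have h2 : h ∈ (maximalIdeal (H R K) ^ n • ⊤ : Submodule (H R K) (H R K)) :=
            (Submodule.Quotient.mk_eq_zero _).mp hh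
          rw [smul_eq_mul, Ideal.mul_top] at h2
          rwa [Ideal.map_pow, stage_map_maximalIdeal_H]
    have : Module.FaithfullyFlat (Stage i) C := Module.FaithfullyFlat.of_flat_of_isLocalHom
    rw [Ideal.map_map, ← IsScalarTower.algebraMap_eq] at hx
    rw [← Ideal.comap_map_eq_self_of_faithfullyFlat (B := C) a]
    exact hx
  have hinj : ∀ (a : Ideal (H R K)) (x : H R K), a.FG →
      algebraMap (H R K) C x ∈ a.map (algebraMap (H R K) C) → x ∈ a := by
    intro a x ha hx
    classical
    obtain ⟨s, rfl⟩ := ha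
    obtain ⟨i, hi⟩ := exists_stage (insert x s) id
    obtain ⟨y, rfl⟩ := hi x (Finset.mem_insert_self _ _)
    let a₀ : Ideal (Stage i) := (Ideal.span (s : Set (H R K))).comap (algebraMap (Stage i) (H R K))
    have hle : Ideal.span (s : Set (H R K)) ≤ a₀.map (algebraMap (Stage i) (H R K)) := by
      rw [Ideal.span_le]
      intro g hg
      obtain ⟨z, hz⟩ := hi g (Finset.mem_insert_of_mem hg)
      have hz' : algebraMap (Stage i) (H R K) z = g := hz
      rw [SetLike.mem_coe, ← hz']
      exact Ideal.mem_map_of_mem _ (show algebraMap (Stage i) (H R K) z ∈ _ from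
        hz' ▸ Ideal.subset_span hg)
    exact hfg' i a₀ y (Ideal.map_mono hle hx)
  refine (isNoetherianRing_iff_ideal_fg _).mpr fun a => ?_
  classical
  obtain ⟨s, hs, hspan⟩ := Submodule.fg_span_iff_fg_span_finset_subset (R := C)
    ((algebraMap (H R K) C) '' a) |>.mp (IsNoetherian.noetherian (R := C) (M := C) _)
  obtain ⟨t, hta, rfl⟩ := Finset.subset_set_image_iff.mp hs
  refine ⟨t, le_antisymm (Ideal.span_le.mpr hta) fun x hx => ?_⟩
  refine hinj _ x ⟨t, rfl⟩ ?_
  rw [Ideal.map_span, ← Finset.coe_image]
  exact hspan.le (Submodule.subset_span ⟨x, hx, rfl⟩)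

end Groth.Agent.Hensel20
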