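import Groth.Agent.Hensel20.StageProps
import Groth.Agent.Hensel20.StageNoeth
import Groth.Agent.Henz21.FaithfullyFlat

/-! Basic properties preserved by (strict) henselization. -/

set_option autoImplicit false

open IsLocalRing

namespace Groth.Agent.Hensel20

open Henz21

universe u

theorem isNoetherianRing_of_faithfullyFlat' (A B : Type u) [CommRing A] [CommRing B] [Algebra A B]
    [Module.FaithfullyFlat A B] [IsNoetherianRing B] : IsNoetherianRing A := by
  refine isNoetherianRing_iff.mpr (isNoetherian_iff'.mpr ?_)
  have hs : StrictMono (Ideal.map (algebraMap A B) : Ideal A → Ideal B) := fun a b hab =>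
    lt_of_le_of_ne (Ideal.map_mono hab.le) fun h => hab.ne (by
      rw [← Ideal.comap_map_eq_self_of_faithfullyFlat (B := B) a, h,
        Ideal.comap_map_eq_self_of_faithfullyFlat])
  exact hs.wellFoundedGT

variable {R K : Type u} [CommRing R] [IsLocalRing R] [Field K] [Algebra R K]
  [IsLocalHom (algebraMap R K)] {S : Type u} [CommRing S] [IsLocalRing S] [Algebra R S]
  (e : H R K ≃ₐ[R] S)

include e in
theorem isNoetherianRing_iff_of_equiv : IsNoetherianRing R ↔ IsNoetherianRing S := by
  refine ⟨fun _ => ?_, fun _ => ?_⟩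
  · have := isNoetherianRing_H (R := R) (K := K)
    exact isNoetherianRing_of_surjective _ _ e.toRingEquiv.toRingHom e.surjective
  · have : IsNoetherianRing (H R K) :=
      isNoetherianRing_of_surjective _ _ e.symm.toRingEquiv.toRingHom e.symm.surjective
    exact isNoetherianRing_of_faithfullyFlat' R (H R K)

include e in
theorem ringKrullDim_eq_of_equiv : ringKrullDim S = ringKrullDim R :=
  (ringKrullDim_eq_of_ringEquiv e.toRingEquiv).symm.trans ringKrullDim_H

include e in
theorem isReduced_iff_of_equiv : IsReduced S ↔ IsReduced R := by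
  rw [← isReduced_H_iff (R := R) (K := K)]
  exact ⟨fun _ => isReduced_of_injective e.toRingEquiv e.injective,
    fun _ => isReduced_of_injective e.symm.toRingEquiv e.symm.injective⟩

include e in
theorem isNormal_iff_of_equiv :
    (IsDomain S ∧ IsIntegrallyClosed S) ↔ (IsDomain R ∧ IsIntegrallyClosed R) := by
  rw [← isNormal_H_iff (R := R) (K := K)]
  exact ⟨fun ⟨_, _⟩ => ⟨e.toRingEquiv.injective.isDomain e.toRingEquiv.toRingHom,
      IsIntegrallyClosed.of_equiv e.toRingEquiv.symm⟩,
    fun ⟨_, _⟩ => ⟨e.symm.toRingEquiv.injective.isDomain e.symm.toRingEquiv.toRingHom,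
      IsIntegrallyClosed.of_equiv e.toRingEquiv⟩⟩

include e in
theorem isRegular_iff_of_equiv [IsNoetherianRing R] [IsLocalHom (algebraMap R S)] :
    IsRegularLocalRing S ↔ IsRegularLocalRing R := by
  have := (isNoetherianRing_iff_of_equiv e).mp inferInstance
  have : Module.Flat R S := Module.Flat.of_linearEquiv e.symm.toLinearEquiv
  refine Unr55.isRegularLocalRing_iff_of_map_maximalIdeal R S ?_
  rw [← e.toAlgHom.comp_algebraMap, ← Ideal.map_map, H.map_maximalIdeal]
  exact map_ringEquiv_maximalIdeal e.toRingEquiv

end Groth.Agent.Hensel20
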