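import Groth.Agent.Hensel20.SmoothLift
import Mathlib.AlgebraicGeometry.Morphisms.Smooth

/-! Sections of smooth morphisms over henselian local rings. -/

set_option autoImplicit false

open CategoryTheory AlgebraicGeometry

namespace Groth.Agent.Hensel20

universe u

theorem exists_section_of_smooth (A : Type u) [CommRing A] [HenselianLocalRing A]
    {X : Scheme.{u}} (f : X ⟶ Spec (CommRingCat.of A)) [Smooth f]
    (u₀ : Spec (CommRingCat.of (IsLocalRing.ResidueField A)) ⟶ X)
    (h₀ : u₀ ≫ f = Spec.map (CommRingCat.ofHom (IsLocalRing.residue A))) :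
    ∃ u : Spec (CommRingCat.of A) ⟶ X, u ≫ f = 𝟙 _ ∧
      Spec.map (CommRingCat.ofHom (IsLocalRing.residue A)) ≫ u = u₀ := by
  obtain ⟨U, hU, hx, -⟩ := X.isBasis_affineOpens.exists_subset_of_mem_open
    (Set.mem_univ (u₀ (IsLocalRing.closedPoint (IsLocalRing.ResidueField A)))) isOpen_univ
  obtain ⟨U, hU', rfl⟩ := hU
  let j := hU'.fromSpec
  have hr : Set.range u₀ ⊆ Set.range j := by
    rintro _ ⟨z, rfl⟩
    rw [hU'.range_fromSpec, Subsingleton.elim z (IsLocalRing.closedPoint _)]
    exact hx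
  let φ := Spec.preimage (IsOpenImmersion.lift j u₀ hr)
  let ψ := Spec.preimage (j ≫ f)
  have hψ : RingHom.Smooth ψ.hom := by
    have h : Smooth (Spec.map ψ) := by rw [Spec.map_preimage]; infer_instance
    exact HasRingHomProperty.Spec_iff.mp h
  have hψφ : ψ ≫ φ = CommRingCat.ofHom (IsLocalRing.residue A) := by
    refine Spec.map_injective ?_
    rw [Spec.map_comp, Spec.map_preimage, Spec.map_preimage, ← Category.assoc,
      IsOpenImmersion.lift_fac, h₀]
  let B : Type u := Γ(X, U)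
  let _ : Algebra A B := ψ.hom.toAlgebra
  have : Algebra.Smooth A B := hψ
  have hA : HenselianRing A (IsLocalRing.maximalIdeal A) :=
    ⟨(IsLocalRing.jacobson_eq_maximalIdeal ⊥ bot_ne_top).ge, fun f hf a₀ h₁ h₂ =>
      HenselianLocalRing.is_henselian f hf a₀ h₁ (isUnit_of_map_unit (IsLocalRing.residue A) _ h₂)⟩
  obtain ⟨τ, hτ⟩ := exists_lift_of_smooth B
    ({ φ.hom with commutes' := fun a => RingHom.congr_fun (congrArg CommRingCat.Hom.hom hψφ) a } :
      B →ₐ[A] A ⧸ IsLocalRing.maximalIdeal A)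
  let t : Γ(X, U) ⟶ CommRingCat.of A := CommRingCat.ofHom τ.toRingHom
  have h1 : ψ ≫ t = 𝟙 _ := CommRingCat.hom_ext (RingHom.ext τ.commutes)
  have h2 : t ≫ CommRingCat.ofHom (IsLocalRing.residue A) = φ :=
    CommRingCat.hom_ext (RingHom.ext fun b => DFunLike.congr_fun hτ b)
  refine ⟨Spec.map t ≫ j, ?_, ?_⟩
  · rw [Category.assoc, ← Spec.map_preimage (j ≫ f), ← Spec.map_comp]
    exact (congrArg Spec.map h1).trans (Spec.map_id _)
  · rw [← Category.assoc, ← Spec.map_comp, h2, Spec.map_preimage, IsOpenImmersion.lift_fac]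

end Groth.Agent.Hensel20
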