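import Groth.Agent.Hensel20.Criteria

/-! Consequences of the criteria for henselian pairs. -/

set_option autoImplicit false

open Polynomial TensorProduct

namespace Groth.Agent.Hensel20

universe u v w

variable {A : Type u} [CommRing A] {I : Ideal A}

/-- The radical condition follows from lifting sections of étale algebras. -/
theorem le_jacobson_of_hasEtaleLift (h : HasEtaleLift A I) : I ≤ Ideal.jacobson ⊥ := by
  intro a ha
  rw [Ideal.mem_jacobson_bot]
  intro y
  set s := a * y + 1
  let L := Localization.Away s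
  have : Algebra.Etale A L := Algebra.Etale.of_isLocalizationAway s
  have hs : IsUnit (Algebra.ofId A (A ⧸ I) s) := by
    have : Ideal.Quotient.mk I s = 1 := by
      simp [s, Ideal.Quotient.eq_zero_iff_mem.mpr (I.mul_mem_right y ha)]
    change IsUnit (Ideal.Quotient.mk I s)
    rw [this]; exact isUnit_one
  obtain ⟨τ, -⟩ := h L (IsLocalization.Away.liftAlgHom (S := L) (f := Algebra.ofId A (A ⧸ I)) s hs)
  have := (IsLocalization.Away.algebraMap_isUnit (S := L) s).map τ
  simpa using this

theorem henselianRing_of_hasFactorLift (hI : I ≤ Ideal.jacobson ⊥) (h : HasFactorLift A I) :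
    HenselianRing A I :=
  henselianRing_of_hasIdemLift hI (hasIdemLift_of_hasFactorLift hI h)

theorem henselianRing_of_hasEtaleLift (h : HasEtaleLift A I) : HenselianRing A I :=
  henselianRing_of_hasFactorLift (le_jacobson_of_hasEtaleLift h) (hasFactorLift_of_hasEtaleLift h)

theorem henselianRing_of_hasGabberRoots (hI : I ≤ Ideal.jacobson ⊥) (h : HasGabberRoots A I) :
    HenselianRing A I :=
  henselianRing_of_hasEtaleLift fun _ _ _ _ σ => exists_lift_of_etale hI h σ

/-- `A` is henselian at `I` as soon as reduction is bijective on idempotents of finite algebras. -/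
theorem henselianRing_of_bijOn (h : ∀ (B : Type u) [CommRing B] [Algebra A B], Module.Finite A B →
      Set.BijOn (Ideal.Quotient.mk (Ideal.map (algebraMap A B) I))
        {e : B | IsIdempotentElem e} {e | IsIdempotentElem e}) : HenselianRing A I := by
  refine henselianRing_of_hasIdemLift (fun a ha => ?_) fun B _ _ hB b hb => ?_
  · rw [Ideal.mem_jacobson_bot]
    intro y
    set s := a * y + 1
    let B := A ⧸ Ideal.span {s}
    have hB : Module.Finite A B := Module.Finite.of_surjective (Algebra.linearMap A B)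
      Ideal.Quotient.mk_surjective
    have htop : (1 : B) ∈ I.map (algebraMap A B) := by
      have h1 : algebraMap A B s = 0 :=
        Ideal.Quotient.eq_zero_iff_mem.mpr (Ideal.mem_span_singleton_self s)
      have h2 := Ideal.mem_map_of_mem (algebraMap A B) (I.mul_mem_right y ha)
      simp only [s, map_add, map_one] at h1
      rw [eq_neg_of_add_eq_zero_left h1] at h2
      simpa [neg_neg] using (Ideal.neg_mem_iff _).mp h2
    have h10 : (1 : B) = 0 := (h B hB).injOn IsIdempotentElem.one IsIdempotentElem.zero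
      ((Ideal.Quotient.mk_eq_mk_iff_sub_mem _ _).mpr (by simpa using htop))
    have : Subsingleton (A ⧸ Ideal.span {s}) := subsingleton_of_zero_eq_one h10.symm
    exact Ideal.span_singleton_eq_top.mp (Ideal.Quotient.subsingleton_iff.mp this)
  · obtain ⟨e, he, heb⟩ := (h B hB).surjOn
      (show IsIdempotentElem (Ideal.Quotient.mk (I.map (algebraMap A B)) b) by
        rw [IsIdempotentElem, ← map_mul, Ideal.Quotient.mk_eq_mk_iff_sub_mem]; exact hb)
    exact ⟨e, he, (Ideal.Quotient.mk_eq_mk_iff_sub_mem _ _).mp heb⟩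

/-- Reduction is bijective on idempotents of integral algebras. -/
theorem idempotents_bijOn [HenselianRing A I] {B : Type u} [CommRing B] [Algebra A B]
    [Algebra.IsIntegral A B] :
    Set.BijOn (Ideal.Quotient.mk (Ideal.map (algebraMap A B) I))
      {e : B | IsIdempotentElem e} {e | IsIdempotentElem e} := by
  refine ⟨fun e he => he.map _, idempotents_injOn (map_le_jacobson_of_isIntegral HenselianRing.jac),
    fun c hc => ?_⟩
  obtain ⟨b, rfl⟩ := Ideal.Quotient.mk_surjective c
  obtain ⟨e, he, heb⟩ := exists_idem_lift_of_integral hasIdemLift b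
    ((Ideal.Quotient.mk_eq_mk_iff_sub_mem _ _).mp (by rw [map_mul]; exact hc))
  exact ⟨e, he, (Ideal.Quotient.mk_eq_mk_iff_sub_mem _ _).mpr heb⟩

/-- An integral algebra over a henselian pair gives a henselian pair. -/
theorem henselianRing_of_integral [HenselianRing A I] (B : Type u) [CommRing B] [Algebra A B]
    [Algebra.IsIntegral A B] : HenselianRing B (I.map (algebraMap A B)) := by
  refine henselianRing_of_hasIdemLift (map_le_jacobson_of_isIntegral HenselianRing.jac)
    fun C _ _ _ c hc => ?_
  let := Algebra.compHom C (algebraMap A B)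
  have : IsScalarTower A B C := .of_algebraMap_eq' rfl
  have : Algebra.IsIntegral A C := Algebra.IsIntegral.trans B
  have hmap : (I.map (algebraMap A B)).map (algebraMap B C) = I.map (algebraMap A C) := by
    rw [Ideal.map_map, ← IsScalarTower.algebraMap_eq]
  rw [hmap] at hc ⊢
  exact exists_idem_lift_of_integral hasIdemLift c hc

lemma le_jacobson_radical (hI : I ≤ Ideal.jacobson ⊥) : I.radical ≤ Ideal.jacobson ⊥ := by
  refine le_sInf fun M ⟨_, hM⟩ => ?_
  exact hM.isPrime.radical_le_iff.mpr (hI.trans (sInf_le ⟨bot_le, hM⟩))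

lemma exists_idem_sub_mem_of_radical {B : Type v} [CommRing B] {J K : Ideal B} (hJK : J ≤ K)
    (hKJ : K ≤ J.radical) {b : B} (hb : b * b - b ∈ K) :
    ∃ b' : B, b' * b' - b' ∈ J ∧ b' - b ∈ K := by
  let f := Ideal.Quotient.factor hJK
  have hnil : ∀ x ∈ RingHom.ker f, IsNilpotent x := by
    intro x hx
    obtain ⟨y, rfl⟩ := Ideal.Quotient.mk_surjective x
    rw [RingHom.mem_ker, Ideal.Quotient.factor_mk, Ideal.Quotient.eq_zero_iff_mem] at hx
    obtain ⟨n, hn⟩ := hKJ hx
    exact ⟨n, by rw [← map_pow, Ideal.Quotient.eq_zero_iff_mem]; exact hn⟩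
  obtain ⟨e, he, hfe⟩ := exists_isIdempotentElem_eq_of_ker_isNilpotent f hnil
    (Ideal.Quotient.mk K b) ⟨Ideal.Quotient.mk J b, Ideal.Quotient.factor_mk _ _⟩ (by
      rw [IsIdempotentElem, ← map_mul, Ideal.Quotient.mk_eq_mk_iff_sub_mem]; exact hb)
  obtain ⟨b', rfl⟩ := Ideal.Quotient.mk_surjective e
  refine ⟨b', (Ideal.Quotient.mk_eq_mk_iff_sub_mem _ _).mp (by rw [map_mul]; exact he), ?_⟩
  exact (Ideal.Quotient.mk_eq_mk_iff_sub_mem _ _).mp hfe

theorem henselianRing_radical_iff : HenselianRing A I.radical ↔ HenselianRing A I := by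
  have key : ∀ (B : Type u) [CommRing B] [Algebra A B],
      I.map (algebraMap A B) ≤ I.radical.map (algebraMap A B) ∧
      I.radical.map (algebraMap A B) ≤ (I.map (algebraMap A B)).radical := fun B _ _ =>
    ⟨Ideal.map_mono Ideal.le_radical, Ideal.map_radical_le _⟩
  refine ⟨fun h => ?_, fun h => ?_⟩
  · refine henselianRing_of_hasIdemLift (Ideal.le_radical.trans h.jac) fun B _ _ hB b hb => ?_
    obtain ⟨h1, h2⟩ := key B
    obtain ⟨e, he, heb⟩ := hasIdemLift (I := I.radical) B hB b (h1 hb)
    refine ⟨e, he, ?_⟩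
    rw [← Ideal.Quotient.mk_eq_mk_iff_sub_mem]
    refine eq_of_isNilpotent_sub_of_isIdempotentElem (he.map _) ?_ ?_
    · rw [IsIdempotentElem, ← map_mul, Ideal.Quotient.mk_eq_mk_iff_sub_mem]; exact hb
    · obtain ⟨n, hn⟩ := h2 heb
      exact ⟨n, by rw [← map_sub, ← map_pow, Ideal.Quotient.eq_zero_iff_mem]; exact hn⟩
  · refine henselianRing_of_hasIdemLift (le_jacobson_radical h.jac) fun B _ _ hB b hb => ?_
    obtain ⟨h1, h2⟩ := key B
    obtain ⟨b', hb', hbb⟩ := exists_idem_sub_mem_of_radical h1 h2 hb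
    obtain ⟨e, he, heb⟩ := hasIdemLift B hB b' hb'
    exact ⟨e, he, by simpa using add_mem (h1 heb) hbb⟩

theorem henselianRing_of_nilpotent (hI : ∀ x ∈ I, IsNilpotent x) : HenselianRing A I := by
  have hbot : HenselianRing A (⊥ : Ideal A) :=
    { jac := bot_le
      is_henselian := fun f _ a₀ h1 _ => ⟨a₀, by simpa using h1, by simp⟩ }
  have h := henselianRing_radical_iff.mpr hbot
  have hle : I ≤ (⊥ : Ideal A).radical := fun x hx => by
    obtain ⟨n, hn⟩ := hI x hx
    exact ⟨n, by simp [hn]⟩
  refine henselianRing_radical_iff.mp ?_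
  have : I.radical = (⊥ : Ideal A).radical :=
    le_antisymm (Ideal.radical_idem (⊥ : Ideal A) ▸ Ideal.radical_mono hle)
      (Ideal.radical_mono bot_le)
  rwa [this]

theorem henselianRing_of_le {J : Ideal A} [HenselianRing A J] (hIJ : I ≤ J) :
    HenselianRing A I where
  jac := hIJ.trans HenselianRing.jac
  is_henselian := by
    intro f hf a₀ h1 h2
    have hu : IsUnit (f.derivative.eval a₀) :=
      have := isLocalHom_of_le_jacobson_bot I (hIJ.trans HenselianRing.jac)
      h2.of_map
    obtain ⟨a, ha, haJ⟩ := HenselianRing.is_henselian (I := J) f hf a₀ (hIJ h1) (hu.map _)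
    refine ⟨a, ha, ?_⟩
    obtain ⟨c, hc⟩ := exists_mul_sq_add_linear_part_eq_eval_add f a₀ (a - a₀)
    rw [add_sub_cancel, ha.eq_zero] at hc
    have hu' : IsUnit (f.derivative.eval a₀ + c * (a - a₀)) :=
      isUnit_of_sub_mem HenselianRing.jac (I := J) (by simpa using J.mul_mem_left c haJ) hu
    have : (a - a₀) * (f.derivative.eval a₀ + c * (a - a₀)) ∈ I := by
      have h' : (a - a₀) * (f.derivative.eval a₀ + c * (a - a₀)) = -f.eval a₀ := by
        linear_combination hc
      rw [h']; exact I.neg_mem h1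
    exact (Ideal.unit_mul_mem_iff_mem I hu').mp (by rwa [mul_comm] at this)

theorem henselianRing_of_le_of_quotient {J : Ideal A} [HenselianRing A I] (hIJ : I ≤ J)
    [hq : HenselianRing (A ⧸ I) (J.map (Ideal.Quotient.mk I))] : HenselianRing A J where
  jac := by
    refine le_sInf fun M ⟨_, hM⟩ => ?_
    have hIM : I ≤ M := (HenselianRing.jac (I := I)).trans (sInf_le ⟨bot_le, hM⟩)
    have hM' : (M.map (Ideal.Quotient.mk I)).IsMaximal :=
      Ideal.IsMaximal.map_of_surjective_of_ker_le Ideal.Quotient.mk_surjective (by simpa using hIM)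
    intro x hx
    have := (hq.jac.trans (sInf_le ⟨bot_le, hM'⟩)) (Ideal.mem_map_of_mem _ hx)
    obtain ⟨y, hy, hxy⟩ :=
      (Ideal.mem_map_iff_of_surjective _ Ideal.Quotient.mk_surjective).mp this
    simpa using sub_mem hy (hIM ((Ideal.Quotient.mk_eq_mk_iff_sub_mem _ _).mp hxy))
  is_henselian := by
    intro f hf a₀ h1 h2
    let mk := Ideal.Quotient.mk I
    obtain ⟨b, hb, hbJ⟩ := hq.is_henselian (f.map mk) (hf.map _) (mk a₀)
      (by rw [eval_map_apply]; exact Ideal.mem_map_of_mem _ h1)
      (by
        rw [derivative_map, eval_map_apply]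
        have := h2.map (Ideal.quotientMap (J.map mk) mk Ideal.le_comap_map)
        rwa [Ideal.quotientMap_mk] at this)
    obtain ⟨a₁, rfl⟩ := Ideal.Quotient.mk_surjective b
    have ha₁ : a₁ - a₀ ∈ J := by
      have h' : mk (a₁ - a₀) ∈ J.map mk := by rw [map_sub]; exact hbJ
      obtain ⟨y, hy, hxy⟩ := (Ideal.mem_map_iff_of_surjective _ Ideal.Quotient.mk_surjective).mp h'
      simpa using sub_mem hy (hIJ ((Ideal.Quotient.mk_eq_mk_iff_sub_mem _ _).mp hxy))
    have hJ : J.map mk ≤ Ideal.jacobson ⊥ := hq.jac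
    have hu : IsUnit (mk (f.derivative.eval a₁)) := by
      have h3 : Ideal.Quotient.mk J (f.derivative.eval a₁) =
          Ideal.Quotient.mk J (f.derivative.eval a₀) := by
        rw [← eval_map_apply, ← eval_map_apply,
          (Ideal.Quotient.mk_eq_mk_iff_sub_mem _ _).mpr ha₁]
      have := (h3 ▸ h2).map (Ideal.quotientMap (J.map mk) mk Ideal.le_comap_map)
      rw [Ideal.quotientMap_mk] at this
      have := isLocalHom_of_le_jacobson_bot _ hJ
      exact IsUnit.of_map (Ideal.Quotient.mk (J.map mk)) _ ‹_›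
    obtain ⟨a, ha, haI⟩ := HenselianRing.is_henselian (I := I) f hf a₁
      (by rw [← Ideal.Quotient.eq_zero_iff_mem, ← eval_map_apply]; exact hb) hu
    exact ⟨a, ha, by simpa using add_mem (hIJ haI) ha₁⟩

/-- Maps out of an unramified algebra are determined modulo the Jacobson radical. -/
theorem algHom_eq_of_unramified {S : Type v} {C : Type w} [CommRing S] [CommRing C] [Algebra A S]
    [Algebra A C] [Algebra.EssFiniteType A S] [Algebra.FormallyUnramified A S] (f g : S →ₐ[A] C)
    {J : Ideal C} (hJ : J ≤ Ideal.jacobson ⊥) (h : ∀ x, f x - g x ∈ J) : f = g := by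
  obtain ⟨t, ht₁, ht₂⟩ := (Algebra.FormallyUnramified.iff_exists_tensorProduct (R := A) (S := S)).mp
    inferInstance
  let Φ : S ⊗[A] S →ₐ[A] C := Algebra.TensorProduct.lift f g fun _ _ => .all _ _
  have h1 : Φ t - f (Algebra.TensorProduct.lmul' A t) ∈ J := by
    clear ht₁ ht₂
    induction t with
    | zero => simp
    | tmul x y =>
      have := J.mul_mem_left (f x) (neg_mem (h y))
      simpa [Φ, mul_sub, neg_sub] using this
    | add a b ha hb =>
      simp only [map_add]
      convert add_mem ha hb using 1; ring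
  rw [ht₂, map_one] at h1
  refine AlgHom.ext fun x => ?_
  have := congr(Φ $(ht₁ x))
  simp only [map_mul, map_sub, map_zero, Φ, Algebra.TensorProduct.lift_tmul, map_one, one_mul,
    mul_one] at this
  exact (sub_eq_zero.mp ((isUnit_of_sub_one_mem hJ h1).mul_left_eq_zero.mp this)).symm

end Groth.Agent.Hensel20
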