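import Mathlib.RingTheory.Unramified.Basic
import Mathlib.RingTheory.Flat.Basic
import Mathlib.RingTheory.Flat.Stability
import Mathlib.RingTheory.Unramified.Finite

/-! Flatness descends along unramified maps. -/

set_option autoImplicit false

open TensorProduct

namespace Groth.Agent.Hensel20

universe u

/-- A module over an unramified algebra which is flat over the base is flat. -/
theorem flat_of_formallyUnramified (R A : Type u) [CommRing R] [CommRing A] [Algebra R A]
    [Algebra.EssFiniteType R A] [Algebra.FormallyUnramified R A] (M : Type u) [AddCommGroup M]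
    [Module R M] [Module A M] [IsScalarTower R A M] [Module.Flat R M] : Module.Flat A M := by
  obtain ⟨t, ht₁, ht₂⟩ := (Algebra.FormallyUnramified.iff_exists_tensorProduct (R := R) (S := A)).mp
    inferInstance
  have hflat : Module.Flat A (A ⊗[R] M) := Module.Flat.baseChange R A M
  -- `act x` is multiplication by `x : A ⊗ A` on `A ⊗ M`
  let act : A ⊗[R] A →ₐ[R] Module.End R (A ⊗[R] M) := Algebra.TensorProduct.lift
    (Algebra.lsmul R R (A ⊗[R] M))
    ((Module.End.lTensorAlgHom R M A).comp (Algebra.lsmul R R M))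
    (fun a b => TensorProduct.ext' fun c m => by
      change a • (c ⊗ₜ[R] (b • m)) = (a • c) ⊗ₜ[R] (b • m)
      rw [TensorProduct.smul_tmul'])
  have hact : ∀ (a b : A) (c : A) (m : M), act (a ⊗ₜ b) (c ⊗ₜ m) = (a * c) ⊗ₜ (b • m) := by
    intro a b c m
    simp only [act, Algebra.TensorProduct.lift_tmul, Module.End.mul_apply]
    change a • (c ⊗ₜ[R] (b • m)) = (a • c) ⊗ₜ[R] (b • m)
    rw [TensorProduct.smul_tmul']
  let μ : A ⊗[R] M →ₗ[A] M := TensorProduct.AlgebraTensorModule.lift
    (LinearMap.ringLmapEquivSelf A A (M →ₗ[R] M) |>.symm LinearMap.id)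
  have hμ : ∀ (a : A) (m : M), μ (a ⊗ₜ m) = a • m := by intros; simp [μ]
  have hsmul : ∀ (a : A) (z : A ⊗[R] M), act (a ⊗ₜ 1) z = a • z := fun a z => by
    induction z with
    | zero => simp
    | tmul c m => rw [hact, one_smul, TensorProduct.smul_tmul', smul_eq_mul]
    | add x y hx hy => rw [map_add, hx, hy, smul_add]
  let s : M →ₗ[A] A ⊗[R] M :=
    { toFun := fun m => act t (1 ⊗ₜ m)
      map_add' := fun m n => by rw [TensorProduct.tmul_add, map_add]
      map_smul' := fun a m => by
        have h0 : t * (1 ⊗ₜ[R] a) = (a ⊗ₜ[R] 1) * t := by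
          have := ht₁ a; linear_combination (exp := 1) this
        have h1 : act (1 ⊗ₜ[R] a) (1 ⊗ₜ[R] m) = 1 ⊗ₜ[R] (a • m) := by rw [hact, one_mul]
        rw [RingHom.id_apply, ← h1, ← hsmul a, ← Module.End.mul_apply, ← Module.End.mul_apply,
          ← map_mul, ← map_mul, h0] }
  refine Module.Flat.of_retract s μ (LinearMap.ext fun m => ?_)
  show μ (act t (1 ⊗ₜ m)) = m
  have : ∀ x : A ⊗[R] A, μ (act x (1 ⊗ₜ m)) = Algebra.TensorProduct.lmul' R x • m := fun x => by
    induction x with
    | zero => simp
    | tmul a b => simp [hact, hμ, mul_smul]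
    | add x y hx hy => simp only [map_add, LinearMap.add_apply, hx, hy, add_smul]
  rw [this, ht₂, one_smul]

end Groth.Agent.Hensel20
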