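import Groth.Agent.Henz21.LocalProps
import Groth.Agent.Henz21.Flat
import Groth.Agent.Hensel20.FlatUnram
import Mathlib.RingTheory.Flat.FaithfullyFlat.Algebra
import Mathlib.RingTheory.Etale.Locus

/-! The local stages of a henselization. -/

set_option autoImplicit false

open IsLocalRing

noncomputable section

namespace Groth.Agent.Hensel20

open Henz21

universe u

variable {R K : Type u} [CommRing R] [Field K] [Algebra R K]

/-- The prime of a point. -/
abbrev stagePrime (i : Pt R K) : Ideal i.S := RingHom.ker i.pt

instance stagePrime_isPrime (i : Pt R K) : (stagePrime i).IsPrime := RingHom.ker_isPrime _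

/-- The local ring of a point. -/
abbrev Stage (i : Pt R K) : Type u := Localization.AtPrime (stagePrime i)

theorem isUnit_incl (i : Pt R K) (y : (stagePrime i).primeCompl) : IsUnit (H.incl i (y : i.S)) :=
  H.isUnit_of_isUnit_proj (IsUnit.mk0 _ (by rw [H.proj_incl]; exact y.2))

/-- The map of a stage to the colimit. -/
def stageHom (i : Pt R K) : Stage i →ₐ[R] H R K :=
  IsLocalization.liftAlgHom (M := (stagePrime i).primeCompl) (f := H.incl i) (isUnit_incl i)

theorem stageHom_algebraMap (i : Pt R K) (s : i.S) :
    stageHom i (algebraMap i.S (Stage i) s) = H.incl i s := IsLocalization.lift_eq _ s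

instance stageAlgebra (i : Pt R K) : Algebra (Stage i) (H R K) := (stageHom i).toRingHom.toAlgebra

theorem stage_algebraMap_eq (i : Pt R K) (x : Stage i) :
    algebraMap (Stage i) (H R K) x = stageHom i x := rfl

instance stageTower (i : Pt R K) : IsScalarTower R (Stage i) (H R K) :=
  IsScalarTower.of_algebraMap_eq fun r => ((stageHom i).commutes r).symm

instance stage_formallyUnramified (i : Pt R K) : Algebra.FormallyUnramified R (Stage i) :=
  Algebra.FormallyUnramified.comp R i.S _

instance stage_essFiniteType (i : Pt R K) : Algebra.EssFiniteType R (Stage i) :=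
  Algebra.EssFiniteType.comp R i.S _

/-- The colimit is flat over every stage. -/
instance stage_flat (i : Pt R K) : Module.Flat (Stage i) (H R K) :=
  flat_of_formallyUnramified R (Stage i) (H R K)

instance stage_isLocalHom (i : Pt R K) : IsLocalHom (algebraMap (Stage i) (H R K)) := ⟨fun x hx => by
  obtain ⟨a, b, rfl⟩ := IsLocalization.exists_mk'_eq (stagePrime i).primeCompl x
  rw [IsLocalization.AtPrime.isUnit_mk'_iff]
  intro ha
  have h := hx.map (H.proj R K)
  rw [stage_algebraMap_eq] at h
  have h2 : stageHom i (IsLocalization.mk' _ a b) * H.incl i (b : i.S) = H.incl i a := by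
    rw [← stageHom_algebraMap, ← map_mul, IsLocalization.mk'_spec, stageHom_algebraMap]
  have h3 := congrArg (H.proj R K) h2
  rw [map_mul, H.proj_incl, H.proj_incl, show i.pt a = 0 from ha] at h3
  exact (h.mul ((IsUnit.mk0 _ b.2))).ne_zero h3⟩

instance stage_faithfullyFlat (i : Pt R K) : Module.FaithfullyFlat (Stage i) (H R K) :=
  Module.FaithfullyFlat.of_flat_of_isLocalHom

theorem stageHom_injective (i : Pt R K) : Function.Injective (stageHom i) :=
  FaithfulSMul.algebraMap_injective (Stage i) (H R K)

/-- Finitely many elements of the colimit come from one stage. -/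
theorem exists_stage {ι : Type*} (s : Finset ι) (f : ι → H R K) :
    ∃ i : Pt R K, ∀ k ∈ s, f k ∈ Set.range (stageHom i) := by
  classical
  suffices ∃ i : Pt R K, ∀ k ∈ s, f k ∈ Set.range (H.incl i) by
    obtain ⟨i, hi⟩ := this
    exact ⟨i, fun k hk => by
      obtain ⟨y, hy⟩ := hi k hk; exact ⟨_, (stageHom_algebraMap i y).trans hy⟩⟩
  induction s using Finset.induction_on with
  | empty => exact ⟨H.base R K, by simp⟩
  | insert a s ha ih =>
    obtain ⟨i, hi⟩ := ih
    obtain ⟨j, y, hy⟩ := H.exists_rep (f a)
    refine ⟨CategoryTheory.IsFiltered.max i j, fun k hk => ?_⟩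
    rcases Finset.mem_insert.mp hk with rfl | hk
    · exact ⟨_, (H.incl_φ (CategoryTheory.IsFiltered.rightToMax i j) y).trans hy⟩
    · obtain ⟨z, hz⟩ := hi k hk
      exact ⟨_, (H.incl_φ (CategoryTheory.IsFiltered.leftToMax i j) z).trans hz⟩

variable [IsLocalRing R] [IsLocalHom (algebraMap R K)]

theorem stagePrime_comap (i : Pt R K) :
    (stagePrime i).comap (algebraMap R i.S) = maximalIdeal R := by
  ext r
  rw [Ideal.mem_comap, RingHom.mem_ker, AlgHom.commutes, mem_maximalIdeal, mem_nonunits_iff,
    ← isUnit_map_iff (algebraMap R K), isUnit_iff_ne_zero, not_not]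

instance stage_isLocalHom' (i : Pt R K) : IsLocalHom (algebraMap R (Stage i)) := ⟨fun r hr => by
  by_contra h
  rw [IsScalarTower.algebraMap_apply R i.S (Stage i)] at hr
  exact (IsLocalization.AtPrime.to_map_mem_maximal_iff (Stage i) (stagePrime i) _).mpr
    (by rw [← Ideal.mem_comap, stagePrime_comap]; exact h) hr⟩

theorem stage_map_maximalIdeal (i : Pt R K) :
    (maximalIdeal R).map (algebraMap R (Stage i)) = maximalIdeal (Stage i) :=
  Algebra.FormallyUnramified.map_maximalIdeal

theorem stage_map_maximalIdeal_H (i : Pt R K) :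
    (maximalIdeal (Stage i)).map (algebraMap (Stage i) (H R K)) = maximalIdeal (H R K) := by
  rw [← stage_map_maximalIdeal, Ideal.map_map, ← IsScalarTower.algebraMap_eq, H.map_maximalIdeal]

instance stage_flat_base (i : Pt R K) : Module.Flat R (Stage i) :=
  Module.Flat.trans R i.S (Stage i)

instance H_faithfullyFlat : Module.FaithfullyFlat R (H R K) :=
  Module.FaithfullyFlat.of_flat_of_isLocalHom

omit [IsLocalHom (algebraMap R K)] [IsLocalRing R] in
theorem stage_noetherian [IsNoetherianRing R] (i : Pt R K) : IsNoetherianRing (Stage i) :=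
  have : IsNoetherianRing i.S := Algebra.FiniteType.isNoetherianRing R i.S
  IsLocalization.isNoetherianRing (stagePrime i).primeCompl _ inferInstance

end Groth.Agent.Hensel20
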