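import Groth.Agent.Hensel20.PairApi
import Mathlib.LinearAlgebra.Matrix.ToLin
import Mathlib.RingTheory.Finiteness.Projective
import Mathlib.LinearAlgebra.Matrix.Charpoly.Basic
import Mathlib.Algebra.Module.Projective
import Mathlib.RingTheory.OrzechProperty

/-! Finite projective modules over henselian pairs. -/

set_option autoImplicit false

open Polynomial TensorProduct

namespace Groth.Agent.Hensel20

universe u v w

variable {A : Type u} [CommRing A] {I : Ideal A}

lemma one_tmul_eq_zero_iff' {M : Type v} [AddCommGroup M] [Module A M] (m : M) :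
    (1 : A ⧸ I) ⊗ₜ[A] m = 0 ↔ m ∈ I • (⊤ : Submodule A M) := by
  rw [← (TensorProduct.quotTensorEquivQuotSMul M I).map_eq_zero_iff]
  have : (TensorProduct.quotTensorEquivQuotSMul M I) ((1 : A ⧸ I) ⊗ₜ[A] m) =
      Submodule.Quotient.mk m := by
    simpa using TensorProduct.quotTensorEquivQuotSMul_mk_tmul I (1 : A) m
  rw [this, Submodule.Quotient.mk_eq_zero]

lemma exists_one_tmul' {M : Type v} [AddCommGroup M] [Module A M] (z : (A ⧸ I) ⊗[A] M) :
    ∃ m : M, (1 : A ⧸ I) ⊗ₜ[A] m = z := by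
  induction z with
  | zero => exact ⟨0, by simp⟩
  | tmul a b =>
    obtain ⟨a, rfl⟩ := Ideal.Quotient.mk_surjective a
    refine ⟨a • b, ?_⟩
    rw [← TensorProduct.smul_tmul]
    simp [Algebra.smul_def]
  | add x y hx hy =>
    obtain ⟨b, rfl⟩ := hx
    obtain ⟨c, rfl⟩ := hy
    exact ⟨b + c, TensorProduct.tmul_add _ _ _⟩

/-- Idempotent matrices lift. -/
theorem exists_idempotent_matrix_lift [HenselianRing A I] {n : Type} [Fintype n] [DecidableEq n]
    (M₀ : Matrix n n (A ⧸ I)) (hM₀ : IsIdempotentElem M₀) :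
    ∃ E : Matrix n n A, IsIdempotentElem E ∧ E.map (Ideal.Quotient.mk I) = M₀ := by
  let q : Matrix n n A →+* Matrix n n (A ⧸ I) := (Ideal.Quotient.mk I).mapMatrix
  obtain ⟨M, hM⟩ : ∃ M : Matrix n n A, q M = M₀ := by
    choose f hf using Ideal.Quotient.mk_surjective (I := I)
    exact ⟨M₀.map f, by ext i j; simp [q, hf]⟩
  let χ := M.charpoly
  have hχ : χ.Monic := M.charpoly_monic
  let B := AdjoinRoot χ
  have : Module.Finite A B := hχ.finite_adjoinRoot
  let J := I.map (algebraMap A B)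
  -- `X ^ 2 - X` is nilpotent modulo `χ` and `I`.
  have hdvd : (Matrix.charpoly M₀) ∣ (X ^ 2 - X : (A ⧸ I)[X]) ^ Fintype.card n := by
    let C₀ : Matrix n n (A ⧸ I)[X] := M₀.map Polynomial.C
    have hC : IsIdempotentElem C₀ := by
      rw [IsIdempotentElem, ← Matrix.map_mul, hM₀.eq]
    refine ⟨(Matrix.scalar n (X : (A ⧸ I)[X]) + C₀ - 1).det, ?_⟩
    rw [Matrix.charpoly, ← Matrix.det_mul]
    have : Matrix.charmatrix M₀ * (Matrix.scalar n (X : (A ⧸ I)[X]) + C₀ - 1) =
        Matrix.scalar n (X ^ 2 - X : (A ⧸ I)[X]) := by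
      have hcomm := Matrix.scalar_commute (n := n) (X : (A ⧸ I)[X]) (fun _ => Commute.all _ _) C₀
      change (Matrix.scalar n (X : (A ⧸ I)[X]) - C₀) * _ = _
      rw [map_sub, map_pow, sq]
      simp only [sub_mul, mul_sub, mul_add, mul_one, hC.eq, hcomm.eq]
      abel
    rw [this, Matrix.scalar_apply, Matrix.det_diagonal, Finset.prod_const, Finset.card_univ]
  have hnil : AdjoinRoot.root χ * AdjoinRoot.root χ - AdjoinRoot.root χ ∈ J.radical := by
    refine ⟨Fintype.card n, ?_⟩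
    obtain ⟨c, hc⟩ := hdvd
    obtain ⟨c, rfl⟩ := Polynomial.map_surjective _ (Ideal.Quotient.mk_surjective (I := I)) c
    have h1 : (AdjoinRoot.root χ * AdjoinRoot.root χ - AdjoinRoot.root χ) ^ Fintype.card n =
        AdjoinRoot.mk χ ((X ^ 2 - X) ^ Fintype.card n - χ * c) := by simp [sq]
    rw [h1, ← AdjoinRoot.aeval_eq]
    refine aeval_mem_map_of_coeff (fun i => ?_) _
    rw [← Ideal.Quotient.eq_zero_iff_mem, ← coeff_map, Polynomial.map_sub, Polynomial.map_pow,
      Polynomial.map_sub, Polynomial.map_pow, Polynomial.map_X, Polynomial.map_mul]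
    rw [show χ.map (Ideal.Quotient.mk I) = M₀.charpoly by
      rw [← Matrix.charpoly_map, ← hM]; rfl, ← hc, sub_self, coeff_zero]
  obtain ⟨b, hb, hb'⟩ := exists_idem_sub_mem_of_radical Ideal.le_radical le_rfl hnil
  obtain ⟨e, he, heb⟩ := hasIdemLift B inferInstance b hb
  have hex : e - AdjoinRoot.root χ ∈ J.radical := by
    have := add_mem (Ideal.le_radical heb) hb'
    simpa using this
  obtain ⟨P, rfl⟩ := AdjoinRoot.mk_surjective e
  let φ : A[X] →ₐ[A] Matrix n n A := aeval M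
  have hφ : ∀ a b : A[X], AdjoinRoot.mk χ a = AdjoinRoot.mk χ b → φ a = φ b := by
    intro a b hab
    obtain ⟨c, hc⟩ := AdjoinRoot.mk_eq_mk.mp hab
    rw [← sub_eq_zero, ← map_sub, hc, map_mul]
    simp [φ, χ, Matrix.aeval_self_charpoly]
  have hE : IsIdempotentElem (φ P) := by
    rw [IsIdempotentElem, ← map_mul]
    exact hφ _ _ (by rw [map_mul]; exact he)
  refine ⟨φ P, hE, ?_⟩
  change q (φ P) = M₀
  obtain ⟨N, hN⟩ := hex
  have h2 : IsNilpotent (q (φ P) - M₀) := by
    refine ⟨N, ?_⟩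
    have h3 : AdjoinRoot.mk χ ((P - X) ^ N) ∈ J := by simpa using hN
    obtain ⟨y, hy, hyP⟩ : ∃ y ∈ I.map (Polynomial.C : A →+* A[X]),
        AdjoinRoot.mk χ y = AdjoinRoot.mk χ ((P - X) ^ N) := by
      refine (Ideal.mem_map_iff_of_surjective _ AdjoinRoot.mk_surjective).mp ?_
      rw [Ideal.map_map]
      exact h3
    have h4 : q (φ y) = 0 := by
      suffices I.map (Polynomial.C : A →+* A[X]) ≤ RingHom.ker (q.comp (φ : A[X] →+* Matrix n n A))
        from this hy
      rw [Ideal.map_le_iff_le_comap]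
      intro a ha
      rw [Ideal.mem_comap, RingHom.mem_ker]
      ext i j
      simp [q, φ, Matrix.algebraMap_matrix_apply, apply_ite, Ideal.Quotient.eq_zero_iff_mem.mpr ha]
    have h5 : q (φ ((P - X) ^ N)) = 0 := by rw [← hφ _ _ hyP]; exact h4
    simpa [φ, hM] using h5
  refine eq_of_isNilpotent_sub_of_isIdempotentElem_of_commute (hE.map q) hM₀ h2 ?_
  have : Commute (φ P) (φ X) := (Commute.all P X).map φ
  have := this.map q
  simpa [φ, hM] using this

/-- Finite projective modules lift. -/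
theorem exists_projective_lift [HenselianRing A I] (Q : Type u) [AddCommGroup Q]
    [Module (A ⧸ I) Q] [Module.Finite (A ⧸ I) Q] [Module.Projective (A ⧸ I) Q] :
    ∃ (P : Type u) (_ : AddCommGroup P) (_ : Module A P), Module.Finite A P ∧
      Module.Projective A P ∧ Nonempty ((A ⧸ I) ⊗[A] P ≃ₗ[A ⧸ I] Q) := by
  classical
  let := Module.compHom Q (Ideal.Quotient.mk I)
  have : IsScalarTower A (A ⧸ I) Q := ⟨fun a c x => by
    change (Ideal.Quotient.mk I a * c) • x = Ideal.Quotient.mk I a • c • x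
    rw [mul_smul]⟩
  obtain ⟨n, p, hp⟩ := Module.Finite.exists_fin' (A ⧸ I) Q
  obtain ⟨s, hs⟩ := Module.projective_lifting_property p LinearMap.id hp
  have hps : ∀ x, p (s x) = x := fun x => LinearMap.congr_fun hs x
  let M₀ : Matrix (Fin n) (Fin n) (A ⧸ I) := LinearMap.toMatrix' (s.comp p)
  have hM₀ : IsIdempotentElem M₀ := by
    rw [IsIdempotentElem, ← LinearMap.toMatrix'_comp]
    congr 1
    ext x
    simp [hps]
  obtain ⟨E, hE, hEM⟩ := exists_idempotent_matrix_lift M₀ hM₀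
  let ε : (Fin n → A) →ₗ[A] (Fin n → A) := Matrix.toLin' E
  have hε : ∀ v, ε (ε v) = ε v := fun v => by
    change (Matrix.toLin' E).comp (Matrix.toLin' E) v = _
    rw [← Matrix.toLin'_mul, hE.eq]
  let P := LinearMap.range ε
  have hsplit : (ε.rangeRestrict).comp P.subtype = LinearMap.id := by
    ext ⟨_, w, rfl⟩ : 1
    exact Subtype.ext (hε w)
  let red : (Fin n → A) →ₗ[A] (Fin n → A ⧸ I) :=
    (Algebra.linearMap A (A ⧸ I)).compLeft (Fin n)
  have hred : ∀ v, red (ε v) = s (p (red v)) := by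
    intro v
    have h1 : red (ε v) = M₀.mulVec (red v) := by
      funext i
      change Ideal.Quotient.mk I ((E.mulVec v) i) = (M₀.mulVec fun j => Ideal.Quotient.mk I (v j)) i
      rw [RingHom.map_mulVec, hEM]
      rfl
    rw [h1, ← Matrix.toLin'_apply, Matrix.toLin'_toMatrix']
    rfl
  let θ : P →ₗ[A] Q := (p.restrictScalars A).comp (red.comp P.subtype)
  refine ⟨P, inferInstance, inferInstance,
    Module.Finite.of_surjective ε.rangeRestrict ε.surjective_rangeRestrict,
    Module.Projective.of_split P.subtype ε.rangeRestrict hsplit,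
    ⟨LinearEquiv.ofBijective (θ.liftBaseChange (A ⧸ I)) ⟨?_, ?_⟩⟩⟩
  · rw [injective_iff_map_eq_zero]
    intro z hz
    obtain ⟨⟨v, w, rfl⟩, rfl⟩ := exists_one_tmul' z
    rw [LinearMap.liftBaseChange_one_tmul] at hz
    have h0 : red (ε w) = 0 := by
      have h1 : p (red (ε w)) = 0 := hz
      rw [← hε w, hred, h1, map_zero]
    rw [one_tmul_eq_zero_iff']
    have hmem : ε w ∈ I • (⊤ : Submodule A (Fin n → A)) := by
      rw [pi_eq_sum_univ (ε w)]
      refine Submodule.sum_mem _ fun i _ => Submodule.smul_mem_smul ?_ Submodule.mem_top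
      exact Ideal.Quotient.eq_zero_iff_mem.mp (congrFun h0 i)
    have h2 : ε.rangeRestrict (ε w) ∈ (I • (⊤ : Submodule A (Fin n → A))).map ε.rangeRestrict :=
      ⟨_, hmem, rfl⟩
    rw [Submodule.map_smul'', Submodule.map_top, LinearMap.range_rangeRestrict] at h2
    convert h2 using 1
    exact Subtype.ext (hε w).symm
  · intro x
    obtain ⟨v, hv⟩ : ∃ v, red v = s x := by
      choose f hf using Ideal.Quotient.mk_surjective (I := I)
      exact ⟨fun i => f (s x i), funext fun i => hf _⟩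
    refine ⟨(1 : A ⧸ I) ⊗ₜ[A] ⟨ε v, v, rfl⟩, ?_⟩
    rw [LinearMap.liftBaseChange_one_tmul]
    change p (red (ε v)) = x
    rw [hred, hv, hps, hps]

/-- Finite projective modules with isomorphic reductions are isomorphic. -/
theorem nonempty_equiv_of_baseChange (hI : I ≤ Ideal.jacobson ⊥) (P₁ P₂ : Type u) [AddCommGroup P₁]
    [Module A P₁] [AddCommGroup P₂] [Module A P₂] [Module.Finite A P₁] [Module.Projective A P₁]
    [Module.Finite A P₂] [Module.Projective A P₂]
    (e : (A ⧸ I) ⊗[A] P₁ ≃ₗ[A ⧸ I] (A ⧸ I) ⊗[A] P₂) : Nonempty (P₁ ≃ₗ[A] P₂) := by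
  let r₁ : P₁ →ₗ[A] (A ⧸ I) ⊗[A] P₁ := TensorProduct.mk A (A ⧸ I) P₁ 1
  let r₂ : P₂ →ₗ[A] (A ⧸ I) ⊗[A] P₂ := TensorProduct.mk A (A ⧸ I) P₂ 1
  have key : ∀ {M N : Type u} [AddCommGroup M] [Module A M] [AddCommGroup N] [Module A N]
      [Module.Finite A N] [Module.Projective A M]
      (g : (A ⧸ I) ⊗[A] M ≃ₗ[A ⧸ I] (A ⧸ I) ⊗[A] N),
      ∃ f : M →ₗ[A] N, Function.Surjective f := by
    intro M N _ _ _ _ _ _ g
    obtain ⟨f, hf⟩ := Module.projective_lifting_property (TensorProduct.mk A (A ⧸ I) N 1)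
      ((g.toLinearMap.restrictScalars A).comp (TensorProduct.mk A (A ⧸ I) M 1))
      (fun z => exists_one_tmul' z)
    refine ⟨f, LinearMap.range_eq_top.mp (eq_top_iff.mpr ?_)⟩
    refine Submodule.le_of_le_smul_of_le_jacobson_bot (I := I) Module.Finite.fg_top hI fun y _ => ?_
    obtain ⟨x, hx⟩ := exists_one_tmul' (g.symm ((1 : A ⧸ I) ⊗ₜ[A] y))
    have h1 : y - f x ∈ I • (⊤ : Submodule A N) := by
      rw [← one_tmul_eq_zero_iff', TensorProduct.tmul_sub, sub_eq_zero]
      have h2 := LinearMap.congr_fun hf x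
      simp only [LinearMap.comp_apply, LinearMap.restrictScalars_apply, TensorProduct.mk_apply] at h2
      rw [h2, hx]
      exact (g.apply_symm_apply _).symm
    rw [show y = f x + (y - f x) by abel]
    exact Submodule.add_mem_sup ⟨x, rfl⟩ h1
  obtain ⟨f, hf⟩ := key e
  obtain ⟨g, hg⟩ := key e.symm
  have : Function.Bijective (g.comp f) :=
    OrzechProperty.bijective_of_surjective_endomorphism _ (hg.comp hf)
  exact ⟨LinearEquiv.ofBijective f ⟨fun a b h => this.1 (congrArg g h), hf⟩⟩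

end Groth.Agent.Hensel20
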