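import Groth.Agent.Hensel20.Jacobian
import Groth.Agent.Hensel20.Projective
import Mathlib.RingTheory.Smooth.Basic
import Mathlib.RingTheory.Nakayama

/-! Smooth algebras and henselian pairs. -/

set_option autoImplicit false

open MvPolynomial TensorProduct

namespace Groth.Agent.Hensel20

universe u

variable {A : Type u} [CommRing A]

theorem pderiv_mem_of_mem_sq {n : ℕ} {K : Ideal (MvPolynomial (Fin n) A)}
    {p : MvPolynomial (Fin n) A} (hp : p ∈ K ^ 2) (k : Fin n) : pderiv k p ∈ K := by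
  rw [sq] at hp
  refine Submodule.mul_induction_on hp (fun a ha b hb => ?_) fun a b ha hb => ?_
  · rw [pderiv_mul]; exact add_mem (K.mul_mem_left _ hb) (K.mul_mem_right _ ha)
  · rw [map_add]; exact add_mem ha hb

/-- A formally smooth finitely presented algebra has generators of its relations split by the
Jacobian. -/
theorem exists_relations_split (S : Type u) [CommRing S] [Algebra A S] [Algebra.Smooth A S] :
    ∃ (n r : ℕ) (π : MvPolynomial (Fin n) A →ₐ[A] S) (g : Fin r → MvPolynomial (Fin n) A)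
      (Λ : Matrix (Fin n) (Fin r) (MvPolynomial (Fin n) A)), Function.Surjective π ∧
      Ideal.span (Set.range g) = RingHom.ker π ∧
      ∀ j, g j - ∑ k, pderiv k (g j) * ∑ l, Λ k l * g l ∈ RingHom.ker π ^ 2 := by
  obtain ⟨n, π, hπ, hfg⟩ := Algebra.FinitePresentation.out (R := A) (A := S)
  obtain ⟨r, g, hg⟩ := Submodule.fg_iff_exists_fin_generating_family.mp hfg
  let P := MvPolynomial (Fin n) A
  let K : Ideal P := RingHom.ker π
  change Ideal.span (Set.range g) = K at hg
  let m : P →ₐ[A] P ⧸ K ^ 2 := Ideal.Quotient.mkₐ A _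
  let π₂ : P ⧸ K ^ 2 →ₐ[A] S := Ideal.Quotient.liftₐ _ π fun a ha =>
    RingHom.mem_ker.mp (Ideal.pow_le_self two_ne_zero ha)
  have hπ₂ : Function.Surjective π₂ := fun y => by
    obtain ⟨p, rfl⟩ := hπ y; exact ⟨m p, rfl⟩
  have hnil : IsNilpotent (RingHom.ker π₂) := by
    have : RingHom.ker π₂ ≤ K.map m := fun y hy => by
      obtain ⟨p, rfl⟩ := Ideal.Quotient.mk_surjective y
      exact Ideal.mem_map_of_mem m (show p ∈ K from hy)
    refine ⟨2, le_bot_iff.mp ((Ideal.pow_right_mono this 2).trans ?_)⟩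
    rw [← Ideal.map_pow, Ideal.map_le_iff_le_comap]
    intro p hp
    exact Ideal.Quotient.eq_zero_iff_mem.mpr hp
  let s : S →ₐ[A] P ⧸ K ^ 2 := Algebra.FormallySmooth.liftOfSurjective (AlgHom.id A S) π₂ hπ₂ hnil
  have hs : ∀ y, π₂ (s y) = y := Algebra.FormallySmooth.liftOfSurjective_apply _ π₂ hπ₂ hnil
  choose y hy using fun k => Ideal.Quotient.mk_surjective (s (π (X k)))
  let c : Fin n → P := fun k => y k - X k
  have hc : ∀ k, c k ∈ K := fun k => by
    show π (y k - X k) = 0
    rw [map_sub, show π (y k) = π₂ (s (π (X k))) from congrArg π₂ (hy k), hs, sub_self]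
  choose Λ hΛ using fun k => (Ideal.mem_span_range_iff_exists_fun.mp (hg ▸ hc k))
  refine ⟨n, r, π, g, Matrix.of fun k l => - Λ k l, hπ, hg, fun j => ?_⟩
  have h1 : s.comp π = m.comp (aeval y) := MvPolynomial.algHom_ext fun k => by
    rw [AlgHom.comp_apply, AlgHom.comp_apply, aeval_X]; exact (hy k).symm
  have h2 : aeval y (g j) ∈ K ^ 2 := by
    rw [← Ideal.Quotient.eq_zero_iff_mem]
    have h3 : g j ∈ K := hg ▸ Ideal.subset_span ⟨j, rfl⟩
    exact (DFunLike.congr_fun h1 (g j)).symm.trans ((congrArg s h3).trans (map_zero s))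
  have h4 := aeval_add_sub_mem (X : Fin n → P) c hc (g j)
  rw [show (X : Fin n → P) + c = y from funext fun k => add_sub_cancel _ _] at h4
  simp only [aeval_X_left_apply] at h4
  have h5 := sub_mem h2 h4
  have h6 : ∀ k, ∑ l, Matrix.of (fun k l => - Λ k l) k l * g l = - c k := fun k => by
    simp only [Matrix.of_apply, neg_mul, Finset.sum_neg_distrib, hΛ k]
  simp only [h6, mul_neg, Finset.sum_neg_distrib, sub_neg_eq_add]
  convert h5 using 1
  ring

/-- Points of smooth algebras modulo a henselian ideal lift. -/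
theorem exists_lift_of_smooth {I : Ideal A} [HenselianRing A I] (S : Type u) [CommRing S]
    [Algebra A S] [Algebra.Smooth A S] (σ : S →ₐ[A] A ⧸ I) :
    ∃ τ : S →ₐ[A] A, (Ideal.Quotient.mkₐ A I).comp τ = σ := by
  classical
  obtain ⟨n, r, π, g, Λ, hπ, hg, hΛ⟩ := exists_relations_split (A := A) S
  let K : Ideal (MvPolynomial (Fin n) A) := RingHom.ker π
  have hgK : ∀ j, g j ∈ K := fun j => hg.le (Ideal.subset_span ⟨j, rfl⟩)
  choose a ha using fun k => Ideal.Quotient.mk_surjective (σ (π (X k)))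
  let q : A →ₐ[A] A ⧸ I := Ideal.Quotient.mkₐ A I
  have hσ : ∀ p, q (aeval a p) = σ (π p) := fun p => by
    have : q.comp (aeval a) = σ.comp π := MvPolynomial.algHom_ext fun k => by
      rw [AlgHom.comp_apply, AlgHom.comp_apply, aeval_X]; exact ha k
    exact DFunLike.congr_fun this p
  have hKI : ∀ p ∈ K, aeval a p ∈ I := fun p hp => by
    rw [← Ideal.Quotient.eq_zero_iff_mem]
    exact (hσ p).trans (by rw [show π p = 0 from hp, map_zero])
  let D : Matrix (Fin r) (Fin n) A := jac g a
  let L : Matrix (Fin n) (Fin r) A := Λ.map (aeval a)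
  let D₀ := D.map q
  let L₀ := L.map q
  -- the Jacobian relation modulo `I`
  have hDLD : D₀ * L₀ * D₀ = D₀ := by
    ext j m
    have h1 := hKI _ (pderiv_mem_of_mem_sq (hΛ j) m)
    rw [← Ideal.Quotient.eq_zero_iff_mem] at h1
    have hz : ∀ l, q (aeval a (g l)) = 0 := fun l => by
      exact Ideal.Quotient.eq_zero_iff_mem.mpr (hKI _ (hgK l))
    change q (aeval a _) = 0 at h1
    simp only [map_sub, map_sum, map_mul, pderiv_mul, map_add, hz, mul_zero,
      Finset.sum_const_zero, zero_mul, add_zero, zero_add, sub_eq_zero] at h1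
    rw [Matrix.mul_assoc, Matrix.mul_apply]
    refine Eq.trans ?_ h1.symm
    refine Finset.sum_congr rfl fun k _ => ?_
    rw [Matrix.mul_apply]
    rfl
  have hidem : IsIdempotentElem (1 - L₀ * D₀) := by
    refine IsIdempotentElem.one_sub ?_
    show L₀ * D₀ * (L₀ * D₀) = L₀ * D₀
    rw [Matrix.mul_assoc, ← Matrix.mul_assoc D₀, hDLD]
  obtain ⟨e, he, heq⟩ := exists_idempotent_matrix_lift _ hidem
  let M : Matrix (Fin n) (Fin r) A := (1 - e) * L
  let G : Fin n → MvPolynomial (Fin n) A := fun i =>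
    (∑ j, C (M i j) * g j) + ∑ k, C (e i k) * (X k - C (a k))
  have hGa : ∀ i, aeval a (G i) ∈ I := fun i => by
    simp only [G, map_add, map_sum, map_mul, map_sub, aeval_X, aeval_C, Algebra.algebraMap_self,
      RingHom.id_apply, sub_self, mul_zero, Finset.sum_const_zero, add_zero]
    exact sum_mem fun j _ => I.mul_mem_left _ (hKI _ (hgK j))
  have hjac : jac G a = M * D + e := by
    ext i m
    simp [jac, G, D, Matrix.mul_apply, pderiv_X, Pi.single_apply, map_sum, apply_ite,
      mul_ite, Finset.sum_ite_eq]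
  have heq' : e.map q = 1 - L₀ * D₀ := heq
  have hu : IsUnit (Ideal.Quotient.mk I (jac G a).det) := by
    show IsUnit (q _)
    have h1 : (M * D + e).map q = 1 := by
      rw [Matrix.map_add _ (map_add q), show (M * D).map q = M.map q * D₀ from Matrix.map_mul,
        show M.map q = (1 - e).map q * L₀ from Matrix.map_mul,
        show (1 - e).map q = 1 - e.map q by
          rw [Matrix.map_sub _ (map_sub q), Matrix.map_one _ (map_zero q) (map_one q)],
        heq', sub_sub_cancel, Matrix.mul_assoc (L₀ * D₀),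
        show L₀ * D₀ * (L₀ * D₀) = L₀ * D₀ by rw [Matrix.mul_assoc, ← Matrix.mul_assoc D₀, hDLD],
        add_sub_cancel]
    rw [AlgHom.map_det, hjac, AlgHom.mapMatrix_apply, h1, Matrix.det_one]
    exact isUnit_one
  obtain ⟨x, hx, hxa⟩ := exists_root_of_jacobian G a hGa hu
  let v : Fin r → A := fun j => aeval x (g j)
  let V : Ideal A := Ideal.span (Set.range v)
  have hcong : ∀ p : MvPolynomial (Fin n) A, aeval x p - aeval a p ∈ I := fun p => by
    have : q.comp (aeval x) = q.comp (aeval a) := MvPolynomial.algHom_ext fun k => by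
      simp only [AlgHom.comp_apply, aeval_X]
      exact Ideal.Quotient.eq.mpr (hxa k)
    exact Ideal.Quotient.eq.mp (DFunLike.congr_fun this p)
  have hVI : V ≤ I := by
    rw [Ideal.span_le]; rintro _ ⟨j, rfl⟩
    simpa [v] using add_mem (hcong (g j)) (hKI _ (hgK j))
  have hKV : ∀ p ∈ K, aeval x p ∈ V := fun p hp => by
    have : K ≤ V.comap (aeval x) := by
      show RingHom.ker π ≤ _
      rw [← hg, Ideal.span_le]; rintro _ ⟨j, rfl⟩
      exact Ideal.subset_span ⟨j, rfl⟩
    exact this hp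
  have hv : ∀ j, v j ∈ V := fun j => Ideal.subset_span ⟨j, rfl⟩
  have hLv : (1 - e).mulVec (L.mulVec v) = 0 := by
    have hG : M.mulVec v + e.mulVec (x - a) = 0 := funext fun i => by
      simpa [G, v, Matrix.mulVec, dotProduct] using hx i
    have := congrArg (1 - e).mulVec hG
    rw [Matrix.mulVec_add, Matrix.mulVec_mulVec, Matrix.mulVec_mulVec,
      show (1 - e) * e = 0 by rw [sub_mul, one_mul, he.eq, sub_self],
      Matrix.zero_mulVec, add_zero, Matrix.mulVec_zero, show (1 - e) * M = M by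
        rw [← Matrix.mul_assoc, he.one_sub.eq]] at this
    rw [Matrix.mulVec_mulVec]; exact this
  have hDe : ∀ j k, (D * e) j k ∈ I := fun j k => by
    rw [← Ideal.Quotient.eq_zero_iff_mem]
    show ((D * e).map q) j k = 0
    rw [Matrix.map_mul, heq', Matrix.mul_sub, Matrix.mul_one, ← Matrix.mul_assoc, hDLD, sub_self]
    rfl
  have hDLv : ∀ j, (D.mulVec (L.mulVec v)) j ∈ I * V := fun j => by
    rw [Matrix.sub_mulVec, Matrix.one_mulVec, sub_eq_zero] at hLv
    rw [hLv, Matrix.mulVec_mulVec, Matrix.mulVec]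
    refine sum_mem fun k _ => Ideal.mul_mem_mul (hDe j k) ?_
    simp only [Matrix.mulVec, dotProduct]
    exact sum_mem fun l _ => V.mul_mem_left _ (hv l)
  have hmem : ∀ j, v j ∈ I * V := fun j => by
    have h1 : aeval x (g j - ∑ k, pderiv k (g j) * ∑ l, Λ k l * g l) ∈ I * V := by
      have h := Ideal.mem_map_of_mem (aeval x) (hΛ j)
      rw [Ideal.map_pow, sq] at h
      have hle : K.map (aeval x) ≤ V := Ideal.map_le_iff_le_comap.mpr fun p hp => hKV p hp
      exact Ideal.mul_mono (hle.trans hVI) hle h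
    have h2 : aeval x (∑ k, pderiv k (g j) * ∑ l, Λ k l * g l) - (D.mulVec (L.mulVec v)) j
        ∈ I * V := by
      simp only [map_sum, map_mul, Matrix.mulVec, dotProduct, ← Finset.sum_sub_distrib]
      refine sum_mem fun k _ => ?_
      rw [Finset.mul_sum, Finset.mul_sum, ← Finset.sum_sub_distrib]
      refine sum_mem fun l _ => ?_
      rw [← mul_assoc, ← mul_assoc, ← sub_mul]
      refine Ideal.mul_mem_mul ?_ (hv l)
      have := sub_mem (I.mul_mem_left (aeval x (pderiv k (g j))) (hcong (Λ k l)))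
        (I.mul_mem_right (aeval a (Λ k l)) (neg_mem (hcong (pderiv k (g j)))))
      convert this using 1
      simp only [D, L, jac, Matrix.of_apply, Matrix.map_apply]
      ring
    have := add_mem (add_mem h1 h2) (hDLv j)
    rw [map_sub] at this
    simpa [v] using this
  have hV : V = ⊥ := by
    refine Submodule.eq_bot_of_le_smul_of_le_jacobson_bot I V (Submodule.fg_span (Set.finite_range v))
      ?_ (HenselianRing.jac (I := I))
    exact Ideal.span_le.mpr (by rintro _ ⟨j, rfl⟩; exact hmem j)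
  let τ₀ : (MvPolynomial (Fin n) A ⧸ K) →ₐ[A] A := Ideal.Quotient.liftₐ K (aeval x) fun p hp => by
    have := hKV p hp; rwa [hV, Ideal.mem_bot] at this
  let τ : S →ₐ[A] A := τ₀.comp (Ideal.quotientKerAlgEquivOfSurjective hπ).symm.toAlgHom
  refine ⟨τ, AlgHom.ext fun y => ?_⟩
  obtain ⟨p, rfl⟩ := hπ y
  have : (Ideal.quotientKerAlgEquivOfSurjective hπ).symm (π p) = Ideal.Quotient.mk K p :=
    (Ideal.quotientKerAlgEquivOfSurjective hπ).symm_apply_eq.mpr rfl
  show q (τ₀ ((Ideal.quotientKerAlgEquivOfSurjective hπ).symm (π p))) = σ (π p)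
  rw [this, ← hσ]
  exact Ideal.Quotient.eq.mpr (hcong p)

/-- Relative version. -/
theorem exists_algHom_lift_of_smooth {R : Type u} [CommRing R] (S : Type u) [CommRing S]
    [Algebra R S] [Algebra.Smooth R S] [Algebra R A] (I : Ideal A) [HenselianRing A I]
    (σ : S →ₐ[R] A ⧸ I) : ∃ τ : S →ₐ[R] A, (Ideal.Quotient.mkₐ R I).comp τ = σ := by
  let σ' : A ⊗[R] S →ₐ[A] A ⧸ I :=
    Algebra.TensorProduct.lift (Algebra.ofId A (A ⧸ I)) σ fun _ _ => .all _ _
  obtain ⟨τ, hτ⟩ := exists_lift_of_smooth (A ⊗[R] S) σ'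
  refine ⟨(τ.restrictScalars R).comp Algebra.TensorProduct.includeRight, AlgHom.ext fun s => ?_⟩
  have := DFunLike.congr_fun hτ ((1 : A) ⊗ₜ[R] s)
  simp [σ'] at this
  exact this

end Groth.Agent.Hensel20
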