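import Groth.Agent.Hensel20.FormalFibreConnected
import Groth.Agent.EGA4H10.NormalFlat
import Groth.Agent.EGA4H10.CMCompletion
import Mathlib.RingTheory.LocalProperties.Reduced
import Mathlib.RingTheory.Nilpotent.GeometricallyReduced
import Mathlib.RingTheory.Ideal.MinimalPrime.Noetherian
import Mathlib.RingTheory.Localization.Submodule
import Mathlib.FieldTheory.IntermediateField.Adjoin.Algebra

/-! Geometrically normal formal fibres: reducedness and integrality of the completion. -/

set_option autoImplicit false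

open IsLocalRing TensorProduct

namespace Groth.Agent.Hensel20

universe u

theorem isReduced_of_isNormalRing {R : Type u} [CommRing R] (h : EGA4.IsNormalRing R) :
    IsReduced R :=
  isReduced_ofLocalizationMaximal R fun m _ => by
    have := (h m).1
    infer_instance

theorem geomReduced_of_geomNormal {k S : Type u} [Field k] [CommRing S] [Algebra k S]
    (h : EGA4.IsGeomNormal k S) : Algebra.IsGeometricallyReduced k S := by
  classical
  refine (Algebra.isGeometricallyReduced_field_iff k S).2 ⟨fun x hx => ?_⟩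
  obtain ⟨s, rfl⟩ := TensorProduct.exists_finset x
  let L := IntermediateField.adjoin k ((s.image Prod.fst : Finset _) : Set (AlgebraicClosure k))
  have : FiniteDimensional k L :=
    IntermediateField.finiteDimensional_adjoin fun z _ => Algebra.IsIntegral.isIntegral z
  have hred : IsReduced (L ⊗[k] S) := isReduced_of_isNormalRing (h L inferInstance)
  let φ : L ⊗[k] S →ₐ[k] AlgebraicClosure k ⊗[k] S :=
    Algebra.TensorProduct.map L.val (AlgHom.id k S)
  have hφ : Function.Injective φ :=
    Module.Flat.rTensor_preserves_injective_linearMap (M := S) L.val.toLinearMap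
      Subtype.val_injective
  have hmem : (∑ p ∈ s, p.1 ⊗ₜ[k] p.2) ∈ φ.range := by
    refine Subalgebra.sum_mem _ fun p hp => ?_
    exact ⟨(⟨p.1, IntermediateField.subset_adjoin k _
      (Finset.mem_image_of_mem Prod.fst hp)⟩ : L) ⊗ₜ p.2, rfl⟩
  obtain ⟨y, hy⟩ := hmem
  have hy' : φ y = ∑ p ∈ s, p.1 ⊗ₜ[k] p.2 := hy
  rw [← hy'] at hx ⊢
  obtain ⟨n, hn⟩ := hx
  rw [IsNilpotent.eq_zero (x := y) ⟨n, hφ ((map_pow φ.toRingHom y n).trans (hn.trans (map_zero φ.toRingHom).symm))⟩, map_zero]

theorem hasGeomReducedFormalFibres_of_normal {A : Type u} [CommRing A] [IsLocalRing A]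
    (h : EGA4.HasGeomNormalFormalFibres A) : EGA4.HasGeomReducedFormalFibres A :=
  fun p _ => geomReduced_of_geomNormal (h p)

/-- A Noetherian normal ring with connected spectrum is a domain. -/
theorem isDomain_of_isNormalRing {R : Type u} [CommRing R] [IsNoetherianRing R]
    (h : EGA4.IsNormalRing R) [ConnectedSpace (PrimeSpectrum R)] : IsDomain R := by
  classical
  have : IsReduced R := isReduced_of_isNormalRing h
  have : Nontrivial R := PrimeSpectrum.nonempty_iff_nontrivial.mp inferInstance
  have hfin : (minimalPrimes R).Finite := minimalPrimes.finite_of_isNoetherianRing R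
  have huniq : ∀ (m : Ideal R) [m.IsPrime] (P Q : Ideal R), P ∈ minimalPrimes R →
      Q ∈ minimalPrimes R → P ≤ m → Q ≤ m → P = Q := by
    intro m _ P Q hP hQ hPm hQm
    have := (h m).1
    have key : ∀ P ∈ minimalPrimes R, P ≤ m →
        P = RingHom.ker (algebraMap R (Localization.AtPrime m)) := by
      intro P hP hPm
      have hPp : P.IsPrime := hP.1.1
      have hle : RingHom.ker (algebraMap R (Localization.AtPrime m)) ≤ P := by
        intro x hx
        obtain ⟨⟨c, hc⟩, hcx⟩ := (IsLocalization.map_eq_zero_iff m.primeCompl _ x).1 hx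
        exact (hPp.mem_or_mem (by rw [hcx]; exact P.zero_mem)).resolve_left fun h' => hc (hPm h')
      exact le_antisymm (hP.2 ⟨RingHom.ker_isPrime _, bot_le⟩ hle) hle
    rw [key P hP hPm, key Q hQ hQm]
  obtain ⟨P, hP, -⟩ := Ideal.exists_minimalPrimes_le (I := (⊥ : Ideal R))
    (J := (PrimeSpectrum.asIdeal (Classical.arbitrary (PrimeSpectrum R)))) bot_le
  have hclopen : IsClopen (PrimeSpectrum.zeroLocus (P : Set R)) := by
    refine ⟨PrimeSpectrum.isClosed_zeroLocus _, isClosed_compl_iff.1 ?_⟩
    have hrest : (PrimeSpectrum.zeroLocus (P : Set R))ᶜ =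
        ⋃ Q ∈ minimalPrimes R \ {P}, PrimeSpectrum.zeroLocus (Q : Set R) := by
      ext q
      simp only [Set.mem_compl_iff, PrimeSpectrum.mem_zeroLocus, Set.mem_iUnion,
        Set.mem_sdiff, Set.mem_singleton_iff, exists_prop]
      constructor
      · intro hq
        obtain ⟨Q, hQ, hQle⟩ := Ideal.exists_minimalPrimes_le (I := (⊥ : Ideal R))
          (J := q.asIdeal) bot_le
        exact ⟨Q, ⟨hQ, fun hQP => hq (by subst hQP; exact hQle)⟩, hQle⟩
      · rintro ⟨Q, ⟨hQ, hne⟩, hQle⟩ hq
        exact hne (huniq q.asIdeal Q P hQ hP hQle hq)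
    rw [hrest]
    exact (hfin.sdiff).isClosed_biUnion fun Q _ => PrimeSpectrum.isClosed_zeroLocus _
  have hne : (PrimeSpectrum.zeroLocus (P : Set R)).Nonempty :=
    ⟨⟨P, hP.1.1⟩, fun x hx => hx⟩
  have huniv := hclopen.eq_univ hne
  have hPbot : P = ⊥ := by
    refine eq_bot_iff.2 fun x hx => ?_
    have hnil : x ∈ nilradical R := by
      rw [nilradical_eq_sInf]
      refine Submodule.mem_sInf.2 fun q hq => ?_
      have h1 : (⟨q, hq⟩ : PrimeSpectrum R) ∈ PrimeSpectrum.zeroLocus (P : Set R) :=
        huniv ▸ Set.mem_univ _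
      exact h1 hx
    rwa [nilradical_eq_zero] at hnil
  have : (⊥ : Ideal R).IsPrime := hPbot ▸ hP.1.1
  exact IsDomain.of_bot_isPrime R

theorem isDomain_cpl (A : Type u) [CommRing A] [IsNoetherianRing A] [HenselianLocalRing A]
    [IsDomain A] (h : EGA4.HasGeomNormalFormalFibres A) : IsDomain (EGA4.Cpl A) := by
  let K := (⊥ : Ideal A).ResidueField
  let R := K ⊗[A] EGA4.Cpl A
  have hconn : ConnectedSpace (PrimeSpectrum R) :=
    connectedSpace_tensor_cpl A (hasGeomReducedFormalFibres_of_normal h) K
  have hnormal : EGA4.IsNormalRing R :=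
    EGA4H10.isNormalRing_of_ringEquiv (Algebra.TensorProduct.lid K R).toRingEquiv
      (h ⊥ K (Module.Finite.self K))
  have : IsNoetherianRing (EGA4.Cpl A) := EGA4H10.isNoetherianRing_cpl (A := A)
  have : IsNoetherianRing R :=
    have : IsNoetherianRing (EGA4.Cpl A ⊗[A] K) :=
      Algebra.EssFiniteType.isNoetherianRing (EGA4.Cpl A) _
    isNoetherianRing_of_ringEquiv _ (Algebra.TensorProduct.comm A (EGA4.Cpl A) K).toRingEquiv
  have : IsDomain R := isDomain_of_isNormalRing hnormal
  have hinj : Function.Injective (algebraMap A K) := by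
    rw [injective_iff_map_eq_zero]
    exact fun a ha => by simpa using Ideal.algebraMap_residueField_eq_zero.1 ha
  exact Function.Injective.isDomain (Algebra.TensorProduct.includeRight : EGA4.Cpl A →ₐ[A] R).toRingHom
    (Algebra.TensorProduct.includeRight_injective hinj)

end Groth.Agent.Hensel20
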