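import Groth.Agent.Henz21.FaithfullyFlat

/-! Residue field and truncations of a henselization. -/

set_option autoImplicit false

open IsLocalRing

namespace Groth.Agent.Hensel20

universe u

variable {R : Type u} [CommRing R] [IsLocalRing R] (S : Type u) [CommRing S] [IsLocalRing S]
  [Algebra R S] [IsLocalHom (algebraMap R S)] [Hensel.IsHenselization R S]

theorem henselization_residue_surjective :
    Function.Surjective (ResidueField.map (algebraMap R S)) := by
  intro c
  obtain ⟨s, rfl⟩ := residue_surjective c
  obtain ⟨x, rfl⟩ := (Henz21.henselizationEquiv (R := R) S).surjective s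
  obtain ⟨r, hr⟩ := residue_surjective (Henz21.H.proj R (ResidueField R) x)
  refine ⟨residue R r, ?_⟩
  rw [ResidueField.map_residue, ← sub_eq_zero, ← map_sub, residue_eq_zero_iff,
    ← (Henz21.henselizationEquiv (R := R) S).commutes r, ← map_sub, mem_maximalIdeal,
    mem_nonunits_iff, isUnit_map_iff, ← mem_nonunits_iff, ← mem_maximalIdeal,
    Henz21.H.maximalIdeal_eq, RingHom.mem_ker, map_sub, AlgHom.commutes, ← hr,
    ResidueField.algebraMap_eq, sub_self]

theorem henselization_exists_sub_mem (n : ℕ) (x : S) :
    ∃ r : R, x - algebraMap R S r ∈ (maximalIdeal R ^ n).map (algebraMap R S) := by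
  induction n generalizing x with
  | zero => exact ⟨0, by simp [Ideal.map_top]⟩
  | succ k ih =>
    obtain ⟨r, hr⟩ := ih x
    have h1 : ∀ y ∈ (maximalIdeal R ^ k).map (algebraMap R S),
        ∃ a : R, y - algebraMap R S a ∈ (maximalIdeal R ^ (k + 1)).map (algebraMap R S) := by
      intro y hy
      refine Submodule.span_induction ?_ ?_ ?_ ?_ hy
      · rintro _ ⟨a, ha, rfl⟩; exact ⟨a, by simp⟩
      · exact ⟨0, by simp⟩
      · rintro y z - - ⟨a, ha⟩ ⟨b, hb⟩
        exact ⟨a + b, by rw [map_add]; convert add_mem ha hb using 1; ring⟩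
      · rintro c y hy' ⟨a, ha⟩
        obtain ⟨c₀, hc₀⟩ := henselization_residue_surjective (R := R) S (residue S c)
        obtain ⟨c₀, rfl⟩ := residue_surjective c₀
        refine ⟨c₀ * a, ?_⟩
        rw [ResidueField.map_residue, ← sub_eq_zero, ← map_sub, residue_eq_zero_iff,
          ← Henz21.henselization_map_maximalIdeal (R := R) S] at hc₀
        have h2 : (algebraMap R S c₀ - c) * y ∈
            (maximalIdeal R ^ (k + 1)).map (algebraMap R S) := by
          rw [pow_succ', Ideal.map_mul]
          exact Ideal.mul_mem_mul hc₀ hy'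
        rw [smul_eq_mul, map_mul]
        convert sub_mem (Ideal.mul_mem_left _ (algebraMap R S c₀) ha) h2 using 1; ring
    obtain ⟨a, ha⟩ := h1 _ hr
    exact ⟨r + a, by rw [map_add]; convert ha using 1; ring⟩

theorem henselization_quotient_pow_bijective (n : ℕ) :
    Function.Bijective (Ideal.quotientMap
      ((maximalIdeal R ^ n).map (algebraMap R S)) (algebraMap R S) Ideal.le_comap_map) := by
  have := Henz21.henselization_faithfullyFlat (R := R) S
  refine ⟨?_, ?_⟩
  · refine Ideal.quotientMap_injective' ?_
    rw [Ideal.comap_map_eq_self_of_faithfullyFlat]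
  · intro y
    obtain ⟨x, rfl⟩ := Ideal.Quotient.mk_surjective y
    obtain ⟨r, hr⟩ := henselization_exists_sub_mem (R := R) S n x
    refine ⟨Ideal.Quotient.mk _ r, ?_⟩
    rw [Ideal.quotientMap_mk, eq_comm, Ideal.Quotient.mk_eq_mk_iff_sub_mem]
    exact hr

end Groth.Agent.Hensel20
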