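import Groth.Agent.Hensel20.HenzProps
import Groth.Agent.CAlg1.SkFlat
import Mathlib.RingTheory.Unramified.Field
import Mathlib.RingTheory.HopkinsLevitzki

/-! Fibres of henselizations are finite products of separable fields. -/

set_option autoImplicit false
set_option maxHeartbeats 400000

open IsLocalRing TensorProduct

namespace Groth.Agent.Hensel20

open Henz21

universe u

theorem isSeparable_quotient_of_unramified_subalgebras {k A : Type u} [Field k] [CommRing A]
    [Algebra k A] (M : Ideal A) [M.IsMaximal]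
    (h : ∀ y : A, ∃ T : Subalgebra k A, y ∈ T ∧ Algebra.FormallyUnramified k T ∧ Module.Finite k T) :
    Algebra.IsSeparable k (A ⧸ M) := by
  refine ⟨fun z => ?_⟩
  obtain ⟨y, rfl⟩ := Ideal.Quotient.mk_surjective z
  obtain ⟨T, hy, _, _⟩ := h y
  let q : Ideal T := M.comap T.val
  have hq : q.IsPrime := Ideal.comap_isPrime _ M
  have : IsArtinianRing T := IsArtinianRing.of_finite k T
  have : q.IsMaximal := Ideal.isMaximal_of_isPrime q
  let _ : Field (T ⧸ q) := Ideal.Quotient.field q
  have : Algebra.FormallyUnramified k (T ⧸ q) :=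
    Algebra.FormallyUnramified.of_surjective (Ideal.Quotient.mkₐ k q) Ideal.Quotient.mk_surjective
  have : Module.Finite k (T ⧸ q) :=
    Module.Finite.of_surjective (Ideal.Quotient.mkₐ k q).toLinearMap Ideal.Quotient.mk_surjective
  have := Algebra.FormallyUnramified.isSeparable k (T ⧸ q)
  let ψ : T ⧸ q →ₐ[k] A ⧸ M := Ideal.quotientMapₐ M T.val le_rfl
  have hψ : Function.Injective ψ := by
    refine (injective_iff_map_eq_zero ψ).mpr fun x hx => ?_
    obtain ⟨t, rfl⟩ := Ideal.Quotient.mk_surjective x
    have ht : Ideal.Quotient.mk M (T.val t) = 0 := by simpa [ψ] using hx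
    have ht' : T.val t ∈ M := Ideal.Quotient.eq_zero_iff_mem.mp ht
    exact Ideal.Quotient.eq_zero_iff_mem.mpr ht'
  have h2 : ψ (Ideal.Quotient.mk q (⟨y, hy⟩ : T)) = Ideal.Quotient.mk M y := by simp [ψ]
  rw [← h2]
  exact IsSeparable.map ψ hψ (Algebra.IsSeparable.isSeparable k _)

variable {R K : Type u} [CommRing R] [IsLocalRing R] [Field K] [Algebra R K]
  [IsLocalHom (algebraMap R K)] (p : Ideal R) [p.IsPrime]

omit [IsLocalRing R] [IsLocalHom (algebraMap R K)] in
/-- Every element of a fibre lies in a finite unramified subalgebra. -/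
theorem exists_unramified_subalgebra (y : p.ResidueField ⊗[R] H R K) :
    ∃ T : Subalgebra p.ResidueField (p.ResidueField ⊗[R] H R K), y ∈ T ∧
      Algebra.FormallyUnramified p.ResidueField T ∧ Module.Finite p.ResidueField T := by
  obtain ⟨i, w, hw⟩ := H.exists_lTensor_rep (M := p.ResidueField) y
  let f := Algebra.TensorProduct.map (AlgHom.id p.ResidueField p.ResidueField) (H.incl i)
  have hf : f w = y := by
    rw [← hw]
    clear hw
    induction w with
    | zero => simp
    | tmul a s => simp [f]
    | add a b ha hb => rw [map_add, map_add, ha, hb]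
  have : Module.Finite p.ResidueField (p.ResidueField ⊗[R] i.S) :=
    Algebra.FormallyUnramified.finite_of_free _ _
  exact ⟨f.range, ⟨w, hf⟩,
    Algebra.FormallyUnramified.of_surjective f.rangeRestrict f.rangeRestrict_surjective,
    Module.Finite.of_surjective f.rangeRestrict.toLinearMap f.rangeRestrict_surjective⟩

theorem fibre_H_structure [IsNoetherianRing R] :
    IsReduced (p.ResidueField ⊗[R] H R K) ∧
      Algebra.IsIntegral p.ResidueField (p.ResidueField ⊗[R] H R K) ∧
      IsArtinianRing (p.ResidueField ⊗[R] H R K) := by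
  have hint : Algebra.IsIntegral p.ResidueField (p.ResidueField ⊗[R] H R K) := ⟨fun y => by
    obtain ⟨T, hy, _, _⟩ := exists_unramified_subalgebra p y
    exact (Algebra.IsIntegral.isIntegral (R := p.ResidueField) (⟨y, hy⟩ : T)).map T.val⟩
  have hred : IsReduced (p.ResidueField ⊗[R] H R K) := ⟨fun y hy => by
    obtain ⟨T, hyT, _, _⟩ := exists_unramified_subalgebra p y
    have : IsReduced T := Algebra.FormallyUnramified.isReduced_of_field p.ResidueField T
    have h : IsNilpotent (⟨y, hyT⟩ : T) :=
      (IsNilpotent.map_iff (f := T.val) Subtype.val_injective).mp hy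
    exact congrArg Subtype.val h.eq_zero⟩
  refine ⟨hred, hint, ?_⟩
  have := isNoetherianRing_H (R := R) (K := K)
  have : IsNoetherianRing (p.ResidueField ⊗[R] H R K) := CAlg1.isNoetherianRing_fiber (S := H R K) p
  rw [isArtinianRing_iff_krullDimLE_zero]
  refine Ring.KrullDimLE.mk₀ fun Q hQ => ?_
  refine Ideal.isMaximal_of_isIntegral_of_isMaximal_comap (R := p.ResidueField) Q ?_
  have : (Q.comap (algebraMap p.ResidueField (p.ResidueField ⊗[R] H R K))).IsPrime := inferInstance
  exact Ideal.isMaximal_of_isPrime _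

omit [IsLocalRing R] [IsLocalHom (algebraMap R K)] in
theorem isSeparable_fibre_quotient (M : Ideal (p.ResidueField ⊗[R] H R K)) [M.IsMaximal] :
    Algebra.IsSeparable p.ResidueField ((p.ResidueField ⊗[R] H R K) ⧸ M) :=
  isSeparable_quotient_of_unramified_subalgebras M (exists_unramified_subalgebra p)

theorem exists_fields_fibre [IsNoetherianRing R] {S : Type u} [CommRing S] [Algebra R S]
    (e : H R K ≃ₐ[R] S) :
    ∃ (n : ℕ) (F : Fin n → Type u) (_ : ∀ i, Field (F i)) (_ : ∀ i, Algebra p.ResidueField (F i)),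
      (∀ i, Algebra.IsSeparable p.ResidueField (F i)) ∧
      Nonempty ((p.ResidueField ⊗[R] S) ≃ₐ[p.ResidueField] (Π i, F i)) := by
  obtain ⟨hred, -, hart⟩ := fibre_H_structure (K := K) p
  let A := p.ResidueField ⊗[R] H R K
  let g := (Finite.equivFin (MaximalSpectrum A)).symm
  refine ⟨_, fun i => A ⧸ (g i).asIdeal, fun i => Ideal.Quotient.field _, fun i => inferInstance,
    fun i => isSeparable_fibre_quotient p (g i).asIdeal, ⟨?_⟩⟩
  let e₁ : (p.ResidueField ⊗[R] S) ≃ₐ[p.ResidueField] A :=
    Algebra.TensorProduct.congr AlgEquiv.refl e.symm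
  let e₂ : A ≃ₐ[p.ResidueField] ∀ I : MaximalSpectrum A, A ⧸ I.asIdeal :=
    { IsArtinianRing.equivPi A with commutes' := fun c => rfl }
  exact (e₁.trans e₂).trans (AlgEquiv.piCongrLeft p.ResidueField (fun I : MaximalSpectrum A => A ⧸ I.asIdeal) g).symm

end Groth.Agent.Hensel20
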