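import Groth.Agent.Hensel20.FibreRegular
import Groth.Agent.Hensel20.StageFibre
import Groth.Agent.EGA4H10.GRingLoc
import Groth.Agent.EGA4H10.CMCompletion
import Groth.Agent.Hensel20.HenzBasic

/-! The completion of a henselization and regularity of formal fibres. -/

set_option autoImplicit false

open IsLocalRing TensorProduct

namespace Groth.Agent.Hensel20

universe u

variable {R : Type u} [CommRing R] [IsLocalRing R] (S : Type u) [CommRing S] [IsLocalRing S]
  [Algebra R S] [IsLocalHom (algebraMap R S)] [Hensel.IsHenselization R S]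

omit [IsLocalRing R] in
theorem factor_quotientMap {I I' : Ideal R} (h : I ≤ I') {J J' : Ideal S} (h' : J ≤ J')
    (hJ : I ≤ J.comap (algebraMap R S)) (hJ' : I' ≤ J'.comap (algebraMap R S)) (x : R ⧸ I) :
    Ideal.Quotient.factor h' (Ideal.quotientMap J (algebraMap R S) hJ x) =
      Ideal.quotientMap J' (algebraMap R S) hJ' (Ideal.Quotient.factor h x) := by
  obtain ⟨a, rfl⟩ := Ideal.Quotient.mk_surjective x
  rfl

theorem exists_completion_equiv :
    ∃ e : AdicCompletion (maximalIdeal R) R ≃+* AdicCompletion (maximalIdeal S) S,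
      ∀ r : R, e (algebraMap R _ r) = algebraMap S _ (algebraMap R S r) := by
  have hpow : ∀ n, (maximalIdeal R ^ n).map (algebraMap R S) = maximalIdeal S ^ n := fun n => by
    rw [Ideal.map_pow, Henz21.henselization_map_maximalIdeal (R := R) S]
  have hle : ∀ n, maximalIdeal R ^ n ≤ (maximalIdeal S ^ n).comap (algebraMap R S) := fun n =>
    Ideal.le_comap_map.trans (Ideal.comap_mono (hpow n).le)
  let g : ∀ n, R ⧸ maximalIdeal R ^ n →+* S ⧸ maximalIdeal S ^ n := fun n =>
    Ideal.quotientMap _ (algebraMap R S) (hle n)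
  have hg : ∀ n, Function.Bijective (g n) := fun n => by
    have h := henselization_quotient_pow_bijective (R := R) S n
    have key : ∀ (J : Ideal S) (hJ : maximalIdeal R ^ n ≤ J.comap (algebraMap R S)),
        (maximalIdeal R ^ n).map (algebraMap R S) = J →
          Function.Bijective (Ideal.quotientMap J (algebraMap R S) hJ) := by
      rintro J hJ rfl
      exact h
    exact key _ _ (hpow n)
  let φ := AdicCompletion.liftRingHom (maximalIdeal S)
    (fun n => (g n).comp (AdicCompletion.evalₐ (maximalIdeal R) n).toRingHom) (fun {m n} hmn => by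
      ext x
      induction x using AdicCompletion.induction_on with | _ x => ?_
      simp only [RingHom.comp_apply, AlgHom.toRingHom_eq_coe, RingHom.coe_coe,
        AdicCompletion.evalₐ_mk]
      show Ideal.Quotient.mk (maximalIdeal S ^ m) (algebraMap R S (x.1 n)) =
        Ideal.Quotient.mk (maximalIdeal S ^ m) (algebraMap R S (x.1 m))
      refine Ideal.Quotient.eq.2 ?_
      rw [← map_sub]
      refine hle m ?_
      have h1 : x.1 m ≡ x.1 n [SMOD (maximalIdeal R ^ m • ⊤ : Submodule R R)] := x.2 hmn
      rw [SModEq.sub_mem, smul_eq_mul, Ideal.mul_top] at h1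
      exact neg_sub (x.1 m) (x.1 n) ▸ neg_mem h1)
  have hev : ∀ n x, AdicCompletion.evalₐ (maximalIdeal S) n (φ x) =
      g n (AdicCompletion.evalₐ (maximalIdeal R) n x) := fun n x => by
    apply AdicCompletion.evalₐ_liftRingHom
  have hbij : Function.Bijective φ := by
    refine ⟨fun x y hxy => AdicCompletion.ext_evalₐ fun n => (hg n).1 ?_, fun y => ?_⟩
    · rw [← hev, ← hev, hxy]
    · choose a ha using fun n => (hg n).2 (AdicCompletion.evalₐ (maximalIdeal S) n y)
      choose b hb using fun n => Ideal.Quotient.mk_surjective (a n)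
      have hb' : ∀ n, Ideal.Quotient.mk (maximalIdeal S ^ n) (algebraMap R S (b n)) =
          AdicCompletion.evalₐ (maximalIdeal S) n y := fun n => by
        rw [← ha n, ← hb n]; rfl
      have hcauchy : ∀ n, b n ≡ b (n + 1) [SMOD (maximalIdeal R ^ n • ⊤ : Submodule R R)] := by
        intro n
        rw [SModEq.sub_mem, smul_eq_mul, Ideal.mul_top, ← Ideal.Quotient.eq]
        refine (hg n).1 ?_
        show Ideal.Quotient.mk (maximalIdeal S ^ n) (algebraMap R S (b n)) =
          Ideal.Quotient.factorPow (maximalIdeal S) (Nat.le_succ n)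
            (Ideal.Quotient.mk (maximalIdeal S ^ (n + 1)) (algebraMap R S (b (n + 1))))
        rw [hb' n, hb' (n + 1)]
        induction y using AdicCompletion.induction_on with | _ z => ?_
        simp only [AdicCompletion.evalₐ_mk]
        show Ideal.Quotient.mk (maximalIdeal S ^ n) (z.1 n) =
          Ideal.Quotient.mk (maximalIdeal S ^ n) (z.1 (n + 1))
        refine Ideal.Quotient.eq.2 ?_
        have h1 : z.1 n ≡ z.1 (n + 1) [SMOD (maximalIdeal S ^ n • ⊤ : Submodule S S)] :=
          z.2 (Nat.le_succ n)
        rw [SModEq.sub_mem, smul_eq_mul, Ideal.mul_top] at h1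
        exact h1
      refine ⟨AdicCompletion.mkₐ _ (AdicCompletion.AdicCauchySequence.mk (maximalIdeal R) R b hcauchy),
        AdicCompletion.ext_evalₐ fun n => ?_⟩
      rw [hev, ← hb' n]
      simp [g]
  refine ⟨RingEquiv.ofBijective φ hbij, fun r => AdicCompletion.ext_evalₐ fun n => ?_⟩
  show AdicCompletion.evalₐ _ n (φ (algebraMap R _ r)) = _
  rw [hev, AlgHom.commutes, AlgHom.commutes]
  rfl

theorem henselization_isRegularHom_iff [IsNoetherianRing R] :
    CAlg.IsRegularHom S (AdicCompletion (maximalIdeal S) S) ↔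
      CAlg.IsRegularHom R (AdicCompletion (maximalIdeal R) R) := by
  have hF : HasSeparableFibres R S := fun p _ =>
    exists_fields_fibre p (Henz21.henselizationEquiv (R := R) S)
  have : Module.FaithfullyFlat R S := Henz21.henselization_faithfullyFlat (R := R) S
  obtain ⟨e, he⟩ := exists_completion_equiv (R := R) S
  have : IsNoetherianRing (AdicCompletion (maximalIdeal S) S) :=
    have : IsNoetherianRing (AdicCompletion (maximalIdeal R) R) :=
      EGA4H10.isNoetherianRing_cpl (A := R)
    isNoetherianRing_of_ringEquiv _ e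
  have : IsScalarTower R S (AdicCompletion (maximalIdeal S) S) :=
    .of_algebraMap_eq fun r => AdicCompletion.ext_evalₐ fun n => by simp [AlgHom.commutes]
  have hiff : CAlg.IsRegularHom R (AdicCompletion (maximalIdeal R) R) ↔
      CAlg.IsRegularHom R (AdicCompletion (maximalIdeal S) S) :=
    ⟨EGA4H10.isRegularHom_of_algEquiv (AlgEquiv.ofRingEquiv (f := e) he),
      EGA4H10.isRegularHom_of_algEquiv (AlgEquiv.ofRingEquiv (f := e) he).symm⟩
  have : IsNoetherianRing S :=
    (isNoetherianRing_iff_of_equiv (Henz21.henselizationEquiv (R := R) S)).1 inferInstance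
  rw [hiff]
  exact ⟨isRegularHom_base_of_top _ hF, isRegularHom_top_of_base _ hF⟩

end Groth.Agent.Hensel20
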