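import Groth.Prelude.Def_EssEt
import Groth.Agent.Henz21.LocalLift
import Groth.Agent.Hensel20.PairApi
import Mathlib.RingTheory.Etale.Locus

/-! Essentially etale local algebras and henselian local rings. -/

set_option autoImplicit false

open IsLocalRing EGA4loc TensorProduct

namespace Groth.Agent.Hensel20

universe u

section

variable {A A' : Type u} [CommRing A] [IsLocalRing A] [CommRing A'] [Algebra A A']

theorem essFiniteType_of_essEtale (h : IsEssentiallyEtale A A') : Algebra.EssFiniteType A A' := by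
  obtain ⟨C, _, _, q, _, hC, hq, ⟨e⟩⟩ := h
  have : Algebra.EssFiniteType A (Localization.AtPrime q) := Algebra.EssFiniteType.comp A C _
  exact Algebra.EssFiniteType.of_surjective e.symm.toAlgHom e.symm.surjective

theorem formallyUnramified_of_essEtale (h : IsEssentiallyEtale A A') :
    Algebra.FormallyUnramified A A' := by
  obtain ⟨C, _, _, q, _, hC, hq, ⟨e⟩⟩ := h
  have : Algebra.FormallyUnramified A (Localization.AtPrime q) :=
    Algebra.FormallyUnramified.comp A C _
  exact Algebra.FormallyUnramified.of_equiv e.symm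

theorem map_maximalIdeal_of_essEtale [IsLocalRing A'] [IsLocalHom (algebraMap A A')]
    (h : IsEssentiallyEtale A A') :
    (maximalIdeal A).map (algebraMap A A') = maximalIdeal A' := by
  have := essFiniteType_of_essEtale h
  have := formallyUnramified_of_essEtale h
  exact Algebra.FormallyUnramified.map_maximalIdeal

/-- Homomorphisms out of an essentially etale algebra are determined modulo the maximal ideal. -/
theorem essEtale_hom_ext (h : IsEssentiallyEtale A A') {B : Type u} [CommRing B] [IsLocalRing B]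
    [Algebra A B] (f g : A' →ₐ[A] B) (hfg : ∀ x, residue B (f x) = residue B (g x)) : f = g := by
  have := essFiniteType_of_essEtale h
  have := formallyUnramified_of_essEtale h
  refine algHom_eq_of_unramified f g (J := maximalIdeal B)
    (IsLocalRing.jacobson_eq_maximalIdeal ⊥ bot_ne_top).ge fun x => ?_
  rw [← residue_eq_zero_iff, map_sub, hfg, sub_self]

/-- Existence of the lift to a henselian local ring. -/
theorem essEtale_lift [IsLocalRing A'] (h : IsEssentiallyEtale A A') {B : Type u} [CommRing B]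
    [HenselianLocalRing B] [Algebra A B] (α : A' →ₐ[A] ResidueField B) :
    ∃ φ : A' →ₐ[A] B, ∀ x, residue B (φ x) = α x := by
  obtain ⟨C, _, _, q, _, hC, hq, ⟨e⟩⟩ := h
  let σ : C →ₐ[A] ResidueField B :=
    (α.comp e.symm.toAlgHom).comp (IsScalarTower.toAlgHom A C (Localization.AtPrime q))
  obtain ⟨g, hg, -⟩ := Henz21.existsUnique_lift σ
  have hgr : ∀ c, residue B (g c) = σ c := fun c => DFunLike.congr_fun hg c
  have hu : ∀ y : q.primeCompl, IsUnit (g y) := fun y => by
    refine isUnit_of_map_unit (residue B) _ ?_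
    rw [hgr]
    exact ((IsLocalization.map_units (Localization.AtPrime q) y).map e.symm.toAlgHom).map α
  let φ₀ : Localization.AtPrime q →ₐ[A] B := IsLocalization.liftAlgHom (M := q.primeCompl) hu
  refine ⟨φ₀.comp e.toAlgHom, fun x => ?_⟩
  have : (IsScalarTower.toAlgHom A B (ResidueField B)).comp φ₀ = α.comp e.symm.toAlgHom :=
    IsLocalization.algHom_ext q.primeCompl <| AlgHom.ext fun c => by
      show residue B (φ₀ (algebraMap C _ c)) = σ c
      rw [show φ₀ (algebraMap C _ c) = g c from IsLocalization.lift_eq _ c]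
      exact hgr c
  exact (DFunLike.congr_fun this (e x)).trans (congrArg α (e.symm_apply_apply x))

end

variable {A A' : Type u} [CommRing A] [IsLocalRing A] [CommRing A'] [IsLocalRing A'] [Algebra A A']
  [IsLocalHom (algebraMap A A')]

theorem existsUnique_essEtale_lift (h : IsEssentiallyEtale A A') {B : Type u} [CommRing B]
    [HenselianLocalRing B] (ψ : A →+* B) [IsLocalHom ψ]
    (α : ResidueField A' →+* ResidueField B)
    (hα : α.comp (ResidueField.map (algebraMap A A')) = ResidueField.map ψ) :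
    ∃! ψ' : A' →+* B, IsLocalHom ψ' ∧ ψ'.comp (algebraMap A A') = ψ ∧
      ∀ x : A', residue B (ψ' x) = α (residue A' x) := by
  let _ : Algebra A B := ψ.toAlgebra
  have hcomm : ∀ a : A, α (residue A' (algebraMap A A' a)) = algebraMap A (ResidueField B) a :=
    fun a => RingHom.congr_fun hα (residue A a)
  obtain ⟨φ, hφ⟩ := essEtale_lift h (B := B)
    { α.comp (residue A') with commutes' := hcomm }
  refine ⟨φ.toRingHom, ⟨⟨fun x hx => ?_⟩, φ.comp_algebraMap, hφ⟩, ?_⟩
  · by_contra hx'
    have h0 : α (residue A' x) = 0 := by rw [(residue_eq_zero_iff x).mpr hx', map_zero]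
    exact not_isUnit_zero (M₀ := ResidueField B) (h0 ▸ (hφ x) ▸ hx.map (residue B))
  · rintro ψ' ⟨-, hc, hr⟩
    exact congrArg AlgHom.toRingHom (essEtale_hom_ext h
      (⟨ψ', fun a => RingHom.congr_fun hc a⟩ : A' →ₐ[A] B) φ fun x => (hr x).trans (hφ x).symm)

theorem existsUnique_strict_lift (h : IsStrictlyEssentiallyEtale A A') {B : Type u} [CommRing B]
    [HenselianLocalRing B] (ψ : A →+* B) [IsLocalHom ψ] :
    ∃! ψ' : A' →+* B, IsLocalHom ψ' ∧ ψ'.comp (algebraMap A A') = ψ := by
  let r := RingEquiv.ofBijective _ h.2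
  let α : ResidueField A' →+* ResidueField B := (ResidueField.map ψ).comp r.symm.toRingHom
  have hα : α.comp (ResidueField.map (algebraMap A A')) = ResidueField.map ψ :=
    RingHom.ext fun x => congrArg (ResidueField.map ψ) (r.symm_apply_apply x)
  obtain ⟨ψ', ⟨h1, h2, h3⟩, hu⟩ := existsUnique_essEtale_lift h.1 ψ α hα
  refine ⟨ψ', ⟨h1, h2⟩, fun ψ'' ⟨h1', h2'⟩ => hu ψ'' ⟨h1', h2', fun x => ?_⟩⟩
  obtain ⟨y, hy⟩ := h.2.2 (residue A' x)
  obtain ⟨a, rfl⟩ := residue_surjective y
  rw [← ResidueField.map_residue ψ'' x, ← hy]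
  calc ResidueField.map ψ'' (ResidueField.map (algebraMap A A') (residue A a))
      = residue B (ψ a) := by
        rw [ResidueField.map_residue, ResidueField.map_residue, ← h2', RingHom.comp_apply]
    _ = α (ResidueField.map (algebraMap A A') (residue A a)) := by
        rw [show α (ResidueField.map (algebraMap A A') (residue A a)) =
          ResidueField.map ψ (residue A a) from RingHom.congr_fun hα _, ResidueField.map_residue]

theorem subsingleton_algHom_of_strict (h : IsStrictlyEssentiallyEtale A A') {B : Type u}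
    [CommRing B] [IsLocalRing B] [Algebra A B] [IsLocalHom (algebraMap A B)] :
    Subsingleton (A' →ₐ[A] B) := by
  refine ⟨fun f g => essEtale_hom_ext h.1 f g fun x => ?_⟩
  obtain ⟨y, hy⟩ := h.2.2 (residue A' x)
  obtain ⟨a, rfl⟩ := residue_surjective y
  rw [ResidueField.map_residue] at hy
  have hm : x - algebraMap A A' a ∈ maximalIdeal A' := by
    rw [← residue_eq_zero_iff, map_sub, hy, sub_self]
  rw [← map_maximalIdeal_of_essEtale h.1] at hm
  have key : ∀ f : A' →ₐ[A] B, residue B (f x) = residue B (algebraMap A B a) := fun f => by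
    have := Ideal.mem_map_of_mem f.toRingHom hm
    rw [Ideal.map_map, show f.toRingHom.comp (algebraMap A A') = algebraMap A B from
      f.comp_algebraMap] at this
    have h2 : f (x - algebraMap A A' a) ∈ maximalIdeal B :=
      Ideal.map_le_iff_le_comap.mpr
        (((local_hom_TFAE (algebraMap A B)).out 0 3).mp ‹IsLocalHom (algebraMap A B)›) this
    rwa [map_sub, AlgHom.commutes, ← residue_eq_zero_iff, map_sub, sub_eq_zero] at h2
  rw [key f, key g]

theorem exists_strict_dominating {A₁ A₂ : Type u} [CommRing A₁] [IsLocalRing A₁] [Algebra A A₁]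
    [IsLocalHom (algebraMap A A₁)] [CommRing A₂] [IsLocalRing A₂] [Algebra A A₂]
    [IsLocalHom (algebraMap A A₂)]
    (h₁ : IsStrictlyEssentiallyEtale A A₁) (h₂ : IsStrictlyEssentiallyEtale A A₂) :
    ∃ (A₃ : Type u) (_ : CommRing A₃) (_ : IsLocalRing A₃) (_ : Algebra A A₃)
      (_ : IsLocalHom (algebraMap A A₃)),
      IsStrictlyEssentiallyEtale A A₃ ∧ Nonempty (A₁ →ₐ[A] A₃) ∧ Nonempty (A₂ →ₐ[A] A₃) := by
  have aux : ∀ (A₁ : Type u) [CommRing A₁] [IsLocalRing A₁] [Algebra A A₁]
      [IsLocalHom (algebraMap A A₁)], IsStrictlyEssentiallyEtale A A₁ →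
      ∃ (C : Type u) (_ : CommRing C) (_ : Algebra A C) (p : C →ₐ[A] ResidueField A)
        (q : Ideal C) (_ : q.IsPrime),
        Algebra.Etale A C ∧ (∀ c, p c = 0 ↔ c ∈ q) ∧
          Nonempty (A₁ ≃ₐ[A] Localization.AtPrime q) := by
    intro A₁ _ _ _ _ h
    obtain ⟨⟨C, _, _, q, hqp, hC, hq, ⟨e⟩⟩, hb⟩ := h
    let r := RingEquiv.ofBijective _ hb
    let p₁ : A₁ →ₐ[A] ResidueField A :=
      { r.symm.toRingHom.comp (residue A₁) with
        commutes' := fun a => r.symm_apply_apply (residue A a) }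
    let p := (p₁.comp e.symm.toAlgHom).comp (IsScalarTower.toAlgHom A C (Localization.AtPrime q))
    have hp : ∀ c, p c = 0 ↔ c ∈ q := fun c => by
      rw [← IsLocalization.AtPrime.to_map_mem_maximal_iff
        (Localization.AtPrime q) q]
      show r.symm (residue A₁ (e.symm (algebraMap C _ c))) = 0 ↔ _
      rw [map_eq_zero_iff _ r.symm.injective, residue_eq_zero_iff, mem_maximalIdeal,
        mem_maximalIdeal, mem_nonunits_iff, mem_nonunits_iff, MulEquiv.isUnit_map]
    exact ⟨C, inferInstance, inferInstance, p, q, hqp, hC, hp, ⟨e⟩⟩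
  obtain ⟨C₁, _, _, p₁, q₁, _, hC₁, hp₁, ⟨e₁⟩⟩ := aux A₁ h₁
  obtain ⟨C₂, _, _, p₂, q₂, _, hC₂, hp₂, ⟨e₂⟩⟩ := aux A₂ h₂
  let P : C₁ ⊗[A] C₂ →ₐ[A] ResidueField A :=
    Algebra.TensorProduct.lift p₁ p₂ fun _ _ => .all _ _
  let Q := RingHom.ker P
  have : Q.IsPrime := RingHom.ker_isPrime _
  have : Algebra.Etale A (C₁ ⊗[A] C₂) := Algebra.Etale.comp A C₁ (C₁ ⊗[A] C₂)
  have hQ : Q.comap (algebraMap A (C₁ ⊗[A] C₂)) = maximalIdeal A := by
    ext a
    rw [Ideal.mem_comap, RingHom.mem_ker, AlgHom.commutes, ResidueField.algebraMap_eq,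
      residue_eq_zero_iff]
  let A₃ := Localization.AtPrime Q
  have hloc : IsLocalHom (algebraMap A A₃) := ⟨fun a ha => by
    by_contra h
    have h' : algebraMap A (C₁ ⊗[A] C₂) a ∈ Q := by
      rw [← Ideal.mem_comap, hQ]; exact h
    rw [IsScalarTower.algebraMap_apply A (C₁ ⊗[A] C₂) A₃] at ha
    exact (IsLocalization.AtPrime.to_map_mem_maximal_iff A₃ Q _).mpr h' ha⟩
  refine ⟨A₃, inferInstance, inferInstance, inferInstance, hloc,
    ⟨⟨C₁ ⊗[A] C₂, inferInstance, inferInstance, Q, inferInstance, inferInstance, hQ,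
      ⟨AlgEquiv.refl⟩⟩, RingHom.injective _, ?_⟩, ?_, ?_⟩
  · let P' : A₃ →ₐ[A] ResidueField A := IsLocalization.liftAlgHom (M := Q.primeCompl) (f := P)
      fun y => isUnit_iff_ne_zero.mpr y.2
    intro z
    obtain ⟨x, rfl⟩ := residue_surjective z
    obtain ⟨a, ha⟩ := residue_surjective (P' x)
    refine ⟨residue A a, ?_⟩
    rw [ResidueField.map_residue, ← sub_eq_zero, ← map_sub, residue_eq_zero_iff,
      mem_maximalIdeal, mem_nonunits_iff]
    intro hu
    refine (hu.map P').ne_zero ?_
    rw [map_sub, AlgHom.commutes, ResidueField.algebraMap_eq, ha, sub_self]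
  · refine ⟨(IsLocalization.liftAlgHom (M := q₁.primeCompl)
      (f := (IsScalarTower.toAlgHom A (C₁ ⊗[A] C₂) A₃).comp Algebra.TensorProduct.includeLeft)
      fun y => ?_).comp e₁.toAlgHom⟩
    refine IsLocalization.map_units A₃ (⟨(y : C₁) ⊗ₜ 1, ?_⟩ : Q.primeCompl)
    show P ((y : C₁) ⊗ₜ 1) ≠ 0
    simp only [P, Algebra.TensorProduct.lift_tmul, map_one, mul_one, one_mul, ne_eq, hp₁, hp₂]
    exact y.2
  · refine ⟨(IsLocalization.liftAlgHom (M := q₂.primeCompl)
      (f := (IsScalarTower.toAlgHom A (C₁ ⊗[A] C₂) A₃).comp Algebra.TensorProduct.includeRight)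
      fun y => ?_).comp e₂.toAlgHom⟩
    refine IsLocalization.map_units A₃ (⟨1 ⊗ₜ (y : C₂), ?_⟩ : Q.primeCompl)
    show P (1 ⊗ₜ (y : C₂)) ≠ 0
    simp only [P, Algebra.TensorProduct.lift_tmul, map_one, mul_one, one_mul, ne_eq, hp₁, hp₂]
    exact y.2

end Groth.Agent.Hensel20
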