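import Groth.Agent.Hensel20.PairApi

/-! Henselian local rings as henselian pairs. -/

set_option autoImplicit false

open Polynomial IsLocalRing

namespace Groth.Agent.Hensel20

universe u v

theorem henselianLocalRing_of_henselianRing (R : Type u) [CommRing R] [IsLocalRing R]
    [HenselianRing R (maximalIdeal R)] : HenselianLocalRing R where
  is_henselian f hf a₀ h1 h2 :=
    HenselianRing.is_henselian (I := maximalIdeal R) f hf a₀ h1 (h2.map _)

theorem henselianLocalRing_iff (R : Type u) [CommRing R] [IsLocalRing R] :
    HenselianLocalRing R ↔ HenselianRing R (maximalIdeal R) :=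
  ⟨fun _ => inferInstance, fun _ => henselianLocalRing_of_henselianRing R⟩

end Groth.Agent.Hensel20
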