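import Groth.Agent.Hensel20.Pair

/-! Splitting finite type algebras over henselian pairs; criteria for henselianity. -/

set_option autoImplicit false

open Polynomial TensorProduct

namespace Groth.Agent.Hensel20

universe u v w

variable {A : Type u} [CommRing A] {I : Ideal A}

theorem hasFactorLift [HenselianRing A I] : HasFactorLift A I :=
  hasFactorLift_of_hasEtaleLift hasEtaleLift

theorem hasIdemLift [HenselianRing A I] : HasIdemLift A I :=
  hasIdemLift_of_hasFactorLift HenselianRing.jac hasFactorLift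

lemma map_le_ker {S : Type v} {C : Type w} [CommRing S] [CommRing C] [Algebra A S] [Algebra A C]
    (π : S →ₐ[A] C) (hIC : ∀ a ∈ I, algebraMap A C a = 0) :
    I.map (algebraMap A S) ≤ RingHom.ker π := by
  rw [Ideal.map_le_iff_le_comap]
  intro a ha
  rw [Ideal.mem_comap, RingHom.mem_ker, AlgHom.commutes]
  exact hIC a ha

/-- If `S/IS` agrees with the finite algebra `C` near the primes of `C`, then `S` is quasi-finite
there. -/
lemma quasiFiniteAt_of_ker_le {S : Type v} {C : Type w} [CommRing S] [CommRing C] [Algebra A S]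
    [Algebra A C] [Algebra.FiniteType A S] [Module.Finite A C] (π : S →ₐ[A] C)
    (hπ : Function.Surjective π) (hIC : ∀ a ∈ I, algebraMap A C a = 0) (ε : S) (hε1 : π ε = 1)
    (hεk : ∀ k, π k = 0 → k * ε ∈ I.map (algebraMap A S))
    (q : Ideal S) [q.IsPrime] (hq : RingHom.ker π ≤ q) : Algebra.QuasiFiniteAt A q := by
  suffices Algebra.WeaklyQuasiFiniteAt A q from .of_weaklyQuasiFiniteAt q
  rw [Algebra.weaklyQuasiFiniteAt_iff]
  have hεq : ε ∉ q := fun h => by
    have := hq (show ε - 1 ∈ RingHom.ker π by simp [RingHom.mem_ker, hε1])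
    exact Ideal.IsPrime.ne_top ‹_› ((Ideal.eq_top_iff_one q).mpr (by simpa using sub_mem h this))
  set T := Localization.AtPrime q ⧸ (q.under A).map (algebraMap A (Localization.AtPrime q))
  let θ : S →ₐ[A] T := (Ideal.Quotient.mkₐ A _).comp (IsScalarTower.toAlgHom A S _)
  have hIp : I ≤ q.under A := fun a ha =>
    hq (map_le_ker π hIC (Ideal.mem_map_of_mem _ ha))
  have hθI : I.map (algebraMap A S) ≤ RingHom.ker θ := by
    refine map_le_ker θ fun a ha => ?_
    rw [IsScalarTower.algebraMap_apply A (Localization.AtPrime q) T, Ideal.Quotient.algebraMap_eq,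
      Ideal.Quotient.eq_zero_iff_mem]
    exact Ideal.mem_map_of_mem _ (hIp ha)
  have hθu : ∀ s ∉ q, IsUnit (θ s) := fun s hs =>
    (IsLocalization.map_units (Localization.AtPrime q) (⟨s, hs⟩ : q.primeCompl)).map
      (Ideal.Quotient.mk _)
  have hker : RingHom.ker π.toRingHom ≤ RingHom.ker θ.toRingHom := by
    intro k hk
    have h1 : θ (k * ε) = 0 := hθI (hεk k hk)
    rw [map_mul] at h1
    exact ((hθu ε hεq).mul_left_eq_zero).mp h1
  let φ : C →ₐ[A] T := AlgHom.liftOfSurjective π hπ θ hker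
  have hφ : ∀ s, φ (π s) = θ s := fun s => AlgHom.liftOfSurjective_apply π hπ θ hker s
  refine Algebra.QuasiFinite.of_forall_exists_mul_mem_range φ fun x => ?_
  obtain ⟨y, rfl⟩ := Ideal.Quotient.mk_surjective x
  obtain ⟨a, ⟨s, hs⟩, rfl⟩ := IsLocalization.exists_mk'_eq q.primeCompl y
  refine ⟨π s, by rw [hφ]; exact hθu s hs, π a, ?_⟩
  change φ (π a) = Ideal.Quotient.mk _ _ * φ (π s)
  rw [hφ, hφ]
  exact ((map_mul (Ideal.Quotient.mk _) _ _).symm.trans
    (congrArg _ (IsLocalization.mk'_spec _ a (⟨s, hs⟩ : q.primeCompl)))).symm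

/-- Split off the part of a finite type algebra which is finite over `A` and reduces to `C`. -/
theorem exists_split_idempotent [HenselianRing A I] {S : Type u} {C : Type w} [CommRing S]
    [CommRing C] [Algebra A S] [Algebra A C] [Algebra.FiniteType A S] [Module.Finite A C]
    (π : S →ₐ[A] C) (hπ : Function.Surjective π) (hIC : ∀ a ∈ I, algebraMap A C a = 0)
    (ε : S) (hε1 : π ε = 1) (hεk : ∀ k, π k = 0 → k * ε ∈ I.map (algebraMap A S)) :
    ∃ e : S, IsIdempotentElem e ∧ π e = 1 ∧ e - ε ∈ I.map (algebraMap A S) ∧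
      (∀ k, π k = 0 → k * e ∈ I.map (algebraMap A S)) ∧
      (LinearMap.range (LinearMap.mulRight A e)).FG := by
  obtain ⟨E, hEfin, -, r, w, hr1, hr, hw1, hwε, hwk⟩ := exists_finite_model π hπ
    (fun q _ hq => quasiFiniteAt_of_ker_le π hπ hIC ε hε1 hεk q hq) ε hε1 hεk
  obtain ⟨e, he, hew⟩ := hasIdemLift E hEfin w (by
    have := hwk (w - 1) (by simp [hw1])
    convert this using 1; ring)
  have hre : (r - 1) * e ∈ I.map (algebraMap A E) := by
    have h1 := hwk (r - 1) (by simp [hr1])
    have := add_mem h1 (Ideal.mul_mem_left _ (r - 1) hew)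
    convert this using 1; ring
  have hewS : (e : S) - w ∈ I.map (algebraMap A S) := by
    have := Ideal.mem_map_of_mem (E.val : E →+* S) hew
    rwa [Ideal.map_map, E.val.comp_algebraMap] at this
  have heε : (e : S) - ε ∈ I.map (algebraMap A S) := by
    simpa using add_mem hewS hwε
  have hπe : π e = 1 := by
    have := map_le_ker π hIC heε
    simpa [RingHom.mem_ker, sub_eq_zero, hε1] using this
  have hmem := mul_idem_mem (S := S) HenselianRing.jac hr he hre
  refine ⟨e, he.map E.val, hπe, heε, fun k hk => ?_, ?_⟩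
  · have := add_mem (hεk k hk) (Ideal.mul_mem_left _ k heε)
    convert this using 1; ring
  · have : LinearMap.range (LinearMap.mulRight A (e : S)) =
        (⊤ : Submodule A E).map ((LinearMap.mulRight A (e : S)).comp E.val.toLinearMap) := by
      refine le_antisymm ?_ ?_
      · rintro _ ⟨x, rfl⟩
        refine ⟨⟨x * e, hmem x⟩, trivial, ?_⟩
        simp [mul_assoc]
        congr 1
        exact congrArg Subtype.val he.eq
      · rintro _ ⟨x, -, rfl⟩
        exact ⟨_, rfl⟩
    rw [this]
    exact Module.Finite.fg_top.map _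

/-- Lifting of factorisations of arbitrary polynomials with one monic factor. -/
theorem exists_factor_lift [HenselianRing A I] (f : A[X]) (g₀ h₀ : (A ⧸ I)[X]) (hg : g₀.Monic)
    (hc : IsCoprime g₀ h₀) (heq : f.map (Ideal.Quotient.mk I) = g₀ * h₀) :
    ∃ g h : A[X], f = g * h ∧ g.Monic ∧ g.map (Ideal.Quotient.mk I) = g₀ ∧
      h.map (Ideal.Quotient.mk I) = h₀ := by
  obtain ⟨w, v₀, hwv⟩ := hc
  obtain ⟨v, rfl⟩ := Polynomial.map_surjective _ Ideal.Quotient.mk_surjective v₀
  obtain ⟨H, hH⟩ := Polynomial.map_surjective _ (Ideal.Quotient.mk_surjective (I := I)) h₀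
  let C := AdjoinRoot g₀
  have : Module.Finite (A ⧸ I) C := hg.finite_adjoinRoot
  have : Module.Finite A (A ⧸ I) := Module.Finite.of_surjective (Algebra.linearMap A (A ⧸ I))
    Ideal.Quotient.mk_surjective
  have : Module.Finite A C := Module.Finite.trans (A ⧸ I) C
  let π₀ : AdjoinRoot f →+* C := AdjoinRoot.map (Ideal.Quotient.mk I) f g₀ ⟨h₀, heq⟩
  have hπ₀ : ∀ P : A[X], π₀ (AdjoinRoot.mk f P) =
      AdjoinRoot.mk g₀ (P.map (Ideal.Quotient.mk I)) := fun P => by
    refine (AdjoinRoot.lift_mk _ P).trans ?_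
    rw [← eval₂_map, ← AdjoinRoot.aeval_eq]
    rfl
  let π : AdjoinRoot f →ₐ[A] C := AlgHom.mk' π₀ fun c x => by
    rw [Algebra.smul_def, map_mul, Algebra.smul_def]
    congr 1
    change π₀ (AdjoinRoot.mk f (Polynomial.C c)) = _
    rw [hπ₀, Polynomial.map_C]
    rfl
  have hπ : Function.Surjective π := fun x => by
    obtain ⟨P, rfl⟩ := AdjoinRoot.mk_surjective x
    obtain ⟨P, rfl⟩ := Polynomial.map_surjective _ (Ideal.Quotient.mk_surjective (I := I)) P
    exact ⟨AdjoinRoot.mk f P, hπ₀ P⟩
  have hIC : ∀ a ∈ I, algebraMap A C a = 0 := fun a ha => by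
    rw [IsScalarTower.algebraMap_apply A (A ⧸ I) C, Ideal.Quotient.algebraMap_eq,
      Ideal.Quotient.eq_zero_iff_mem.mpr ha, map_zero]
  have hmem : ∀ P : A[X], f.map (Ideal.Quotient.mk I) ∣ P.map (Ideal.Quotient.mk I) →
      AdjoinRoot.mk f P ∈ I.map (algebraMap A (AdjoinRoot f)) := by
    rintro P ⟨c, hc⟩
    obtain ⟨c, rfl⟩ := Polynomial.map_surjective _ Ideal.Quotient.mk_surjective c
    rw [show AdjoinRoot.mk f P = AdjoinRoot.mk f (P - f * c) by simp, ← AdjoinRoot.aeval_eq]
    refine aeval_mem_map_of_coeff (fun i => ?_) _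
    rw [← Ideal.Quotient.eq_zero_iff_mem, ← coeff_map, Polynomial.map_sub, Polynomial.map_mul, hc,
      sub_self, coeff_zero]
  obtain ⟨e, he, -, heε, -, hfg⟩ := exists_split_idempotent π hπ hIC (AdjoinRoot.mk f (v * H))
    (by
      change π₀ _ = 1
      rw [hπ₀, Polynomial.map_mul, hH, ← map_one (AdjoinRoot.mk g₀), AdjoinRoot.mk_eq_mk]
      exact ⟨-w, by linear_combination hwv⟩)
    (fun k hk => by
      obtain ⟨P, rfl⟩ := AdjoinRoot.mk_surjective k
      change π₀ _ = 0 at hk
      rw [hπ₀, AdjoinRoot.mk_eq_zero] at hk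
      obtain ⟨c, hc⟩ := hk
      rw [← map_mul]
      refine hmem _ ⟨c * v.map (Ideal.Quotient.mk I), ?_⟩
      rw [Polynomial.map_mul, Polynomial.map_mul, hc, hH, heq]
      ring)
  exact exists_factor_of_idempotent HenselianRing.jac f g₀ h₀ hg heq v
    ⟨w, by linear_combination hwv⟩ H hH e he hfg heε

/-- Idempotent lifting in finite algebras implies that roots lift. -/
theorem henselianRing_of_hasIdemLift (hI : I ≤ Ideal.jacobson ⊥) (h : HasIdemLift A I) :
    HenselianRing A I where
  jac := hI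
  is_henselian := by
    intro f hf a₀ h1 h2
    by_cases htop : I = ⊤
    · have : Subsingleton A := subsingleton_of_zero_eq_one (isUnit_zero_iff.mp
        (isUnit_of_sub_one_mem hI (a := (0 : A)) (by simp [htop])))
      exact ⟨a₀, Subsingleton.elim _ _, by simp⟩
    have : Nontrivial (A ⧸ I) := Ideal.Quotient.nontrivial_iff.mpr htop
    set mk := Ideal.Quotient.mk I
    let g₀ : (A ⧸ I)[X] := X - C (mk a₀)
    have hg : g₀.Monic := monic_X_sub_C _
    obtain ⟨h₀, hh₀⟩ : g₀ ∣ f.map mk := by
      rw [dvd_iff_isRoot, IsRoot.def, eval_map_apply, Ideal.Quotient.eq_zero_iff_mem]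
      exact h1
    have hc : IsCoprime g₀ h₀ := by
      have he : h₀.eval (mk a₀) = mk (f.derivative.eval a₀) := by
        have := congrArg (fun p => Polynomial.eval (mk a₀) (derivative p)) hh₀
        simp only [derivative_map, eval_map_apply, g₀] at this
        simpa [eq_comm] using this
      obtain ⟨d, hd⟩ := X_sub_C_dvd_sub_C_eval (a := mk a₀) (p := h₀)
      obtain ⟨b, hb⟩ := (he ▸ h2).exists_left_inv
      refine ⟨-(C b * d), C b, ?_⟩
      have : C b * C (h₀.eval (mk a₀)) = 1 := by rw [← C_mul, hb, C_1]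
      linear_combination (C b) * hd + this
    obtain ⟨w, v₀, hwv⟩ := hc
    obtain ⟨v, rfl⟩ := Polynomial.map_surjective _ Ideal.Quotient.mk_surjective v₀
    obtain ⟨H, hH⟩ : ∃ H : A[X], H.map mk = h₀ :=
      Polynomial.map_surjective _ (Ideal.Quotient.mk_surjective (I := I)) h₀
    replace hwv : w * g₀ + v.map mk * h₀ = 1 := hwv
    have : Module.Finite A (AdjoinRoot f) := hf.finite_adjoinRoot
    have hb : AdjoinRoot.mk f (v * H) * AdjoinRoot.mk f (v * H) - AdjoinRoot.mk f (v * H) ∈
        I.map (algebraMap A (AdjoinRoot f)) := by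
      have hz : (v * H * (v * H) - v * H).map mk =
          (f * (-(Polynomial.C 1) * v)).map mk * w := by
        simp only [Polynomial.map_sub, Polynomial.map_mul, hH, Polynomial.map_neg, C_1,
          Polynomial.map_one, hh₀]
        linear_combination (v.map mk * h₀) * hwv
      obtain ⟨w', hw'⟩ := Polynomial.map_surjective _ (Ideal.Quotient.mk_surjective (I := I)) w
      rw [← map_mul, ← map_sub,
        show AdjoinRoot.mk f (v * H * (v * H) - v * H) = AdjoinRoot.mk f
          (v * H * (v * H) - v * H - f * (-(Polynomial.C 1) * v * w')) by simp,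
        ← AdjoinRoot.aeval_eq]
      refine aeval_mem_map_of_coeff (fun i => ?_) _
      rw [← Ideal.Quotient.eq_zero_iff_mem, ← coeff_map, Polynomial.map_sub, hz]
      simp [hw', mk, mul_assoc]
    obtain ⟨e, he, hev⟩ := h (AdjoinRoot f) inferInstance _ hb
    obtain ⟨g, h', hfgh, hgm, hgmap, -⟩ := exists_factor_of_idempotent hI f g₀ h₀ hg hh₀ v
      ⟨w, by linear_combination hwv⟩ H hH e he
      (by rw [← Submodule.map_top]; exact Module.Finite.fg_top.map _) hev
    have hnt : Nontrivial A := mk.domain_nontrivial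
    have hdeg : g.natDegree = 1 := by
      rw [← hgm.natDegree_map mk, hgmap, natDegree_X_sub_C]
    have hg1 := hgm.eq_X_add_C hdeg
    refine ⟨-g.coeff 0, ?_, ?_⟩
    · rw [IsRoot.def, hfgh, eval_mul, hg1]; simp
    · rw [← Ideal.Quotient.mk_eq_mk_iff_sub_mem, map_neg, ← coeff_map, hgmap]
      simp [g₀, mk]

end Groth.Agent.Hensel20
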