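import Groth.Agent.Hensel20.PairApi
import Mathlib.RingTheory.Smooth.StandardSmoothOfFree
import Mathlib.RingTheory.Etale.StandardEtale

/-! Étale and finite étale algebras over henselian pairs. -/

set_option autoImplicit false

open TensorProduct

namespace Groth.Agent.Hensel20

universe u v

variable {A : Type u} [CommRing A] {I : Ideal A}

/-- Maps from an étale algebra modulo a henselian ideal lift. -/
theorem exists_algHom_lift {S : Type u} [CommRing S] [Algebra A S] [Algebra.Etale A S]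
    {C : Type u} [CommRing C] [Algebra A C] (J : Ideal C) [HenselianRing C J]
    (σ : S →ₐ[A] C ⧸ J) : ∃ τ : S →ₐ[A] C, (Ideal.Quotient.mkₐ A J).comp τ = σ := by
  let σ' : C ⊗[A] S →ₐ[C] C ⧸ J :=
    Algebra.TensorProduct.lift (Algebra.ofId C (C ⧸ J)) σ fun _ _ => .all _ _
  obtain ⟨τ, hτ⟩ := hasEtaleLift (C ⊗[A] S) σ'
  refine ⟨(τ.restrictScalars A).comp Algebra.TensorProduct.includeRight, AlgHom.ext fun s => ?_⟩
  have := DFunLike.congr_fun hτ ((1 : C) ⊗ₜ[A] s)
  simp [σ'] at this
  exact this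

lemma one_tmul_eq_zero_iff {B : Type v} [CommRing B] [Algebra A B] (b : B) :
    (1 : A ⧸ I) ⊗ₜ[A] b = 0 ↔ b ∈ I.map (algebraMap A B) := by
  rw [mem_map_iff_mem_smul_top, ← (TensorProduct.quotTensorEquivQuotSMul B I).map_eq_zero_iff]
  have : (TensorProduct.quotTensorEquivQuotSMul B I) ((1 : A ⧸ I) ⊗ₜ[A] b) =
      Submodule.Quotient.mk b := by
    simpa using TensorProduct.quotTensorEquivQuotSMul_mk_tmul I (1 : A) b
  rw [this, Submodule.Quotient.mk_eq_zero]

lemma exists_one_tmul {B : Type v} [CommRing B] [Algebra A B] (z : (A ⧸ I) ⊗[A] B) :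
    ∃ b : B, (1 : A ⧸ I) ⊗ₜ[A] b = z := by
  induction z with
  | zero => exact ⟨0, by simp⟩
  | tmul a b =>
    obtain ⟨a, rfl⟩ := Ideal.Quotient.mk_surjective a
    refine ⟨a • b, ?_⟩
    rw [← TensorProduct.smul_tmul]
    simp [Algebra.smul_def]
  | add x y hx hy =>
    obtain ⟨b, rfl⟩ := hx
    obtain ⟨c, rfl⟩ := hy
    exact ⟨b + c, TensorProduct.tmul_add _ _ _⟩

/-- Reduction is bijective on maps of an étale algebra to a finite algebra. -/
theorem algHom_baseChange_bijective [HenselianRing A I] (B₁ B₂ : Type u) [CommRing B₁]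
    [CommRing B₂] [Algebra A B₁] [Algebra A B₂] [Algebra.Etale A B₁] [Algebra.IsIntegral A B₂] :
    Function.Bijective (fun φ : B₁ →ₐ[A] B₂ =>
      Algebra.TensorProduct.map (AlgHom.id (A ⧸ I) (A ⧸ I)) φ) := by
  have : HenselianRing B₂ (I.map (algebraMap A B₂)) := henselianRing_of_integral B₂
  constructor
  · intro φ ψ h
    refine algHom_eq_of_unramified φ ψ (map_le_jacobson_of_isIntegral (I := I) HenselianRing.jac)
      fun x => ?_
    rw [← one_tmul_eq_zero_iff, TensorProduct.tmul_sub, sub_eq_zero]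
    simpa using DFunLike.congr_fun h ((1 : A ⧸ I) ⊗ₜ[A] x)
  · intro g
    choose f hf using fun x : B₁ => exists_one_tmul (g ((1 : A ⧸ I) ⊗ₜ[A] x))
    let J := I.map (algebraMap A B₂)
    let ρ : (A ⧸ I) ⊗[A] B₂ →ₐ[A] B₂ ⧸ J := Algebra.TensorProduct.lift
      (AlgHom.liftOfSurjective (Algebra.ofId A (A ⧸ I)) Ideal.Quotient.mk_surjective
        (Algebra.ofId A (B₂ ⧸ J)) fun a ha => by
          rw [RingHom.mem_ker] at ha ⊢
          change algebraMap A (B₂ ⧸ J) a = 0
          rw [IsScalarTower.algebraMap_apply A B₂ (B₂ ⧸ J), Ideal.Quotient.algebraMap_eq,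
            Ideal.Quotient.eq_zero_iff_mem]
          exact Ideal.mem_map_of_mem _ (Ideal.Quotient.eq_zero_iff_mem.mp ha))
      (Ideal.Quotient.mkₐ A J) fun _ _ => .all _ _
    let σ : B₁ →ₐ[A] B₂ ⧸ J :=
      ρ.comp ((g.restrictScalars A).comp Algebra.TensorProduct.includeRight)
    obtain ⟨τ, hτ⟩ := exists_algHom_lift J σ
    refine ⟨τ, AlgHom.ext fun z => ?_⟩
    obtain ⟨x, rfl⟩ := exists_one_tmul z
    have h1 : Ideal.Quotient.mk J (τ x) = Ideal.Quotient.mk J (f x) := by
      have := DFunLike.congr_fun hτ x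
      rw [AlgHom.comp_apply] at this
      refine this.trans ?_
      change ρ (g ((1 : A ⧸ I) ⊗ₜ[A] x)) = _
      rw [← hf]
      simp [ρ]
    rw [Ideal.Quotient.mk_eq_mk_iff_sub_mem, ← one_tmul_eq_zero_iff, TensorProduct.tmul_sub,
      sub_eq_zero, hf] at h1
    simpa using h1

/-- An étale algebra over `A/I` lifts to an algebra with a standard presentation. -/
theorem exists_presentation_lift (C : Type u) [CommRing C] [Algebra (A ⧸ I) C]
    [Algebra.Etale (A ⧸ I) C] [Algebra A C] [IsScalarTower A (A ⧸ I) C] :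
    ∃ (B₀ : Type u) (_ : CommRing B₀) (_ : Algebra A B₀) (_ : Algebra.FiniteType A B₀)
      (π : B₀ →ₐ[A] C) (j : B₀), Function.Surjective π ∧ IsUnit (π j) ∧
      (∀ k, π k = 0 → k ∈ I.map (algebraMap A B₀)) ∧
      ∀ (L : Type u) [CommRing L] [Algebra A L] [Algebra B₀ L] [IsScalarTower A B₀ L] (f : B₀)
        [IsLocalization.Away f L], IsUnit (algebraMap B₀ L j) → Algebra.Etale A L := by
  classical
  by_cases hC : Subsingleton C
  · refine ⟨A ⧸ (⊤ : Ideal A), inferInstance, inferInstance, inferInstance,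
      Ideal.Quotient.liftₐ ⊤ (Algebra.ofId A C) (fun _ _ => Subsingleton.elim _ _), 1,
      fun c => ⟨0, Subsingleton.elim _ _⟩, isUnit_of_subsingleton _, fun k _ => ?_,
      fun L _ _ _ _ f _ _ => ?_⟩
    · have : Subsingleton (A ⧸ (⊤ : Ideal A)) := Ideal.Quotient.subsingleton_iff.mpr rfl
      rw [Subsingleton.elim k 0]; exact zero_mem _
    · have : Subsingleton (A ⧸ (⊤ : Ideal A)) := Ideal.Quotient.subsingleton_iff.mpr rfl
      have : Subsingleton L := (IsLocalization.uniqueOfZeroMem (M := Submonoid.powers f)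
        ⟨1, Subsingleton.elim _ _⟩).instSubsingleton
      have : Algebra.IsStandardSmoothOfRelativeDimension 0 A L := inferInstance
      infer_instance
  have hC' : Nontrivial C := not_subsingleton_iff_nontrivial.mp hC
  have hss : Algebra.IsStandardSmoothOfRelativeDimension 0 (A ⧸ I) C :=
    Algebra.Etale.iff_isStandardSmoothOfRelativeDimension_zero.mp inferInstance
  obtain ⟨ι, σ, hι, hσ, P, hP⟩ := hss.out
  have : Fintype σ := Fintype.ofFinite σ
  have : Fintype ι := Fintype.ofFinite ι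
  have hcard : Nat.card ι = Nat.card σ := by
    have h1 := hP
    rw [Algebra.Presentation.dimension] at h1
    have h2 := Nat.card_le_card_of_injective _ P.map_inj
    omega
  rw [Nat.card_eq_fintype_card, Nat.card_eq_fintype_card] at hcard
  choose r hr using fun i : σ => MvPolynomial.map_surjective _
    (Ideal.Quotient.mk_surjective (I := I)) (P.relation i)
  let K : Ideal (MvPolynomial ι A) := Ideal.span (Set.range r)
  let π₀ : MvPolynomial ι A →ₐ[A] C := MvPolynomial.aeval P.val
  have hπ₀ : ∀ p : MvPolynomial ι A, π₀ p = MvPolynomial.aeval P.val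
      (p.map (Ideal.Quotient.mk I)) := fun p => by
    rw [← Ideal.Quotient.algebraMap_eq, MvPolynomial.aeval_map_algebraMap]
  have hK : K ≤ RingHom.ker π₀ := by
    rw [Ideal.span_le]
    rintro _ ⟨i, rfl⟩
    rw [SetLike.mem_coe, RingHom.mem_ker, hπ₀, hr]
    exact P.aeval_val_relation i
  let π : (MvPolynomial ι A ⧸ K) →ₐ[A] C := Ideal.Quotient.liftₐ K π₀ fun a ha => hK ha
  let Q : Algebra.PreSubmersivePresentation A (MvPolynomial ι A ⧸ K) ι σ :=
    Algebra.PreSubmersivePresentation.naive P.map P.map_inj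
  have hQ : π Q.jacobian = P.jacobian := by
    rw [Algebra.PreSubmersivePresentation.jacobian_eq_jacobiMatrix_det,
      Algebra.PreSubmersivePresentation.jacobian_eq_jacobiMatrix_det]
    rw [Algebra.Generators.algebraMap_apply, Algebra.Generators.algebraMap_apply,
      MvPolynomial.comp_aeval_apply]
    have hval : (fun i => π (Q.val i)) = P.val := funext fun i => by
      change π₀ (MvPolynomial.X i) = P.val i
      exact MvPolynomial.aeval_X _ i
    rw [hval]
    change π₀ _ = _
    rw [hπ₀, RingHom.map_det]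
    congr 2
    ext i j : 1
    rw [RingHom.mapMatrix_apply, Matrix.map_apply, Algebra.PreSubmersivePresentation.jacobiMatrix_naive,
      Algebra.PreSubmersivePresentation.jacobiMatrix_apply, ← MvPolynomial.pderiv_map, hr]
  refine ⟨MvPolynomial ι A ⧸ K, inferInstance, inferInstance, inferInstance, π, Q.jacobian, ?_,
    hQ ▸ P.jacobian_isUnit, ?_, ?_⟩
  · intro c
    obtain ⟨p, hp⟩ := MvPolynomial.map_surjective _ (Ideal.Quotient.mk_surjective (I := I)) (P.σ c)
    exact ⟨Ideal.Quotient.mk K p, (hπ₀ p).trans (by rw [hp, P.aeval_val_σ])⟩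
  · intro k hk
    obtain ⟨p, rfl⟩ := Ideal.Quotient.mk_surjective k
    change π₀ p = 0 at hk
    rw [hπ₀] at hk
    have h1 : p.map (Ideal.Quotient.mk I) ∈
        Ideal.map (MvPolynomial.map (Ideal.Quotient.mk I)) K := by
      rw [Ideal.map_span, ← Set.range_comp, show (MvPolynomial.map (Ideal.Quotient.mk I)) ∘ r =
        P.relation from funext hr, P.span_range_relation_eq_ker, P.ker_eq_ker_aeval_val]
      exact hk
    obtain ⟨q, hq, hpq⟩ := (Ideal.mem_map_iff_of_surjective _
      (MvPolynomial.map_surjective _ (Ideal.Quotient.mk_surjective (I := I)))).mp h1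
    have h2 : p - q ∈ RingHom.ker (MvPolynomial.map (σ := ι) (Ideal.Quotient.mk I)) := by
      rw [RingHom.mem_ker, map_sub, hpq, sub_self]
    rw [MvPolynomial.ker_map, Ideal.mk_ker] at h2
    have h3 := Ideal.mem_map_of_mem (Ideal.Quotient.mk K) h2
    rw [Ideal.map_map, map_sub, Ideal.Quotient.eq_zero_iff_mem.mpr hq, sub_zero] at h3
    exact h3
  · intro L _ _ _ _ f _ hu
    let S : Algebra.SubmersivePresentation A L _ _ :=
      { toPreSubmersivePresentation := .comp (.localizationAway L f) Q,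
        jacobian_isUnit := by
          rw [Algebra.PreSubmersivePresentation.comp_jacobian_eq_jacobian_smul_jacobian,
            Algebra.smul_def, Algebra.PreSubmersivePresentation.localizationAway_jacobian]
          exact hu.mul (IsLocalization.Away.algebraMap_isUnit f) }
    have : Algebra.IsStandardSmoothOfRelativeDimension 0 A L :=
      ⟨_, _, _, inferInstance, S, by
        simp only [Algebra.PreSubmersivePresentation.dimension_comp_eq_dimension_add_dimension, S]
        simp [Algebra.Presentation.dimension, hcard]⟩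
    infer_instance

/-- Finite étale algebras lift along henselian pairs. -/
theorem exists_finite_etale_lift [HenselianRing A I] (C : Type u) [CommRing C]
    [Algebra (A ⧸ I) C] [Module.Finite (A ⧸ I) C] [Algebra.Etale (A ⧸ I) C] :
    ∃ (B : Type u) (_ : CommRing B) (_ : Algebra A B), Module.Finite A B ∧ Algebra.Etale A B ∧
      Nonempty ((A ⧸ I) ⊗[A] B ≃ₐ[A ⧸ I] C) := by
  let := Algebra.compHom C (algebraMap A (A ⧸ I))
  have : IsScalarTower A (A ⧸ I) C := .of_algebraMap_eq' rfl
  have : Module.Finite A (A ⧸ I) := Module.Finite.of_surjective (Algebra.linearMap A (A ⧸ I))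
    Ideal.Quotient.mk_surjective
  have : Module.Finite A C := Module.Finite.trans (A ⧸ I) C
  obtain ⟨B₀, _, _, _, π, j, hπ, hj, hker, hEt⟩ := exists_presentation_lift (I := I) C
  have hIC : ∀ a ∈ I, algebraMap A C a = 0 := fun a ha => by
    rw [IsScalarTower.algebraMap_apply A (A ⧸ I) C, Ideal.Quotient.algebraMap_eq,
      Ideal.Quotient.eq_zero_iff_mem.mpr ha, map_zero]
  obtain ⟨e, he, hπe, -, -, hfg⟩ := exists_split_idempotent π hπ hIC (1 : B₀) (map_one π)
    (fun k hk => by rw [mul_one]; exact hker k hk)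
  have : Module.Finite A (LinearMap.range (LinearMap.mulRight A e)) := Module.Finite.iff_fg.mpr hfg
  let L := Localization.Away (j * e)
  have hu : IsUnit (algebraMap B₀ L j) ∧ IsUnit (algebraMap B₀ L e) := by
    have : IsUnit (algebraMap B₀ L (j * e)) := IsLocalization.Away.algebraMap_isUnit _
    rwa [map_mul, IsUnit.mul_iff] at this
  have hone : algebraMap B₀ L e = 1 := by
    refine hu.2.mul_left_cancel ?_
    rw [← map_mul, he.eq, mul_one]
  let ρ : B₀ ⧸ Ideal.span {1 - e} →ₐ[A] L :=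
    Ideal.Quotient.liftₐ _ (IsScalarTower.toAlgHom A B₀ L) (fun a ha => by
      obtain ⟨c, rfl⟩ := Ideal.mem_span_singleton'.mp ha
      simp [hone])
  have hfinQ : Module.Finite A (B₀ ⧸ Ideal.span {1 - e}) := by
    refine Module.Finite.of_surjective ((Ideal.Quotient.mkₐ A (Ideal.span {1 - e})).toLinearMap.comp
        (LinearMap.range (LinearMap.mulRight A e)).subtype) fun x => ?_
    obtain ⟨x, rfl⟩ := Ideal.Quotient.mk_surjective x
    refine ⟨⟨x * e, x, rfl⟩, ?_⟩
    change Ideal.Quotient.mk _ (x * e) = Ideal.Quotient.mk _ x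
    rw [Ideal.Quotient.mk_eq_mk_iff_sub_mem, Ideal.mem_span_singleton']
    exact ⟨-x, by ring⟩
  obtain ⟨j', hj'⟩ : ∃ j' : B₀, π (j' * j) = 1 := by
    obtain ⟨c, hc⟩ := hj.exists_left_inv
    obtain ⟨j', rfl⟩ := hπ c
    exact ⟨j', by rw [map_mul, hc]⟩
  have hjQ : IsUnit (Ideal.Quotient.mk (Ideal.span {1 - e}) j) := by
    refine isUnit_of_mul_isUnit_right (x := Ideal.Quotient.mk _ j') ?_
    rw [← map_mul]
    refine isUnit_of_sub_one_mem (map_le_jacobson_of_isIntegral (I := I) HenselianRing.jac) ?_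
    have h1 := Ideal.mem_map_of_mem (Ideal.Quotient.mk (Ideal.span {1 - e}))
      (hker (j' * j - 1) (by rw [map_sub, hj', map_one, sub_self]))
    rwa [Ideal.map_map, map_sub, map_one] at h1
  have hsurjρ : Function.Surjective ρ := by
    intro x
    obtain ⟨b, ⟨_, n, rfl⟩, rfl⟩ := IsLocalization.exists_mk'_eq (Submonoid.powers (j * e)) x
    obtain ⟨v, hv⟩ := hjQ.exists_left_inv
    refine ⟨v ^ n * Ideal.Quotient.mk _ b, ?_⟩
    rw [IsLocalization.eq_mk'_iff_mul_eq]
    have h1 : ρ v * algebraMap B₀ L j = 1 := by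
      have := congrArg ρ hv
      rwa [map_mul, map_one] at this
    change ρ (v ^ n * _) * algebraMap B₀ L ((j * e) ^ n) = algebraMap B₀ L b
    rw [map_mul, map_pow ρ, map_pow, map_mul, hone, mul_one]
    change ρ v ^ n * algebraMap B₀ L b * _ = _
    rw [mul_right_comm, ← mul_pow, h1, one_pow, one_mul]
  have : Module.Finite A L := Module.Finite.of_surjective ρ.toLinearMap hsurjρ
  have hL : Algebra.Etale A L := hEt L (j * e) hu.1
  let πL : L →ₐ[A] C := IsLocalization.liftAlgHom (M := Submonoid.powers (j * e)) (f := π) (by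
    rintro ⟨y, n, rfl⟩
    have : IsUnit (π (j * e)) := by rw [map_mul, hπe, mul_one]; exact hj
    simpa using this.pow n)
  have hπL : ∀ b, πL (algebraMap B₀ L b) = π b := fun b => IsLocalization.lift_eq _ b
  let θ : (A ⧸ I) ⊗[A] L →ₐ[A ⧸ I] C :=
    Algebra.TensorProduct.lift (Algebra.ofId (A ⧸ I) C) πL fun _ _ => .all _ _
  have hθ : ∀ l : L, θ ((1 : A ⧸ I) ⊗ₜ[A] l) = πL l := fun l => by simp [θ]
  refine ⟨L, inferInstance, inferInstance, inferInstance, hL,
    ⟨AlgEquiv.ofBijective θ ⟨?_, ?_⟩⟩⟩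
  · rw [injective_iff_map_eq_zero]
    intro z hz
    obtain ⟨l, rfl⟩ := exists_one_tmul z
    obtain ⟨q, rfl⟩ := hsurjρ l
    obtain ⟨b, rfl⟩ := Ideal.Quotient.mk_surjective q
    rw [hθ] at hz
    rw [one_tmul_eq_zero_iff]
    have h1 := Ideal.mem_map_of_mem (algebraMap B₀ L) (hker b ((hπL b).symm.trans hz))
    rw [Ideal.map_map, ← IsScalarTower.algebraMap_eq] at h1
    exact h1
  · intro c
    obtain ⟨b, rfl⟩ := hπ c
    exact ⟨(1 : A ⧸ I) ⊗ₜ[A] algebraMap B₀ L b, (hθ _).trans (hπL b)⟩

end Groth.Agent.Hensel20
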