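import Groth.Agent.Hensel20.StageLocal

/-! Serre conditions along ring isomorphisms. -/

set_option autoImplicit false

open IsLocalRing

namespace Groth.Agent.Hensel20

universe u

variable {A B : Type u} [CommRing A] [CommRing B] (e : A ≃+* B)

theorem localization_equiv (P : Ideal B) [P.IsPrime] :
    (P.comap e.toRingHom).height = P.height ∧
      Nonempty (Localization.AtPrime (P.comap e.toRingHom) ≃+* Localization.AtPrime P) := by
  refine ⟨RingEquiv.height_comap e P, ⟨IsLocalization.ringEquivOfRingEquiv (M := (P.comap e.toRingHom).primeCompl) (T := P.primeCompl) (Localization.AtPrime (P.comap e.toRingHom)) (Localization.AtPrime P) e ?_⟩⟩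
  ext y
  obtain ⟨x, rfl⟩ := e.surjective y
  rw [Submonoid.mem_map]
  exact ⟨fun ⟨z, hz, hzx⟩ => e.injective hzx ▸ hz, fun h => ⟨x, h, rfl⟩⟩

include e in
theorem hasSk_of_ringEquiv [IsNoetherianRing A] (k : ℕ) (h : LocCoh.HasSk k A A) :
    LocCoh.HasSk k B B := by
  have : IsNoetherianRing B := isNoetherianRing_of_ringEquiv A e
  rw [CAlg1.hasSk_self_iff] at h ⊢
  intro P _
  obtain ⟨h1, ⟨f⟩⟩ := localization_equiv e P
  rw [← CAlg1.depth_eq_of_ringEquiv f, ← h1]
  exact h _

include e in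
theorem hasRk_of_ringEquiv (k : ℕ) (h : LocCoh.HasRk k A) : LocCoh.HasRk k B := by
  intro P _ hP
  obtain ⟨h1, ⟨f⟩⟩ := localization_equiv e P
  have := h (P.comap e.toRingHom) (h1.symm ▸ hP)
  exact IsRegularLocalRing.of_ringEquiv f

variable {R K : Type u} [CommRing R] [IsLocalRing R] [IsNoetherianRing R] [Field K] [Algebra R K]
  [IsLocalHom (algebraMap R K)] {S : Type u} [CommRing S] [Algebra R S]

theorem hasSk_iff_of_equiv (k : ℕ) (e : Henz21.H R K ≃ₐ[R] S) :
    LocCoh.HasSk k S S ↔ LocCoh.HasSk k R R := by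
  have := isNoetherianRing_H (R := R) (K := K)
  have : IsNoetherianRing S := isNoetherianRing_of_ringEquiv _ e.toRingEquiv
  rw [← hasSk_H_iff (R := R) (K := K) k]
  exact ⟨hasSk_of_ringEquiv e.symm.toRingEquiv k, hasSk_of_ringEquiv e.toRingEquiv k⟩

theorem hasRk_iff_of_equiv (k : ℕ) (e : Henz21.H R K ≃ₐ[R] S) :
    LocCoh.HasRk k S ↔ LocCoh.HasRk k R := by
  rw [← hasRk_H_iff (R := R) (K := K) k]
  exact ⟨hasRk_of_ringEquiv e.symm.toRingEquiv k, hasRk_of_ringEquiv e.toRingEquiv k⟩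

end Groth.Agent.Hensel20
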