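import Groth.Agent.Hensel20.EtaleLift
import Mathlib.RingTheory.Polynomial.UniversalFactorizationRing
import Mathlib.RingTheory.AdjoinRoot

/-! Equivalent forms of the henselian condition for pairs. -/

set_option autoImplicit false

open Polynomial TensorProduct

namespace Groth.Agent.Hensel20

universe u v w

variable {A : Type u} [CommRing A] {I : Ideal A}

/-- Coprime monic factorisations modulo `I` lift. -/
def HasFactorLift (A : Type u) [CommRing A] (I : Ideal A) : Prop :=
  ∀ f : A[X], f.Monic → ∀ g₀ h₀ : (A ⧸ I)[X], g₀.Monic → h₀.Monic → IsCoprime g₀ h₀ →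
    f.map (Ideal.Quotient.mk I) = g₀ * h₀ →
    ∃ g h : A[X], g.Monic ∧ h.Monic ∧ f = g * h ∧
      g.map (Ideal.Quotient.mk I) = g₀ ∧ h.map (Ideal.Quotient.mk I) = h₀

/-- Idempotents lift in finite algebras. -/
def HasIdemLift (A : Type u) [CommRing A] (I : Ideal A) : Prop :=
  ∀ (B : Type u) [CommRing B] [Algebra A B], Module.Finite A B →
    ∀ b : B, b * b - b ∈ I.map (algebraMap A B) →
      ∃ e : B, IsIdempotentElem e ∧ e - b ∈ I.map (algebraMap A B)

/-- Sections of étale algebras lift. -/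
def HasEtaleLift (A : Type u) [CommRing A] (I : Ideal A) : Prop :=
  ∀ (S : Type u) [CommRing S] [Algebra A S] [Algebra.Etale A S] (σ : S →ₐ[A] A ⧸ I),
    ∃ τ : S →ₐ[A] A, (Ideal.Quotient.mkₐ A I).comp τ = σ

theorem hasEtaleLift [HenselianRing A I] : HasEtaleLift A I := fun _ _ _ _ σ =>
  exists_lift_of_etale HenselianRing.jac hasGabberRoots_of_henselianRing σ

theorem hasFactorLift_of_hasEtaleLift (hE : HasEtaleLift A I) : HasFactorLift A I := by
  intro f hf g₀ h₀ hg hh hc heq
  by_cases htop : I = ⊤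
  · have : Subsingleton (A ⧸ I) := Ideal.Quotient.subsingleton_iff.mpr htop
    exact ⟨f, 1, hf, monic_one, (mul_one f).symm, Subsingleton.elim _ _, Subsingleton.elim _ _⟩
  have : Nontrivial (A ⧸ I) := Ideal.Quotient.nontrivial_iff.mpr htop
  let n := f.natDegree
  have hn : n = g₀.natDegree + h₀.natDegree := by
    rw [← hg.natDegree_mul hh, ← heq, hf.natDegree_map]
  let p : MonicDegreeEq A n := .mk f hf rfl
  let U := UniversalCoprimeFactorizationRing g₀.natDegree h₀.natDegree hn p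
  let σ : U →ₐ[A] A ⧸ I :=
    (UniversalCoprimeFactorizationRing.homEquiv (A ⧸ I) g₀.natDegree h₀.natDegree hn p).symm
      ⟨(.mk g₀ hg rfl, .mk h₀ hh rfl), heq.symm, hc⟩
  obtain ⟨τ, hτ⟩ := hE U σ
  let q := UniversalCoprimeFactorizationRing.homEquiv A g₀.natDegree h₀.natDegree hn p τ
  have hq : q.1.1.1 * q.1.2.1 = f := by
    have h := q.2.1
    simp only [Algebra.algebraMap_self, Polynomial.map_id] at h
    exact h
  have h1 := UniversalCoprimeFactorizationRing.homEquiv_comp_fst A g₀.natDegree h₀.natDegree hn p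
    τ (Ideal.Quotient.mkₐ A I)
  have h2 := UniversalCoprimeFactorizationRing.homEquiv_comp_snd A g₀.natDegree h₀.natDegree hn p
    τ (Ideal.Quotient.mkₐ A I)
  rw [hτ, Equiv.apply_symm_apply] at h1 h2
  exact ⟨q.1.1.1, q.1.2.1, q.1.1.monic, q.1.2.monic, hq.symm,
    (congrArg Subtype.val h1).symm, (congrArg Subtype.val h2).symm⟩

/-- Idempotents lift in finite algebras, given factor lifting. -/
theorem hasIdemLift_of_hasFactorLift (hI : I ≤ Ideal.jacobson ⊥) (hF : HasFactorLift A I) :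
    HasIdemLift A I := by
  intro B _ _ _ b hb
  classical
  set J := I.map (algebraMap A B)
  obtain ⟨n, g, hg⟩ := Module.Finite.exists_fin (R := A) (M := B)
  have hrange : LinearMap.range (Algebra.lmul A B (b * b - b)) ≤ I • ⊤ := by
    rintro _ ⟨x, rfl⟩
    rw [← mem_map_iff_mem_smul_top]
    exact Ideal.mul_mem_right x _ hb
  obtain ⟨M, hM, hMI⟩ :=
    Matrix.isRepresentation.toEnd_exists_mem_ideal A g hg (Algebra.lmul A B (b * b - b)) I hrange
  let χ : A[X] := X * (M : Matrix (Fin n) (Fin n) A).charpoly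
  have hχ : χ.Monic := monic_X.mul (Matrix.charpoly_monic _)
  have hχb : aeval (b * b - b) χ = 0 := by
    have h1 : aeval M (M : Matrix (Fin n) (Fin n) A).charpoly = 0 := by
      apply Subtype.ext
      change (Matrix.isRepresentation A g).val (aeval M _) = 0
      rw [← aeval_algHom_apply]
      exact Matrix.aeval_self_charpoly _
    have h2 := congrArg (Matrix.isRepresentation.toEnd A g hg) h1
    rw [← aeval_algHom_apply, hM, aeval_algHom_apply, map_zero] at h2
    have h3 : aeval (b * b - b) (M : Matrix (Fin n) (Fin n) A).charpoly = 0 := by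
      simpa using congr($h2 1)
    simp [χ, h3]
  have hχmap : χ.map (Ideal.Quotient.mk I) = X ^ (n + 1) := by
    have : (M : Matrix (Fin n) (Fin n) A).map (Ideal.Quotient.mk I) = 0 := by
      ext i j; simp [Ideal.Quotient.eq_zero_iff_mem.mpr (hMI i j)]
    rw [Polynomial.map_mul, ← Matrix.charpoly_map, this, Matrix.charpoly_zero, Polynomial.map_X,
      Fintype.card_fin, pow_succ']
  let F : A[X] := χ.comp (X ^ 2 - X)
  by_cases htop : I = ⊤
  · refine ⟨1, IsIdempotentElem.one, ?_⟩
    simp [J, htop, Ideal.map_top]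
  have : Nontrivial (A ⧸ I) := Ideal.Quotient.nontrivial_iff.mpr htop
  have : Nontrivial A := (Ideal.Quotient.mk I).domain_nontrivial
  have hFmonic : F.Monic := by
    refine hχ.comp ?_ ?_
    · exact monic_X_pow_sub (by rw [degree_X]; exact Nat.one_lt_ofNat |> (fun h => by exact_mod_cast h))
    · rw [natDegree_sub_eq_left_of_natDegree_lt (by simp)]; simp
  have hFmap : F.map (Ideal.Quotient.mk I) = X ^ (n + 1) * (X - 1) ^ (n + 1) := by
    simp only [F, Polynomial.map_comp, hχmap, Polynomial.map_sub, Polynomial.map_pow, Polynomial.map_X,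
      X_pow_comp]
    rw [← mul_pow]; ring
  have hc : IsCoprime ((X : (A ⧸ I)[X]) ^ (n + 1)) ((X - 1) ^ (n + 1)) :=
    IsCoprime.pow ⟨1, -1, by ring⟩
  obtain ⟨G, H, -, -, hGH, hG, hH⟩ := hF F hFmonic _ _ (monic_X_pow _)
    (Monic.pow (by simpa using monic_X_sub_C (1 : A ⧸ I)) _) hc hFmap
  let p : B →+* B ⧸ J := Ideal.Quotient.mk J
  have hred : ∀ (P Q : A[X]), P.map (Ideal.Quotient.mk I) = Q.map (Ideal.Quotient.mk I) →
      p (aeval b P) = p (aeval b Q) := by
    intro P Q h
    rw [Ideal.Quotient.mk_eq_mk_iff_sub_mem, ← map_sub]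
    refine aeval_mem_map_of_coeff (fun i => ?_) b
    rw [← Ideal.Quotient.eq_zero_iff_mem, ← coeff_map, Polynomial.map_sub, h, sub_self, coeff_zero]
  have hxy : aeval b G * aeval b H = 0 := by
    rw [← map_mul, ← hGH]
    simp [F, aeval_comp, sq, hχb]
  have hbb : IsIdempotentElem (p b) := by
    rw [IsIdempotentElem, ← map_mul, Ideal.Quotient.mk_eq_mk_iff_sub_mem]
    exact hb
  have hx : p (aeval b G) = p b := by
    rw [hred G (X ^ (n + 1)) (by simp [hG]), map_pow, map_pow, aeval_X, hbb.pow_succ_eq]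
  have hy : p (aeval b H) = (-1) ^ (n + 1) * (1 - p b) := by
    rw [hred H ((X - 1) ^ (n + 1)) (by simp [hH])]
    rw [map_pow, map_pow, map_sub, map_sub, aeval_X, map_one, map_one,
      show p b - 1 = (-1) * (1 - p b) by ring, mul_pow, hbb.one_sub.pow_succ_eq]
  set s : B := (-1) ^ (n + 1) with hs
  have hsum : p (aeval b G + s * aeval b H) = 1 := by
    rw [map_add, map_mul, hx, hy, hs, map_pow, map_neg, map_one, ← mul_assoc, ← pow_add,
      ← two_mul, pow_mul, neg_one_sq, one_pow, one_mul]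
    ring
  obtain ⟨u, hu⟩ := (isUnit_of_sub_one_mem (map_le_jacobson_of_isIntegral hI)
    (a := aeval b G + s * aeval b H) (by
      rw [← Ideal.Quotient.mk_eq_mk_iff_sub_mem]; simpa using hsum)).exists_left_inv
  refine ⟨u * aeval b G, ?_, ?_⟩
  · rw [IsIdempotentElem]
    linear_combination (u * aeval b G) * hu - (u * u * s) * hxy
  · rw [← Ideal.Quotient.mk_eq_mk_iff_sub_mem]
    change p (u * aeval b G) = p b
    have h1 := congrArg p hu
    rw [map_mul, hsum, mul_one, map_one] at h1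
    rw [map_mul, h1, one_mul, hx]

/-- Idempotents lift in integral algebras. -/
theorem exists_idem_lift_of_integral (h : HasIdemLift A I) {B : Type u} [CommRing B] [Algebra A B]
    [Algebra.IsIntegral A B] (b : B) (hb : b * b - b ∈ I.map (algebraMap A B)) :
    ∃ e : B, IsIdempotentElem e ∧ e - b ∈ I.map (algebraMap A B) := by
  classical
  suffices ∀ x ∈ I • (⊤ : Submodule A B), ∃ T : Finset B, ∀ C : Subalgebra A B, ↑T ⊆ (C : Set B) →
      ∃ y : C, (y : B) = x ∧ y ∈ I.map (algebraMap A C) by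
    obtain ⟨T, hT⟩ := this _ (mem_map_iff_mem_smul_top.mp hb)
    let C := Algebra.adjoin A (insert b (T : Set B))
    have hC : Module.Finite A C := Module.Finite.iff_fg.mpr
      (fg_adjoin_of_finite (T.finite_toSet.insert b) fun x _ => Algebra.IsIntegral.isIntegral x)
    obtain ⟨y, hy, hy'⟩ := hT C fun x hx => Algebra.subset_adjoin (Set.mem_insert_of_mem b hx)
    let b' : C := ⟨b, Algebra.subset_adjoin (Set.mem_insert b _)⟩
    obtain rfl : y = b' * b' - b' := Subtype.ext hy
    obtain ⟨e, he, he'⟩ := h C hC b' hy'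
    refine ⟨e, he.map C.val, ?_⟩
    have := Ideal.mem_map_of_mem (C.val : C →+* B) he'
    rw [Ideal.map_map, C.val.comp_algebraMap] at this
    exact this
  intro x hx
  refine Submodule.smul_induction_on hx (fun a ha y _ => ?_) (fun y z hy hz => ?_)
  · refine ⟨{y}, fun C hC => ⟨algebraMap A C a * ⟨y, hC (by simp)⟩, by simp [Algebra.smul_def],
      Ideal.mul_mem_right _ _ (Ideal.mem_map_of_mem _ ha)⟩⟩
  · obtain ⟨T₁, hT₁⟩ := hy
    obtain ⟨T₂, hT₂⟩ := hz
    refine ⟨T₁ ∪ T₂, fun C hC => ?_⟩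
    rw [Finset.coe_union, Set.union_subset_iff] at hC
    obtain ⟨y', rfl, hy'⟩ := hT₁ C hC.1
    obtain ⟨z', rfl, hz'⟩ := hT₂ C hC.2
    exact ⟨y' + z', rfl, add_mem hy' hz'⟩

/-- Factorisations lift if a suitable idempotent lifts. -/
theorem exists_factor_of_idempotent (hI : I ≤ Ideal.jacobson ⊥) (f : A[X]) (g₀ h₀ : (A ⧸ I)[X])
    (hg : g₀.Monic) (heq : f.map (Ideal.Quotient.mk I) = g₀ * h₀) (v : A[X])
    (hv : ∃ w, v.map (Ideal.Quotient.mk I) * h₀ + w * g₀ = 1) (H : A[X])
    (hH : H.map (Ideal.Quotient.mk I) = h₀)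
    (e : AdjoinRoot f) (he : IsIdempotentElem e)
    (hfin : (LinearMap.range (LinearMap.mulRight A e)).FG)
    (hev : e - AdjoinRoot.mk f (v * H) ∈ I.map (algebraMap A (AdjoinRoot f))) :
    ∃ g h : A[X], f = g * h ∧ g.Monic ∧ g.map (Ideal.Quotient.mk I) = g₀ ∧
      h.map (Ideal.Quotient.mk I) = h₀ := by
  classical
  obtain ⟨w, hw⟩ := hv
  by_cases htop : I = ⊤
  · have : Subsingleton (A ⧸ I) := Ideal.Quotient.subsingleton_iff.mpr htop
    exact ⟨1, f, (one_mul f).symm, monic_one, Subsingleton.elim _ _, Subsingleton.elim _ _⟩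
  have : Nontrivial (A ⧸ I) := Ideal.Quotient.nontrivial_iff.mpr htop
  obtain ⟨G, hG, hGdeg, hGm⟩ := lifts_and_degree_eq_and_monic
    ((mem_lifts g₀).mpr (Polynomial.map_surjective _ Ideal.Quotient.mk_surjective g₀)) hg
  let S := AdjoinRoot f
  let J := I.map (algebraMap A S)
  have hmem : ∀ P : A[X], f.map (Ideal.Quotient.mk I) ∣ P.map (Ideal.Quotient.mk I) →
      AdjoinRoot.mk f P ∈ J := by
    rintro P ⟨c, hc⟩
    obtain ⟨c, rfl⟩ := Polynomial.map_surjective _ Ideal.Quotient.mk_surjective c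
    rw [show AdjoinRoot.mk f P = AdjoinRoot.mk f (P - f * c) by simp, ← AdjoinRoot.aeval_eq]
    refine aeval_mem_map_of_coeff (fun i => ?_) _
    rw [← Ideal.Quotient.eq_zero_iff_mem, ← coeff_map, Polynomial.map_sub, Polynomial.map_mul, hc,
      sub_self, coeff_zero]
  let ψ : S →+* AdjoinRoot (f.map (Ideal.Quotient.mk I)) :=
    AdjoinRoot.map (Ideal.Quotient.mk I) f (f.map (Ideal.Quotient.mk I)) dvd_rfl
  have hψ : ∀ P : A[X], ψ (AdjoinRoot.mk f P) = AdjoinRoot.mk _ (P.map (Ideal.Quotient.mk I)) := by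
    intro P
    refine (AdjoinRoot.lift_mk _ P).trans ?_
    rw [← eval₂_map, ← AdjoinRoot.aeval_eq]
    rfl
  have hψJ : J ≤ RingHom.ker ψ := by
    rw [Ideal.map_le_iff_le_comap]
    intro a ha
    rw [Ideal.mem_comap, RingHom.mem_ker]
    change ψ (AdjoinRoot.mk f (C a)) = 0
    rw [hψ]
    simp [Ideal.Quotient.eq_zero_iff_mem.mpr ha]
  obtain ⟨et, het⟩ := AdjoinRoot.mk_surjective (g := f) e
  have hGe : AdjoinRoot.mk f G * e ∈ J := by
    have h1 : AdjoinRoot.mk f G * AdjoinRoot.mk f (v * H) ∈ J := by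
      rw [← map_mul]
      refine hmem _ ⟨v.map (Ideal.Quotient.mk I), ?_⟩
      rw [Polynomial.map_mul, Polynomial.map_mul, hG, hH, heq]; ring
    have := add_mem h1 (Ideal.mul_mem_left J (AdjoinRoot.mk f G) hev)
    convert this using 1; ring
  let W := LinearMap.range (LinearMap.mulRight A e)
  let t : Fin g₀.natDegree → S := fun i => AdjoinRoot.mk f (X ^ (i : ℕ)) * e
  have hW : W ≤ Submodule.span A (Set.range t) := by
    refine Submodule.le_of_le_smul_of_le_jacobson_bot (I := I) hfin hI ?_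
    rintro _ ⟨x, rfl⟩
    obtain ⟨P, rfl⟩ := AdjoinRoot.mk_surjective x
    have hsplit : LinearMap.mulRight A e (AdjoinRoot.mk f P) =
        AdjoinRoot.mk f (P %ₘ G) * e + (AdjoinRoot.mk f (P /ₘ G) * (AdjoinRoot.mk f G * e)) := by
      nth_rw 1 [← modByMonic_add_div P G]
      simp; ring
    rw [hsplit]
    refine Submodule.add_mem_sup ?_ ?_
    · rcases eq_or_ne G 1 with rfl | hG1
      · simp
      have hlt : (P %ₘ G).natDegree < g₀.natDegree := by
        rw [← natDegree_eq_of_degree_eq hGdeg]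
        exact natDegree_modByMonic_lt P hGm hG1
      rw [as_sum_range' (P %ₘ G) g₀.natDegree hlt, map_sum, Finset.sum_mul]
      refine Submodule.sum_mem _ fun i hi => ?_
      rw [← C_mul_X_pow_eq_monomial, map_mul, mul_assoc, AdjoinRoot.mk_C,
        ← AdjoinRoot.algebraMap_eq, ← Algebra.smul_def]
      exact Submodule.smul_mem _ _ (Submodule.subset_span ⟨⟨i, Finset.mem_range.mp hi⟩, rfl⟩)
    · have h3 : LinearMap.mulRight A e (AdjoinRoot.mk f (P /ₘ G) * (AdjoinRoot.mk f G * e)) ∈
          (I • (⊤ : Submodule A S)).map (LinearMap.mulRight A e) :=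
        ⟨_, mem_map_iff_mem_smul_top.mp (Ideal.mul_mem_left _ _ hGe), rfl⟩
      rw [Submodule.map_smul'', Submodule.map_top] at h3
      simpa [W, mul_assoc, he.eq] using h3
  obtain ⟨c, hc⟩ := (Submodule.mem_span_range_iff_exists_fun A).mp
    (hW ⟨AdjoinRoot.mk f (X ^ g₀.natDegree), rfl⟩)
  let R : A[X] := ∑ i : Fin g₀.natDegree, C (c i) * X ^ (i : ℕ)
  have hRdeg : R.degree < (g₀.natDegree : WithBot ℕ) := by
    refine (degree_sum_le _ _).trans_lt ((Finset.sup_lt_iff (WithBot.bot_lt_coe _)).mpr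
      fun i _ => ?_)
    exact lt_of_le_of_lt (degree_C_mul_X_pow_le _ _) (WithBot.coe_lt_coe.mpr i.2)
  let g : A[X] := X ^ g₀.natDegree - R
  have hnt : Nontrivial A := (Ideal.Quotient.mk I).domain_nontrivial
  have hgm : g.Monic := (monic_X_pow _).sub_of_left (by rwa [degree_X_pow])
  have hge : AdjoinRoot.mk f g * e = 0 := by
    simp only [g, R, map_sub, map_sum, map_mul, sub_mul, Finset.sum_mul, AdjoinRoot.mk_C]
    rw [sub_eq_zero]
    exact (hc.symm.trans (Finset.sum_congr rfl fun i _ => by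
      simp [t, Algebra.smul_def, mul_assoc]))
  obtain ⟨cf, hcf⟩ : f ∣ g * et := by
    rw [← AdjoinRoot.mk_eq_zero, map_mul, het, hge]
  obtain ⟨d, hd⟩ : f.map (Ideal.Quotient.mk I) ∣
      et.map (Ideal.Quotient.mk I) - v.map (Ideal.Quotient.mk I) * h₀ := by
    rw [← AdjoinRoot.mk_eq_zero, map_sub, sub_eq_zero, ← hH, ← Polynomial.map_mul, ← hψ, ← hψ,
      het, ← sub_eq_zero, ← map_sub]
    exact hψJ hev
  have hgmap : g.map (Ideal.Quotient.mk I) = g₀ := by
    have hdvd : g₀ ∣ g.map (Ideal.Quotient.mk I) := by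
      have h1 := congrArg (Polynomial.map (Ideal.Quotient.mk I)) hcf
      simp only [Polynomial.map_mul, heq] at h1
      refine ⟨g.map (Ideal.Quotient.mk I) * w + h₀ * cf.map (Ideal.Quotient.mk I)
        - g.map (Ideal.Quotient.mk I) * h₀ * d, ?_⟩
      linear_combination (-(g.map (Ideal.Quotient.mk I))) * hw + h1
        - g.map (Ideal.Quotient.mk I) * hd - (g.map (Ideal.Quotient.mk I) * d) * heq
    refine (Polynomial.eq_of_monic_of_dvd_of_natDegree_le hg (hgm.map _) hdvd ?_)
    rw [hgm.natDegree_map]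
    refine le_of_eq ?_
    rw [natDegree_eq_of_degree_eq (degree_sub_eq_left_of_degree_lt (by rwa [degree_X_pow])),
      natDegree_X_pow]
  have hmf : AdjoinRoot.mk g f = 0 := by
    have h1 : AdjoinRoot.mk g cf * AdjoinRoot.mk g f = 0 := by
      rw [← map_mul, mul_comm, ← hcf]; simp
    have : Module.Finite A (AdjoinRoot g) := hgm.finite_adjoinRoot
    have hu : IsUnit (AdjoinRoot.mk g cf * AdjoinRoot.mk g H) := by
      refine isUnit_of_sub_one_mem (map_le_jacobson_of_isIntegral hI) ?_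
      have hdv : g₀ ∣ cf.map (Ideal.Quotient.mk I) * h₀ - 1 := by
        have h2 := congrArg (Polynomial.map (Ideal.Quotient.mk I)) hcf
        simp only [Polynomial.map_mul, hgmap, heq, mul_assoc] at h2
        have h2 : et.map (Ideal.Quotient.mk I) = h₀ * cf.map (Ideal.Quotient.mk I) :=
          hg.isRegular.left h2
        rw [h2, heq] at hd
        exact ⟨h₀ * d - w, by linear_combination hd + hw⟩
      obtain ⟨z, hz⟩ := hdv
      obtain ⟨z, rfl⟩ := Polynomial.map_surjective _ Ideal.Quotient.mk_surjective z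
      have : AdjoinRoot.mk g cf * AdjoinRoot.mk g H - 1 =
          AdjoinRoot.mk g (cf * H - 1 - g * z) := by simp
      rw [this, ← AdjoinRoot.aeval_eq]
      refine aeval_mem_map_of_coeff (fun i => ?_) _
      rw [← Ideal.Quotient.eq_zero_iff_mem, ← coeff_map]
      simp [hgmap, hH, hz]
    exact (IsUnit.mul_right_eq_zero (isUnit_of_mul_isUnit_left hu)).mp h1
  obtain ⟨h, hh⟩ := AdjoinRoot.mk_eq_zero.mp hmf
  refine ⟨g, h, hh, hgm, hgmap, hg.isRegular.left ?_⟩
  have := congrArg (Polynomial.map (Ideal.Quotient.mk I)) hh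
  simp only [Polynomial.map_mul, hgmap, heq] at this
  exact this.symm

end Groth.Agent.Hensel20
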