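import Groth.Agent.Hensel20.Local
import Mathlib.Algebra.Ring.Pi

/-! Criteria for henselianity using monogenic finite algebras. -/

set_option autoImplicit false

open Polynomial

namespace Groth.Agent.Hensel20

universe u v w

variable {A : Type u} [CommRing A] {I : Ideal A}

/-- In a finite product of local rings idempotents lift along any ideal. -/
theorem exists_idem_of_pi_local {B : Type v} [CommRing B] {ι : Type w} [Fintype ι]
    {R : ι → Type w} [∀ i, CommRing (R i)] (hloc : ∀ i, IsLocalRing (R i))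
    (φ : B ≃+* (∀ i, R i)) {J : Ideal B} {b : B} (hb : b * b - b ∈ J) :
    ∃ e : B, IsIdempotentElem e ∧ e - b ∈ J := by
  classical
  have key : ∀ i, ∃ c : R i, IsIdempotentElem c ∧ ∃ y ∈ J, φ y i = c - φ b i := by
    intro i
    have := hloc i
    by_cases hu : IsUnit (φ b i)
    · obtain ⟨v, hv⟩ := hu.exists_left_inv
      refine ⟨1, IsIdempotentElem.one,
        φ.symm (Pi.single i (-v)) * (b * b - b), J.mul_mem_left _ hb, ?_⟩
      simp only [map_mul, RingEquiv.apply_symm_apply, Pi.mul_apply, Pi.single_eq_same, map_sub,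
        Pi.sub_apply]
      linear_combination (1 - φ b i) * hv
    · obtain ⟨v, hv⟩ :=
        (IsLocalRing.isUnit_one_sub_self_of_mem_nonunits _ hu).exists_left_inv
      refine ⟨0, IsIdempotentElem.zero,
        φ.symm (Pi.single i v) * (b * b - b), J.mul_mem_left _ hb, ?_⟩
      simp only [map_mul, RingEquiv.apply_symm_apply, Pi.mul_apply, Pi.single_eq_same, map_sub,
        Pi.sub_apply]
      linear_combination (-(φ b i)) * hv
  choose c hc y hy hyc using key
  refine ⟨φ.symm c, ?_, ?_⟩
  · exact (show IsIdempotentElem c from funext fun i => hc i).map φ.symm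
  · have : φ.symm c - b = ∑ i, φ.symm (Pi.single i 1) * y i := by
      apply φ.injective
      funext j
      rw [map_sum, Finset.sum_apply, Finset.sum_eq_single j]
      · simp [hyc]
      · intro i _ hij
        simp [Pi.single_eq_of_ne hij.symm]
      · simp
    rw [this]
    exact Ideal.sum_mem _ fun i _ => J.mul_mem_left _ (hy i)

/-- Factorisations lift if idempotents lift in all `A[X]/(f)`, `f` monic. -/
theorem hasFactorLift_of_adjoinRoot (hI : I ≤ Ideal.jacobson ⊥)
    (h : ∀ f : A[X], f.Monic → ∀ b : AdjoinRoot f,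
      b * b - b ∈ I.map (algebraMap A (AdjoinRoot f)) →
      ∃ e, IsIdempotentElem e ∧ e - b ∈ I.map (algebraMap A (AdjoinRoot f))) :
    HasFactorLift A I := by
  intro f hf g₀ h₀ hg _ hc heq
  obtain ⟨w, v₀, hwv⟩ := hc
  obtain ⟨v, rfl⟩ := Polynomial.map_surjective _ Ideal.Quotient.mk_surjective v₀
  obtain ⟨w', rfl⟩ := Polynomial.map_surjective _ (Ideal.Quotient.mk_surjective (I := I)) w
  obtain ⟨H, hH⟩ := Polynomial.map_surjective _ (Ideal.Quotient.mk_surjective (I := I)) h₀
  have hb : AdjoinRoot.mk f (v * H) * AdjoinRoot.mk f (v * H) - AdjoinRoot.mk f (v * H) ∈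
      I.map (algebraMap A (AdjoinRoot f)) := by
    rw [← map_mul, ← map_sub,
      show AdjoinRoot.mk f (v * H * (v * H) - v * H) = AdjoinRoot.mk f
        (v * H * (v * H) - v * H - f * (-v * w')) by simp,
      ← AdjoinRoot.aeval_eq]
    refine aeval_mem_map_of_coeff (fun i => ?_) _
    rw [← Ideal.Quotient.eq_zero_iff_mem, ← coeff_map]
    suffices (v * H * (v * H) - v * H - f * (-v * w')).map (Ideal.Quotient.mk I) = 0 by
      rw [this, coeff_zero]
    simp only [Polynomial.map_sub, Polynomial.map_mul, Polynomial.map_neg, hH, heq]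
    linear_combination (v.map (Ideal.Quotient.mk I) * h₀) * hwv
  have : Module.Finite A (AdjoinRoot f) := hf.finite_adjoinRoot
  obtain ⟨e, he, hev⟩ := h f hf _ hb
  obtain ⟨g, h', hfgh, hgm, hgmap, hh'⟩ := exists_factor_of_idempotent hI f g₀ h₀ hg heq v
    ⟨w'.map (Ideal.Quotient.mk I), by linear_combination hwv⟩ H hH e he
    (by rw [← Submodule.map_top]; exact Module.Finite.fg_top.map _) hev
  exact ⟨g, h', hgm, hgm.of_mul_monic_left (hfgh ▸ hf), hfgh, hgmap, hh'⟩

/-- Idempotents lift in `A[X]/(f)` if reductions of coprime factorisations lift. -/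
theorem hasFactorLift_of_weak (hI : I ≤ Ideal.jacobson ⊥)
    (h : ∀ f : A[X], f.Monic → ∀ g₀ h₀ : (A ⧸ I)[X], g₀.Monic → h₀.Monic → IsCoprime g₀ h₀ →
      f.map (Ideal.Quotient.mk I) = g₀ * h₀ → ∃ g k : A[X], f = g * k ∧
        g.map (Ideal.Quotient.mk I) = g₀ ∧ k.map (Ideal.Quotient.mk I) = h₀) :
    HasFactorLift A I := by
  intro f hf g₀ h₀ hg hh hc heq
  obtain ⟨g, k, hgk, rfl, rfl⟩ := h f hf g₀ h₀ hg hh hc heq
  obtain ⟨w, v₀, hwv⟩ := hc
  obtain ⟨v, rfl⟩ := Polynomial.map_surjective _ Ideal.Quotient.mk_surjective v₀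
  obtain ⟨w, rfl⟩ := Polynomial.map_surjective _ (Ideal.Quotient.mk_surjective (I := I)) w
  have : Module.Finite A (AdjoinRoot f) := hf.finite_adjoinRoot
  let p : A[X] →+* AdjoinRoot f := AdjoinRoot.mk f
  have hJ : p (w * g + v * k) - 1 ∈ I.map (algebraMap A (AdjoinRoot f)) := by
    rw [← map_one p, ← map_sub]
    change AdjoinRoot.mk f _ ∈ _
    rw [← AdjoinRoot.aeval_eq]
    refine aeval_mem_map_of_coeff (fun i => ?_) _
    rw [← Ideal.Quotient.eq_zero_iff_mem, ← coeff_map]
    simp [hwv]
  obtain ⟨u, hu⟩ := (isUnit_of_sub_one_mem (map_le_jacobson_of_isIntegral hI) hJ).exists_left_inv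
  have hxy : p (w * g) * p (v * k) = 0 := by
    have : p (g * k) = 0 := by rw [← hgk]; exact AdjoinRoot.mk_self
    rw [← map_mul, show w * g * (v * k) = w * v * (g * k) by ring, map_mul, this, mul_zero]
  rw [map_add] at hu hJ
  have he : IsIdempotentElem (u * p (v * k)) := by
    rw [IsIdempotentElem]
    linear_combination (u * p (v * k)) * hu - (u * u) * hxy
  have hev : u * p (v * k) - p (v * k) ∈ I.map (algebraMap A (AdjoinRoot f)) := by
    have : u * p (v * k) - p (v * k) = (-u * p (v * k)) * (p (w * g) + p (v * k) - 1) := by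
      linear_combination (p (v * k)) * hu
    rw [this]
    exact Ideal.mul_mem_left _ _ hJ
  obtain ⟨g', h', hfgh, hgm, hgmap, hh'⟩ := exists_factor_of_idempotent hI f _ _ hg heq v
    ⟨w.map (Ideal.Quotient.mk I), by linear_combination hwv⟩ k rfl _ he
    (by rw [← Submodule.map_top]; exact Module.Finite.fg_top.map _) hev
  exact ⟨g', h', hgm, hgm.of_mul_monic_left (hfgh ▸ hf), hfgh, hgmap, hh'⟩

end Groth.Agent.Hensel20
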