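import Mathlib.RingTheory.Unramified.LocalRing
import Mathlib.RingTheory.Unramified.LocalStructure
import Mathlib.RingTheory.LocalRing.ResidueField.Basic
import Mathlib.FieldTheory.IsSepClosed

/-! Residue fields of unramified algebras over local rings with separably closed residue field. -/

set_option autoImplicit false

open IsLocalRing

namespace Groth.Agent.Hensel20

universe u v w

variable {R : Type u} [CommRing R] [IsLocalRing R]

theorem mem_range_of_unramified_of_isSepClosed [IsSepClosed (ResidueField R)]
    {S : Type v} [CommRing S] [Algebra R S] [Algebra.EssFiniteType R S]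
    [Algebra.FormallyUnramified R S] {K : Type w} [Field K] [Algebra R K]
    [IsLocalHom (algebraMap R K)] (σ : S →ₐ[R] K) (x : S) :
    ∃ r : R, σ x = algebraMap R K r := by
  let q : Ideal S := RingHom.ker σ
  have : q.IsPrime := RingHom.ker_isPrime _
  have hqp : maximalIdeal R = q.under R := by
    ext r
    simp only [q, Ideal.mem_comap, RingHom.mem_ker, AlgHom.commutes, mem_maximalIdeal,
      mem_nonunits_iff]
    rw [← isUnit_map_iff (algebraMap R K), isUnit_iff_ne_zero, not_not]
  have : q.LiesOver (maximalIdeal R) := ⟨hqp⟩
  have : Algebra.IsUnramifiedAt R q :=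
    Algebra.FormallyUnramified.comp R S (Localization.AtPrime q)
  let := Localization.AtPrime.algebraOfLiesOver (maximalIdeal R) q
  let F := (maximalIdeal R).ResidueField
  let e : ResidueField R ≃+* F := RingEquiv.ofBijective _
    (Ideal.bijective_algebraMap_quotient_residueField (maximalIdeal R))
  have hF : IsSepClosed F := IsSepClosed.of_exists_root F fun p hp hirr hsep => by
    obtain ⟨y, hy⟩ := IsSepClosed.exists_root (p.map e.symm.toRingHom) (by
      rw [Polynomial.degree_map]; exact (Polynomial.degree_pos_of_irreducible hirr).ne') hsep.map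
    refine ⟨e y, ?_⟩
    apply e.symm.injective
    rw [map_zero, ← RingEquiv.coe_toRingHom, ← Polynomial.eval_map_apply]
    simpa using hy
  have hsurj : Function.Surjective (algebraMap F q.ResidueField) :=
    IsSepClosed.algebraMap_surjective F q.ResidueField
  obtain ⟨c, hc⟩ := hsurj (algebraMap S q.ResidueField x)
  obtain ⟨r, rfl⟩ := (Ideal.bijective_algebraMap_quotient_residueField (maximalIdeal R)).2 c
  obtain ⟨r, rfl⟩ := Ideal.Quotient.mk_surjective r
  refine ⟨r, ?_⟩
  have h1 : algebraMap S q.ResidueField (x - algebraMap R S r) = 0 := by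
    rw [map_sub, ← hc, ← IsScalarTower.algebraMap_apply R S q.ResidueField,
      IsScalarTower.algebraMap_apply R F q.ResidueField]
    exact sub_self _
  rw [Ideal.algebraMap_residueField_eq_zero, RingHom.mem_ker, map_sub, AlgHom.commutes,
    sub_eq_zero] at h1
  exact h1

end Groth.Agent.Hensel20
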