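import Groth.Agent.Hensel20.LocalSplit
import Groth.Agent.Hensel20.SepClosedPoint
import Groth.Agent.Hensel20.MonicCriteria
import Mathlib.RingTheory.Smooth.Flat
import Mathlib.RingTheory.Flat.Stability

/-! Finite and unramified algebras over henselian local rings; criteria by retractions. -/

set_option autoImplicit false

open IsLocalRing

namespace Groth.Agent.Hensel20

universe u v

variable {R : Type u} [CommRing R] [IsLocalRing R]

/-- A finite algebra over a henselian local ring is a finite product of local algebras. -/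
theorem exists_algEquiv_pi_local [HenselianRing R (maximalIdeal R)] (S : Type u) [CommRing S]
    [Algebra R S] [Module.Finite R S] :
    ∃ (ι : Type u) (_ : Fintype ι) (e : ι → S),
      (∀ i, IsLocalRing (S ⧸ Ideal.span {1 - e i})) ∧
      Nonempty (S ≃ₐ[R] (∀ i, S ⧸ Ideal.span {1 - e i})) := by
  classical
  let Z := {q : Ideal S | ∃ _ : q.IsPrime, q.LiesOver (maximalIdeal R)}
  have hfin : Z.Finite := finite_quasiFinite_points.subset fun q ⟨_, h⟩ =>
    ⟨inferInstance, h, inferInstance⟩
  have : Fintype Z := hfin.fintype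
  choose e he _ hmem using fun q : Z => exists_split_points (R := R) (S := S) {q.1} (by
    intro p hp
    rw [Finset.mem_singleton] at hp
    subst hp
    obtain ⟨_, h⟩ := q.2
    exact ⟨inferInstance, h, inferInstance⟩)
  have hmax : ∀ M : Ideal S, M.IsMaximal → M.LiesOver (maximalIdeal R) := fun M hM =>
    ⟨((eq_maximalIdeal (Ideal.isMaximal_comap_of_isIntegral_of_isMaximal M))).symm⟩
  have hjac : ∀ x : S, (∀ M : Ideal S, M.IsMaximal → x ∈ M) → x ∈ Ideal.jacobson (⊥ : Ideal S) :=
    fun x hx => by
      rw [Ideal.jacobson, Submodule.mem_sInf]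
      exact fun M hM => hx M hM.2
  have horth : Pairwise fun i j : Z => e i * e j = 0 := fun i j hij =>
    idem_eq_of_sub_mem le_rfl ((he i).mul (he j)) IsIdempotentElem.zero (by
      rw [sub_zero]
      refine hjac _ fun M hM => ?_
      by_cases hi : M = i.1
      · refine M.mul_mem_left _ (not_not.mp fun h => hij (Subtype.ext ?_))
        exact hi.symm.trans (Finset.mem_singleton.mp ((hmem j M hM.isPrime (hmax M hM)).mp h))
      · exact M.mul_mem_right _ (not_not.mp fun h =>
          hi (Finset.mem_singleton.mp ((hmem i M hM.isPrime (hmax M hM)).mp h))))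
  have hO : OrthogonalIdempotents e := ⟨he, horth⟩
  have hcomp : CompleteOrthogonalIdempotents e := ⟨hO, by
    refine (idem_eq_of_sub_mem le_rfl IsIdempotentElem.one
      (hO.isIdempotentElem_sum (s := Finset.univ)) ?_).symm
    refine hjac _ fun M hM => ?_
    let j : Z := ⟨M, hM.isPrime, hmax M hM⟩
    have h1 : e j ∉ M := (hmem j M hM.isPrime (hmax M hM)).mpr (Finset.mem_singleton_self M)
    refine ((hM.isPrime).mem_or_mem (?_ : e j * (1 - ∑ i, e i) ∈ M)).resolve_left h1
    rw [mul_sub, mul_one, Finset.mul_sum, Finset.sum_eq_single j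
      (fun i _ hi => horth hi.symm) (fun h => absurd (Finset.mem_univ j) h), (he j).eq, sub_self]
    exact zero_mem M⟩
  refine ⟨Z, inferInstance, e, fun q => ?_, ⟨AlgEquiv.ofBijective
    (Pi.algHom R _ fun i => Ideal.Quotient.mkₐ R (Ideal.span {1 - e i})) hcomp.bijective_pi⟩⟩
  obtain ⟨hqp, hqm⟩ := q.2
  have hqmax : q.1.IsMaximal :=
    Ideal.isMaximal_of_isIntegral_of_isMaximal_comap q.1 (hqm.over ▸ maximalIdeal.isMaximal R)
  have hle : Ideal.span {1 - e q} ≤ q.1 := by
    rw [Ideal.span_le, Set.singleton_subset_iff]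
    refine (hqp.mem_or_mem (?_ : e q * (1 - e q) ∈ q.1)).resolve_left
      ((hmem q q.1 hqp hqm).mpr (Finset.mem_singleton_self _))
    rw [mul_sub, mul_one, (he q).eq, sub_self]
    exact zero_mem _
  have : Nontrivial (S ⧸ Ideal.span {1 - e q}) :=
    Ideal.Quotient.nontrivial_iff.mpr fun h => hqp.ne_top (top_le_iff.mp (h ▸ hle))
  refine IsLocalRing.of_unique_max_ideal
    ⟨q.1.map (Ideal.Quotient.mk _),
      Ideal.IsMaximal.map_of_surjective_of_ker_le Ideal.Quotient.mk_surjective (by simpa using hle),
      fun N hN => ?_⟩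
  have hN' : (N.comap (Ideal.Quotient.mk (Ideal.span {1 - e q}))).IsMaximal :=
    Ideal.comap_isMaximal_of_surjective _ Ideal.Quotient.mk_surjective
  have : N.comap (Ideal.Quotient.mk (Ideal.span {1 - e q})) = q.1 := by
    refine Finset.mem_singleton.mp ((hmem q _ hN'.isPrime (hmax _ hN')).mp fun h => ?_)
    have h1 : 1 - e q ∈ N.comap (Ideal.Quotient.mk (Ideal.span {1 - e q})) := by
      rw [Ideal.mem_comap, Ideal.Quotient.eq_zero_iff_mem.mpr (Ideal.mem_span_singleton_self _)]
      exact zero_mem _
    exact hN'.isPrime.one_notMem (by simpa using add_mem h1 h)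
  rw [← this, Ideal.map_comap_of_surjective _ Ideal.Quotient.mk_surjective]

/-- The local ring of a quasi-finite point of the closed fibre is finite. -/
theorem finite_localization [HenselianRing R (maximalIdeal R)] (S : Type u) [CommRing S]
    [Algebra R S] [Algebra.FiniteType R S] (q : Ideal S) [q.IsPrime]
    [hqm : q.LiesOver (maximalIdeal R)] [hqf : Algebra.QuasiFiniteAt R q] :
    Module.Finite R (Localization.AtPrime q) := by
  classical
  obtain ⟨e, he, hfg, hmem⟩ := exists_split_points (R := R) (S := S) {q} (by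
    intro p hp
    rw [Finset.mem_singleton] at hp
    subst hp
    exact ⟨inferInstance, hqm, hqf⟩)
  have heq : e ∉ q := (hmem q inferInstance hqm).mpr (Finset.mem_singleton_self _)
  let L := Localization.AtPrime q
  let ψ : S →ₐ[R] L := IsScalarTower.toAlgHom R S L
  have hψe : ψ e = 1 := by
    have hu : IsUnit (algebraMap S L e) :=
      IsLocalization.map_units L (⟨e, heq⟩ : q.primeCompl)
    refine hu.mul_left_cancel ?_
    rw [mul_one]
    change algebraMap S L e * algebraMap S L e = _
    rw [← map_mul, he.eq]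
  let B := S ⧸ Ideal.span {1 - e}
  have hB : Module.Finite R B := by
    have : Module.Finite R (LinearMap.range (LinearMap.mulRight R e)) := Module.Finite.iff_fg.mpr hfg
    refine Module.Finite.of_surjective
      ((Ideal.Quotient.mkₐ R (Ideal.span {1 - e})).toLinearMap.comp
        (LinearMap.range (LinearMap.mulRight R e)).subtype) fun x => ?_
    obtain ⟨x, rfl⟩ := Ideal.Quotient.mk_surjective x
    refine ⟨⟨x * e, x, rfl⟩, ?_⟩
    change Ideal.Quotient.mk _ (x * e) = Ideal.Quotient.mk _ x
    rw [Ideal.Quotient.mk_eq_mk_iff_sub_mem, Ideal.mem_span_singleton']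
    exact ⟨-x, by ring⟩
  let φ : B →ₐ[R] L := Ideal.Quotient.liftₐ _ ψ (fun a ha => by
    obtain ⟨c, rfl⟩ := Ideal.mem_span_singleton'.mp ha
    rw [map_mul, map_sub, map_one, hψe, sub_self, mul_zero])
  refine Module.Finite.of_surjective φ.toLinearMap fun x => ?_
  obtain ⟨a, ⟨s, hs⟩, rfl⟩ := IsLocalization.exists_mk'_eq q.primeCompl x
  have hu : IsUnit (Ideal.Quotient.mk (Ideal.span {1 - e}) s) := by
    by_contra hn
    obtain ⟨N, hN, hsN⟩ := exists_max_ideal_of_mem_nonunits hn
    have hN' := Ideal.comap_isMaximal_of_surjective _ Ideal.Quotient.mk_surjective (K := N)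
    have hover : (N.comap (Ideal.Quotient.mk (Ideal.span {1 - e}))).LiesOver (maximalIdeal R) := by
      have hm : (N.comap (algebraMap R B)).IsMaximal :=
        Ideal.isMaximal_comap_of_isIntegral_of_isMaximal N
      exact ⟨(eq_maximalIdeal hm).symm.trans (by rw [Ideal.under, Ideal.comap_comap]; rfl)⟩
    have h1 : 1 - e ∈ N.comap (Ideal.Quotient.mk (Ideal.span {1 - e})) := by
      rw [Ideal.mem_comap, Ideal.Quotient.eq_zero_iff_mem.mpr (Ideal.mem_span_singleton_self _)]
      exact zero_mem _
    have h2 := Finset.mem_singleton.mp ((hmem _ hN'.isPrime hover).mp fun h =>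
      hN'.isPrime.one_notMem (by simpa using add_mem h1 h))
    exact hs (h2 ▸ hsN)
  obtain ⟨v, hv⟩ := hu.exists_left_inv
  refine ⟨v * Ideal.Quotient.mk _ a, ?_⟩
  rw [AlgHom.toLinearMap_apply, map_mul, IsLocalization.eq_mk'_iff_mul_eq]
  have h1 : φ v * algebraMap S L s = 1 := by
    have := congrArg φ hv
    rwa [map_mul, map_one] at this
  change φ v * algebraMap S L a * algebraMap S L s = algebraMap S L a
  linear_combination (algebraMap S L a) * h1

/-- The retraction criterion. -/
theorem henselianRing_of_retraction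
    (h : ∀ (S : Type u) [CommRing S] [Algebra R S] [Algebra.Etale R S] (q : Ideal S) [q.IsPrime],
      q.LiesOver (maximalIdeal R) → Function.Surjective (algebraMap R q.ResidueField) →
      Nonempty (S →ₐ[R] R)) : HenselianRing R (maximalIdeal R) := by
  refine henselianRing_of_hasEtaleLift fun S _ _ _ σ => ?_
  have hsurj : Function.Surjective σ := fun c => by
    obtain ⟨r, rfl⟩ := Ideal.Quotient.mk_surjective c
    exact ⟨algebraMap R S r, σ.commutes r⟩
  let := Ideal.Quotient.field (maximalIdeal R)
  let q : Ideal S := RingHom.ker σ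
  have hqmax : q.IsMaximal := RingHom.ker_isMaximal_of_surjective _ hsurj
  have hqover : q.LiesOver (maximalIdeal R) := ⟨by
    ext r
    rw [Ideal.mem_comap, RingHom.mem_ker, AlgHom.commutes]
    exact Ideal.Quotient.eq_zero_iff_mem.symm⟩
  obtain ⟨-, s, hs, hsep⟩ := exists_separating (R := R) q
  let S' := Localization.Away s
  have : Algebra.Etale S S' := Algebra.Etale.of_isLocalizationAway s
  have : Algebra.Etale R S' := Algebra.Etale.comp R S S'
  have hu : IsUnit (σ s) := isUnit_iff_ne_zero.mpr hs
  let σ' : S' →ₐ[R] R ⧸ maximalIdeal R :=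
    IsLocalization.liftAlgHom (M := Submonoid.powers s) (f := σ) (by
      rintro ⟨y, n, rfl⟩; simpa using hu.pow n)
  have hsurj' : Function.Surjective σ' := fun c => by
    obtain ⟨r, rfl⟩ := Ideal.Quotient.mk_surjective c
    exact ⟨algebraMap R S' r, σ'.commutes r⟩
  let q' : Ideal S' := RingHom.ker σ'
  have hqmax' : q'.IsMaximal := RingHom.ker_isMaximal_of_surjective _ hsurj'
  obtain ⟨τ⟩ := h S' q' ⟨by
      ext r
      rw [Ideal.mem_comap, RingHom.mem_ker, AlgHom.commutes]
      exact Ideal.Quotient.eq_zero_iff_mem.symm⟩ (by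
    intro c
    obtain ⟨x, rfl⟩ := (Ideal.bijective_algebraMap_quotient_residueField q').2 c
    obtain ⟨x, rfl⟩ := Ideal.Quotient.mk_surjective x
    obtain ⟨r, hr⟩ := Ideal.Quotient.mk_surjective (σ' x)
    refine ⟨r, ?_⟩
    have h1 : algebraMap R S' r - x ∈ q' := by
      rw [RingHom.mem_ker, map_sub, AlgHom.commutes, sub_eq_zero]; exact hr
    rw [← Ideal.algebraMap_residueField_eq_zero, map_sub, sub_eq_zero,
      ← IsScalarTower.algebraMap_apply] at h1
    exact h1)
  refine ⟨τ.comp (IsScalarTower.toAlgHom R S S'), ?_⟩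
  set ρ := (Ideal.Quotient.mkₐ R (maximalIdeal R)).comp (τ.comp (IsScalarTower.toAlgHom R S S'))
  have hker : RingHom.ker ρ = q := by
    have hρs : Function.Surjective ρ := fun c => by
      obtain ⟨r, rfl⟩ := Ideal.Quotient.mk_surjective c
      exact ⟨algebraMap R S r, ρ.commutes r⟩
    have hmax := RingHom.ker_isMaximal_of_surjective _ hρs
    by_contra hne
    have h1 : ρ s = 0 := hsep _ hmax.isPrime ⟨by
      ext r
      rw [Ideal.mem_comap, RingHom.mem_ker, AlgHom.commutes]
      exact Ideal.Quotient.eq_zero_iff_mem.symm⟩ hne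
    have h2 : IsUnit (ρ s) :=
      (((IsLocalization.Away.algebraMap_isUnit s : IsUnit (algebraMap S S' s))).map τ).map
        (Ideal.Quotient.mk (maximalIdeal R))
    exact not_isUnit_zero (h1 ▸ h2)
  refine AlgHom.ext fun x => ?_
  obtain ⟨r, hr⟩ := Ideal.Quotient.mk_surjective (σ x)
  have h1 : x - algebraMap R S r ∈ RingHom.ker ρ := by
    rw [hker, RingHom.mem_ker, map_sub, AlgHom.commutes, sub_eq_zero]
    exact hr.symm
  rw [RingHom.mem_ker, map_sub, AlgHom.commutes, sub_eq_zero] at h1
  exact h1.trans hr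

/-- An étale point with trivial residue extension and finite local ring gives a retraction. -/
theorem retraction_of_finite (S : Type u) [CommRing S] [Algebra R S] [Algebra.Etale R S]
    (q : Ideal S) [q.IsPrime] [q.LiesOver (maximalIdeal R)]
    (hk : Function.Surjective (algebraMap R q.ResidueField))
    [Module.Finite R (Localization.AtPrime q)] : Nonempty (S →ₐ[R] R) := by
  let L := Localization.AtPrime q
  let := Localization.AtPrime.algebraOfLiesOver (maximalIdeal R) q
  have : Algebra.IsUnramifiedAt R q :=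
    Algebra.FormallyUnramified.comp R S (Localization.AtPrime q)
  have hmax : (maximalIdeal R).map (algebraMap R L) = maximalIdeal L :=
    ((Algebra.isUnramifiedAt_iff_map_eq R (maximalIdeal R) q).mp inferInstance).2
  have : Module.Flat S L := IsLocalization.flat L q.primeCompl
  have : Module.Flat R L := Module.Flat.trans R S L
  have hsurj : Function.Surjective (algebraMap R L) := by
    have hle : (⊤ : Submodule R L) ≤ LinearMap.range (Algebra.linearMap R L) := by
      refine Submodule.le_of_le_smul_of_le_jacobson_bot (I := maximalIdeal R) Module.Finite.fg_top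
        (IsLocalRing.jacobson_eq_maximalIdeal ⊥ bot_ne_top).ge fun x _ => ?_
      obtain ⟨r, hr⟩ := hk (residue L x)
      have h1 : x - algebraMap R L r ∈ maximalIdeal L := by
        rw [← residue_eq_zero_iff, map_sub, sub_eq_zero]; exact hr.symm
      rw [← hmax] at h1
      have : x = algebraMap R L r + (x - algebraMap R L r) := by ring
      rw [this]
      exact Submodule.add_mem_sup ⟨r, rfl⟩ (mem_map_iff_mem_smul_top.mp h1)
    exact fun x => hle (Submodule.mem_top : x ∈ (⊤ : Submodule R L))
  have : IsLocalHom (algebraMap R L) :=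
    ((local_hom_TFAE (algebraMap R L)).out 0 2).mpr hmax.le
  have : Module.FaithfullyFlat R L := Module.FaithfullyFlat.of_flat_of_isLocalHom
  let e : R ≃ₐ[R] L := AlgEquiv.ofBijective (Algebra.ofId R L)
    ⟨FaithfulSMul.algebraMap_injective R L, hsurj⟩
  exact ⟨e.symm.toAlgHom.comp (IsScalarTower.toAlgHom R S L)⟩

end Groth.Agent.Hensel20
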