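import Groth.Agent.Hensel20.ClopenDescent
import Mathlib.AlgebraicGeometry.Sites.Fpqc
import Mathlib.AlgebraicGeometry.Morphisms.FormallyUnramified
import Mathlib.AlgebraicGeometry.Morphisms.QuasiFinite
import Mathlib.AlgebraicGeometry.Morphisms.Etale
import Mathlib.RingTheory.Etale.QuasiFinite

/-! Morphisms of étale schemes descend along the completion of a henselian local ring. -/

set_option autoImplicit false

open CategoryTheory CategoryTheory.Limits AlgebraicGeometry IsLocalRing Topology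

namespace Groth.Agent.Hensel20

universe u

theorem locallyQuasiFinite_of_etale {U S : Scheme.{u}} (b : U ⟶ S) [Etale b] :
    LocallyQuasiFinite b := by
  constructor
  intro V hV W hW e
  have h := b.etale_appLE hV hW e
  algebraize [(b.appLE V W e).hom]
  exact RingHom.quasiFinite_algebraMap.mpr inferInstance

variable {Z X W : Scheme.{u}} {p : Z ⟶ X} {f g : W ⟶ Z}

/-- The locus where two morphisms over `X` coincide. -/
noncomputable abbrev eqLocus (h : f ≫ p = g ≫ p) : Scheme.{u} :=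
  pullback (pullback.lift f g h) (pullback.diagonal p)

theorem eqLocus_condition (h : f ≫ p = g ≫ p) :
    pullback.fst (pullback.lift f g h) (pullback.diagonal p) ≫ f =
      pullback.fst (pullback.lift f g h) (pullback.diagonal p) ≫ g := by
  have hc := pullback.condition (f := pullback.lift f g h) (g := pullback.diagonal p)
  have h1 := congrArg (· ≫ pullback.fst p p) hc
  have h2 := congrArg (· ≫ pullback.snd p p) hc
  simp only [Category.assoc, pullback.lift_fst, pullback.lift_snd, pullback.diagonal_fst,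
    pullback.diagonal_snd, Category.comp_id] at h1 h2
  rw [h1, h2]

theorem range_subset_eqLocus (h : f ≫ p = g ≫ p) {T : Scheme.{u}} (k : T ⟶ W)
    (hk : k ≫ f = k ≫ g) :
    Set.range k.base ⊆ Set.range (pullback.fst (pullback.lift f g h) (pullback.diagonal p)).base := by
  have hc : k ≫ pullback.lift f g h = (k ≫ f) ≫ pullback.diagonal p := by
    apply pullback.hom_ext <;>
      simp only [Category.assoc, pullback.lift_fst, pullback.lift_snd, pullback.diagonal_fst,
        pullback.diagonal_snd, Category.comp_id] <;> exact hk.symm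
  rintro _ ⟨t, rfl⟩
  exact ⟨(pullback.lift k (k ≫ f) hc).base t, by
    rw [← Scheme.Hom.comp_apply, pullback.lift_fst]⟩

/-- Two maps to an étale scheme agreeing along a section of a morphism with connected fibres, one of
them constant on the fibres, are equal. -/
theorem eq_of_section {B : Scheme.{u}} [Etale p] (h : f ≫ p = g ≫ p) (a : W ⟶ B) (d : B ⟶ W)
    (hd : d ≫ a = 𝟙 B) (χ : B ⟶ Z) (hf : f = a ≫ χ) (hg : d ≫ g = χ)
    (hfib : ∀ b : B, _root_.IsPreconnected (a.base ⁻¹' {b})) : f = g := by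
  let ι := pullback.fst (pullback.lift f g h) (pullback.diagonal p)
  suffices Surjective ι by
    have : IsOpenImmersion ι := inferInstance
    have : Epi ι.base := (TopCat.epi_iff_surjective _).2 ι.surjective
    have : IsIso ι := IsOpenImmersion.isIso ι
    exact (cancel_epi ι).1 (eqLocus_condition h)
  refine ⟨fun w => ?_⟩
  let F := a.base ⁻¹' {a.base w}
  have hdF : d.base (a.base w) ∈ F := by
    show a.base (d.base (a.base w)) = a.base w
    rw [← Scheme.Hom.comp_apply, hd]; rfl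
  let z₂ := χ.base (a.base w)
  have hfF : ∀ v ∈ F, f.base v = z₂ := fun v hv => by
    rw [hf, Scheme.Hom.comp_apply, show a.base v = a.base w from hv]
  have hgd : g.base (d.base (a.base w)) = z₂ := by rw [← Scheme.Hom.comp_apply, hg]
  have : LocallyQuasiFinite p := locallyQuasiFinite_of_etale p
  have hdisc : _root_.IsDiscrete (p.base ⁻¹' {p.base z₂}) := p.isDiscrete_preimage_singleton _
  have hgm : Set.MapsTo g.base F (p.base ⁻¹' {p.base z₂}) := fun v hv => by
    show p.base (g.base v) = p.base z₂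
    rw [← hfF v hv, ← Scheme.Hom.comp_apply, ← h, Scheme.Hom.comp_apply]
  have hgF : ∀ v ∈ F, g.base v = z₂ := fun v hv =>
    ((hfib _).constant_of_mapsTo hdisc g.continuous.continuousOn hgm hv hdF).trans hgd
  obtain ⟨_, ⟨(W₂ : Z.Opens), hW₂, rfl⟩, hz, -⟩ := Z.isBasis_affineOpens.exists_subset_of_mem_open
    (Set.mem_univ z₂) isOpen_univ
  have : IsSeparated (W₂.ι ≫ p) := by
    have : IsAffine W₂ := hW₂
    have : IsSeparated ((W₂.ι ≫ p) ≫ terminal.from X) := by
      rw [Subsingleton.elim ((W₂.ι ≫ p) ≫ terminal.from X) (terminal.from (W₂ : Scheme.{u}))]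
      infer_instance
    exact IsSeparated.of_comp (W₂.ι ≫ p) (terminal.from X)
  let V : W.Opens := f ⁻¹ᵁ W₂ ⊓ g ⁻¹ᵁ W₂
  have hFV : F ⊆ Set.range V.ι.base := by
    intro v hv
    rw [Scheme.Opens.range_ι]
    exact ⟨show f.base v ∈ W₂ by rw [hfF v hv]; exact hz,
      show g.base v ∈ W₂ by rw [hgF v hv]; exact hz⟩
  have hr : ∀ k : W ⟶ Z, (V : Set W) ⊆ k.base ⁻¹' W₂ →
      Set.range (V.ι ≫ k).base ⊆ Set.range W₂.ι.base := by
    rintro k hk _ ⟨v, rfl⟩
    rw [Scheme.Opens.range_ι]
    exact hk v.2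
  let f₁ := IsOpenImmersion.lift W₂.ι (V.ι ≫ f) (hr f fun v hv => hv.1)
  let g₁ := IsOpenImmersion.lift W₂.ι (V.ι ≫ g) (hr g fun v hv => hv.2)
  have hf₁ : f₁ ≫ W₂.ι = V.ι ≫ f := IsOpenImmersion.lift_fac ..
  have hg₁ : g₁ ≫ W₂.ι = V.ι ≫ g := IsOpenImmersion.lift_fac ..
  have h₁ : f₁ ≫ (W₂.ι ≫ p) = g₁ ≫ (W₂.ι ≫ p) := by
    rw [reassoc_of% hf₁, reassoc_of% hg₁, h]
  let T := Set.range (pullback.fst (pullback.lift f₁ g₁ h₁) (pullback.diagonal (W₂.ι ≫ p))).base
  have hT : IsClosed T := (Scheme.Hom.isClosedEmbedding _).isClosed_range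
  have hS : IsOpen (Set.range ι.base) := ι.isOpenEmbedding.isOpen_range
  have hST : ∀ v, V.ι.base v ∈ Set.range ι.base ↔ v ∈ T := by
    intro v
    constructor
    · intro hv
      refine range_subset_eqLocus h₁ (pullback.fst V.ι ι) ?_ ?_
      · rw [← cancel_mono W₂.ι, Category.assoc, Category.assoc, hf₁, hg₁,
          pullback.condition_assoc, pullback.condition_assoc, eqLocus_condition h]
      · rw [Scheme.Pullback.range_fst]
        exact hv
    · rintro ⟨t, rfl⟩
      refine range_subset_eqLocus h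
        (pullback.fst (pullback.lift f₁ g₁ h₁) (pullback.diagonal (W₂.ι ≫ p)) ≫ V.ι) ?_ ⟨t, ?_⟩
      · rw [Category.assoc, Category.assoc, ← hf₁, ← hg₁]
        simp only [← Category.assoc, eqLocus_condition h₁]
      · rw [Scheme.Hom.comp_apply]
  have hO : IsOpen (V.ι.base '' Tᶜ) := V.ι.isOpenEmbedding.isOpenMap _ hT.isOpen_compl
  have hdisj : Disjoint (Set.range ι.base) (V.ι.base '' Tᶜ) := by
    rw [Set.disjoint_right]
    rintro _ ⟨v, hv, rfl⟩ hv'
    exact hv ((hST v).1 hv')
  have hcover : F ⊆ Set.range ι.base ∪ V.ι.base '' Tᶜ := fun v hv => by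
    obtain ⟨v', rfl⟩ := hFV hv
    by_cases hv' : v' ∈ T
    · exact Or.inl ((hST v').2 hv')
    · exact Or.inr ⟨v', hv', rfl⟩
  have hdS : d.base (a.base w) ∈ Set.range ι.base :=
    range_subset_eqLocus h d (by rw [hg, hf, reassoc_of% hd]) ⟨_, rfl⟩
  exact (hfib _).subset_left_of_subset_union hS hO hdisj hcover ⟨_, hdF, hdS⟩ rfl

theorem existsUnique_descent (A : Type u) [CommRing A] [IsNoetherianRing A] [HenselianLocalRing A]
    (h : EGA4.HasGeomReducedFormalFibres A) {X Z₁ Z₂ : Scheme.{u}}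
    (s : X ⟶ Spec (CommRingCat.of A)) (p₁ : Z₁ ⟶ X) (p₂ : Z₂ ⟶ X) [Etale p₂]
    (φ' : pullback p₁ (pullback.fst s (cplMap A)) ⟶ pullback p₂ (pullback.fst s (cplMap A)))
    (hφ' : φ' ≫ pullback.snd p₂ _ = pullback.snd p₁ _) :
    ∃! φ : Z₁ ⟶ Z₂, φ ≫ p₂ = p₁ ∧ pullback.fst p₁ _ ≫ φ = φ' ≫ pullback.fst p₂ _ := by
  obtain ⟨hflat, hsurj⟩ := flat_surjective_cplMap A
  let π₁ := pullback.fst p₁ (pullback.fst s (cplMap A))
  let e := φ' ≫ pullback.fst p₂ (pullback.fst s (cplMap A))
  have he : e ≫ p₂ = π₁ ≫ p₁ := by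
    simp only [e, π₁, Category.assoc, pullback.condition, reassoc_of% hφ']
  have hkey : pullback.fst π₁ π₁ ≫ e = pullback.snd π₁ π₁ ≫ e := by
    have h12 : (pullback.fst π₁ π₁ ≫ e) ≫ p₂ = (pullback.snd π₁ π₁ ≫ e) ≫ p₂ := by
      simp only [Category.assoc, he, pullback.condition_assoc]
    refine eq_of_section h12 (pullback.fst π₁ π₁) (pullback.diagonal π₁) (pullback.diagonal_fst _)
      e rfl (by rw [← Category.assoc, pullback.diagonal_snd, Category.id_comp]) fun b => ?_
    have sq1 : IsPullback π₁ (pullback.snd p₁ (pullback.fst s (cplMap A)) ≫ pullback.snd s (cplMap A))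
        (p₁ ≫ s) (cplMap A) :=
      (IsPullback.of_hasPullback p₁ (pullback.fst s (cplMap A))).paste_vert
        (IsPullback.of_hasPullback s (cplMap A))
    have sq2 := (IsPullback.of_hasPullback π₁ π₁).paste_vert sq1
    have hb : (pullback.fst π₁ π₁).base ⁻¹' {b} =
        sq2.isoPullback.inv.base '' ((pullback.fst (π₁ ≫ p₁ ≫ s) (cplMap A)).base ⁻¹' {b}) := by
      ext x
      constructor
      · intro hx
        refine ⟨sq2.isoPullback.hom.base x, ?_, ?_⟩
        · show (pullback.fst (π₁ ≫ p₁ ≫ s) (cplMap A)).base (sq2.isoPullback.hom.base x) = b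
          rw [← Scheme.Hom.comp_apply, IsPullback.isoPullback_hom_fst]
          exact hx
        · rw [← Scheme.Hom.comp_apply, Iso.hom_inv_id]; rfl
      · rintro ⟨y, hy, rfl⟩
        show (pullback.fst π₁ π₁).base (sq2.isoPullback.inv.base y) = b
        rw [← Scheme.Hom.comp_apply, IsPullback.isoPullback_inv_fst]
        exact hy
    rw [hb]
    exact (isPreconnected_fibre A h _ b).image _ (Scheme.Hom.continuous _).continuousOn
  have hdesc : ∀ {T : Scheme.{u}} (g₁ g₂ : T ⟶ _), g₁ ≫ π₁ = g₂ ≫ π₁ → g₁ ≫ e = g₂ ≫ e := by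
    intro T g₁ g₂ hg
    calc g₁ ≫ e = pullback.lift g₁ g₂ hg ≫ pullback.fst π₁ π₁ ≫ e := by
          rw [pullback.lift_fst_assoc]
      _ = g₂ ≫ e := by rw [hkey, pullback.lift_snd_assoc]
  have hfac := EffectiveEpi.fac π₁ e hdesc
  refine ⟨EffectiveEpi.desc π₁ e hdesc, ⟨?_, hfac⟩, fun φ hφ => ?_⟩
  · rw [← cancel_epi π₁, reassoc_of% hfac, he]
  · exact EffectiveEpi.uniq π₁ e hdesc φ hφ.2

end Groth.Agent.Hensel20
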