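import Groth.Agent.Hensel20.PairEtale
import Mathlib.Algebra.MvPolynomial.PDeriv
import Mathlib.LinearAlgebra.Matrix.NonsingularInverse

/-! Square polynomial systems with invertible Jacobian over henselian pairs. -/

set_option autoImplicit false

open MvPolynomial

namespace Groth.Agent.Hensel20

universe u

variable {A : Type u} [CommRing A] {n : ℕ}

/-- First order Taylor expansion. -/
theorem aeval_add_sub_mem {B : Type u} [CommRing B] [Algebra A B] {J : Ideal B} (x ε : Fin n → B)
    (hε : ∀ k, ε k ∈ J) (p : MvPolynomial (Fin n) A) :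
    aeval (x + ε) p - aeval x p - ∑ k, aeval x (pderiv k p) * ε k ∈ J ^ 2 := by
  induction p using MvPolynomial.induction_on with
  | C a => simp
  | add p q hp hq =>
    convert add_mem hp hq using 1
    simp only [map_add, add_mul, Finset.sum_add_distrib]
    ring
  | mul_X p m hp =>
    have hJ : ∀ y : Fin n → B, ∑ k, y k * ε k ∈ J := fun y => sum_mem fun k _ => J.mul_mem_left _ (hε k)
    have h1 : (∑ k, aeval x (pderiv k p) * ε k) * ε m ∈ J ^ 2 := by
      rw [sq]; exact Ideal.mul_mem_mul (hJ _) (hε m)
    convert add_mem (Ideal.mul_mem_right (x m + ε m) _ hp) h1 using 1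
    have h2 : ∀ k, aeval x (pderiv k (p * X m)) * ε k =
        aeval x (pderiv k p) * ε k * x m + if m = k then aeval x p * ε k else 0 := fun k => by
      by_cases h : m = k
      · subst h; simp [pderiv_mul]; ring
      · simp [pderiv_mul, pderiv_X_of_ne h, h]; ring
    simp only [map_mul, aeval_X, Pi.add_apply]
    rw [Finset.sum_congr rfl fun k _ => h2 k, Finset.sum_add_distrib, Finset.sum_ite_eq,
      if_pos (Finset.mem_univ m), ← Finset.sum_mul]
    ring

/-- The Jacobian matrix. -/
noncomputable def jac {B : Type u} [CommRing B] [Algebra A B] {m : ℕ}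
    (G : Fin m → MvPolynomial (Fin n) A) (x : Fin n → B) : Matrix (Fin m) (Fin n) B :=
  Matrix.of fun j k => aeval x (pderiv k (G j))

theorem jac_map {B C : Type u} [CommRing B] [Algebra A B] [CommRing C] [Algebra A C] {m : ℕ}
    (G : Fin m → MvPolynomial (Fin n) A) (x : Fin n → B) (f : B →ₐ[A] C) :
    (jac G x).map f = jac G (fun k => f (x k)) := by
  ext j k
  exact (aux f x (pderiv k (G j)))
where
  aux {B C : Type u} [CommRing B] [Algebra A B] [CommRing C] [Algebra A C]
      (f : B →ₐ[A] C) (x : Fin n → B) (p : MvPolynomial (Fin n) A) :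
      f (aeval x p) = aeval (fun k => f (x k)) p := DFunLike.congr_fun (comp_aeval x f) p

theorem det_jac {B : Type u} [CommRing B] [Algebra A B] (G : Fin n → MvPolynomial (Fin n) A)
    (x : Fin n → B) :
    aeval x (Matrix.of fun j k => pderiv k (G j)).det = (jac G x).det :=
  AlgHom.map_det _ _

/-- The étale algebra of a square system. -/
theorem exists_etale_of_jacobian (G : Fin n → MvPolynomial (Fin n) A) :
    ∃ (T : Type u) (_ : CommRing T) (_ : Algebra A T) (t : Fin n → T), Algebra.Etale A T ∧
      (∀ j, aeval t (G j) = 0) ∧ ∀ (B : Type u) [CommRing B] [Algebra A B] (x : Fin n → B),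
        (∀ j, aeval x (G j) = 0) → IsUnit (jac G x).det →
          ∃ g : T →ₐ[A] B, ∀ k, g (t k) = x k := by
  classical
  let Q := MvPolynomial (Fin n) A ⧸ Ideal.span (Set.range G)
  let q : MvPolynomial (Fin n) A →ₐ[A] Q := Ideal.Quotient.mkₐ A _
  let δ : MvPolynomial (Fin n) A := (Matrix.of fun j k => pderiv k (G j)).det
  let T := Localization.Away (q δ)
  let π : MvPolynomial (Fin n) A →ₐ[A] T := (IsScalarTower.toAlgHom A Q T).comp q
  let t : Fin n → T := fun k => π (X k)
  have hπ : π = aeval t := MvPolynomial.algHom_ext fun k => (aeval_X t k).symm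
  have ht : ∀ j, aeval t (G j) = 0 := fun j => by
    rw [← hπ]
    show algebraMap Q T (q (G j)) = 0
    rw [show q (G j) = 0 from Ideal.Quotient.eq_zero_iff_mem.mpr (Ideal.subset_span ⟨j, rfl⟩),
      map_zero]
  have htu : IsUnit (jac G t).det := by
    rw [← det_jac, ← hπ]
    exact IsLocalization.Away.algebraMap_isUnit (q δ)
  have huniv : ∀ (B : Type u) [CommRing B] [Algebra A B] (x : Fin n → B),
      (∀ j, aeval x (G j) = 0) → IsUnit (jac G x).det →
        ∃ g : T →ₐ[A] B, ∀ k, g (t k) = x k := by
    intro B _ _ x hx hu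
    let g₀ : Q →ₐ[A] B := Ideal.Quotient.liftₐ _ (aeval x) fun a ha =>
      RingHom.mem_ker.mp (Ideal.span_le.mpr (by rintro _ ⟨j, rfl⟩; exact hx j) ha)
    refine ⟨IsLocalization.liftAlgHom (M := Submonoid.powers (q δ)) (f := g₀) ?_, fun k => ?_⟩
    · rintro ⟨_, i, rfl⟩
      rw [map_pow]
      refine IsUnit.pow i ?_
      show IsUnit (aeval x δ)
      rw [det_jac]; exact hu
    · exact (IsLocalization.lift_eq _ (q (X k))).trans (aeval_X x k)
  have : Algebra.FinitePresentation A Q :=
    Algebra.FinitePresentation.quotient (Submodule.fg_span (Set.finite_range G))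
  have : Algebra.FinitePresentation Q T := IsLocalization.Away.finitePresentation (q δ)
  have : Algebra.FinitePresentation A T := Algebra.FinitePresentation.trans A Q T
  have hext : ∀ (B : Type u) [CommRing B] [Algebra A B] (g g' : T →ₐ[A] B),
      (∀ k, g (t k) = g' (t k)) → g = g' := fun B _ _ g g' h =>
    IsLocalization.algHom_ext (Submonoid.powers (q δ)) <|
      Ideal.Quotient.algHom_ext _ (MvPolynomial.algHom_ext h)
  have : Algebra.FormallyEtale A T := by
    rw [Algebra.FormallyEtale.iff_comp_bijective]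
    intro B _ _ J hJ
    let ψ : B →ₐ[A] B ⧸ J := Ideal.Quotient.mkₐ A J
    have hJn : ∀ y ∈ J, IsNilpotent y := fun y hy => ⟨2, by
      rw [← Ideal.mem_bot, ← hJ]; exact Ideal.pow_mem_pow hy 2⟩
    have taylor : ∀ (x ε : Fin n → B), (∀ k, ε k ∈ J) → ∀ j,
        aeval (x + ε) (G j) = aeval x (G j) + ((jac G x).mulVec ε) j := fun x ε hε j => by
      have := aeval_add_sub_mem x ε hε (G j)
      rw [hJ, Ideal.mem_bot, sub_sub, sub_eq_zero] at this
      rw [this]; rfl
    refine ⟨fun g g' h => hext B g g' fun k => ?_, fun f => ?_⟩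
    · let x : Fin n → B := fun k => g (t k)
      let ε : Fin n → B := fun k => g' (t k) - g (t k)
      have hε : ∀ k, ε k ∈ J := fun k => Ideal.Quotient.eq.mp (DFunLike.congr_fun h (t k)).symm
      have hz : ∀ g : T →ₐ[A] B, ∀ j, aeval (fun k => g (t k)) (G j) = 0 := fun g j => by
        rw [← jac_map.aux, ht, map_zero]
      have h0 : (jac G x).mulVec ε = 0 := funext fun j => by
        have := taylor x ε hε j
        rw [show x + ε = fun k => g' (t k) from funext fun k => add_sub_cancel _ _, hz g', hz g,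
          zero_add] at this
        exact this.symm
      have hu : IsUnit (jac G x) := by
        rw [Matrix.isUnit_iff_isUnit_det, ← jac_map G t g, ← AlgHom.mapMatrix_apply,
          ← AlgHom.map_det]
        exact htu.map g
      have := congrFun (Matrix.mulVec_injective_of_isUnit hu (h0.trans (Matrix.mulVec_zero _).symm)) k
      exact (sub_eq_zero.mp this).symm
    · choose x' hx' using fun k => Ideal.Quotient.mk_surjective (f (t k))
      have hxf : (fun k => ψ (x' k)) = fun k => f (t k) := funext hx'
      have hu : IsUnit (jac G x').det := by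
        refine (IsNilpotent.isUnit_quotient_mk_iff (I := J) ⟨2, hJ⟩).mp ?_
        show IsUnit (ψ _)
        rw [AlgHom.map_det, AlgHom.mapMatrix_apply, jac_map, hxf, ← jac_map G t f,
          ← AlgHom.mapMatrix_apply, ← AlgHom.map_det]
        exact htu.map f
      let ε : Fin n → B := -((jac G x')⁻¹.mulVec fun j => aeval x' (G j))
      have hG : ∀ j, aeval x' (G j) ∈ J := fun j => by
        rw [← Ideal.Quotient.eq_zero_iff_mem]
        show ψ _ = 0
        rw [jac_map.aux, hxf, ← jac_map.aux, ht,
          map_zero]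
      have hε : ∀ k, ε k ∈ J := fun k =>
        neg_mem (show ∑ j, (jac G x')⁻¹ k j * aeval x' (G j) ∈ J from
          sum_mem fun j _ => J.mul_mem_left _ (hG j))
      have hz : ∀ j, aeval (x' + ε) (G j) = 0 := fun j => by
        rw [taylor x' ε hε]
        simp [ε, Matrix.mulVec_neg, Matrix.mulVec_mulVec, Matrix.mul_nonsing_inv _ hu]
      have hxε : (fun k => ψ ((x' + ε) k)) = fun k => f (t k) := funext fun k => by
        rw [Pi.add_apply, map_add, show ψ (ε k) = 0 from Ideal.Quotient.eq_zero_iff_mem.mpr (hε k),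
          add_zero]
        exact hx' k
      have hu' : IsUnit (jac G (x' + ε)).det := by
        refine (IsNilpotent.isUnit_quotient_mk_iff (I := J) ⟨2, hJ⟩).mp ?_
        show IsUnit (ψ _)
        rw [AlgHom.map_det, AlgHom.mapMatrix_apply, jac_map, hxε, ← jac_map G t f,
          ← AlgHom.mapMatrix_apply, ← AlgHom.map_det]
        exact htu.map f
      obtain ⟨g, hg⟩ := huniv B _ hz hu'
      refine ⟨g, hext _ _ _ fun k => ?_⟩
      show ψ (g (t k)) = f (t k)
      rw [hg]; exact congrFun hxε k
  exact ⟨T, inferInstance, inferInstance, t, { }, ht, huniv⟩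

/-- Square systems with invertible Jacobian have roots over henselian pairs. -/
theorem exists_root_of_jacobian {I : Ideal A} [HenselianRing A I]
    (G : Fin n → MvPolynomial (Fin n) A) (a : Fin n → A) (ha : ∀ j, aeval a (G j) ∈ I)
    (hu : IsUnit (Ideal.Quotient.mk I (jac G a).det)) :
    ∃ x : Fin n → A, (∀ j, aeval x (G j) = 0) ∧ ∀ k, x k - a k ∈ I := by
  obtain ⟨T, _, _, t, hT, ht, huniv⟩ := exists_etale_of_jacobian G
  let ψ : A →ₐ[A] A ⧸ I := Ideal.Quotient.mkₐ A I
  obtain ⟨σ, hσ⟩ := huniv (A ⧸ I) (fun k => ψ (a k)) (fun j => by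
      rw [← jac_map.aux]
      exact Ideal.Quotient.eq_zero_iff_mem.mpr (ha j)) (by
      rw [← jac_map, ← AlgHom.mapMatrix_apply, ← AlgHom.map_det]
      exact hu)
  obtain ⟨τ, hτ⟩ := exists_algHom_lift I σ
  refine ⟨fun k => τ (t k), fun j => ?_, fun k => ?_⟩
  · rw [← jac_map.aux, ht, map_zero]
  · exact Ideal.Quotient.eq.mp ((DFunLike.congr_fun hτ (t k)).trans (hσ k))

end Groth.Agent.Hensel20
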