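import Groth.Agent.Hensel20.Stages
import Groth.Agent.Unr55.EtStalk
import Mathlib.RingTheory.Ideal.GoingDown
import Mathlib.RingTheory.KrullDimension.Basic
import Mathlib.RingTheory.QuasiFinite.Basic

/-! Dimension, reducedness and normality of henselizations. -/

set_option autoImplicit false

open IsLocalRing

namespace Groth.Agent.Hensel20

open Henz21

universe u

variable {R K : Type u} [CommRing R] [IsLocalRing R] [Field K] [Algebra R K]
  [IsLocalHom (algebraMap R K)]

theorem isReduced_H_iff : IsReduced (H R K) ↔ IsReduced R := by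
  refine ⟨fun _ => Unr55.isReduced_of_faithfullyFlat R (H R K), fun _ => ⟨fun x hx => ?_⟩⟩
  obtain ⟨i, hi⟩ := exists_stage ({()} : Finset Unit) (fun _ => x)
  obtain ⟨y, rfl⟩ := hi () (by simp)
  have : IsReduced i.S := Unr55.isReduced_of_etale (A := R)
  have : IsReduced (Stage i) :=
    isReduced_localizationPreserves (stagePrime i).primeCompl (Stage i) inferInstance
  rw [((IsNilpotent.map_iff (stageHom_injective i)).mp hx).eq_zero, map_zero]

theorem isNormal_H_iff :
    (IsDomain (H R K) ∧ IsIntegrallyClosed (H R K)) ↔ (IsDomain R ∧ IsIntegrallyClosed R) := by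
  refine ⟨fun ⟨_, _⟩ => Unr55.isNormalDomain_of_faithfullyFlat R (H R K), fun ⟨_, _⟩ => ?_⟩
  have hnd : ∀ i : Pt R K, IsDomain (Stage i) ∧ IsIntegrallyClosed (Stage i) := fun i =>
    Unr55.isNormalDomain_localization_of_etale (A := R) (stagePrime i)
  have : NoZeroDivisors (H R K) := ⟨fun {x y} hxy => by
    obtain ⟨i, hi⟩ := exists_stage (Finset.univ : Finset (Fin 2)) ![x, y]
    obtain ⟨a, ha⟩ := hi 0 (Finset.mem_univ _)
    obtain ⟨b, hb⟩ := hi 1 (Finset.mem_univ _)
    obtain rfl : stageHom i a = x := ha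
    obtain rfl : stageHom i b = y := hb
    have := (hnd i).1
    rcases mul_eq_zero.mp (stageHom_injective i ((map_mul _ a b).trans (hxy.trans (map_zero _).symm)))
      with h | h
    · exact Or.inl (by rw [h, map_zero])
    · exact Or.inr (by rw [h, map_zero])⟩
  have hd : IsDomain (H R K) := NoZeroDivisors.to_isDomain _
  refine ⟨hd, (isIntegrallyClosed_iff (FractionRing (H R K))).mpr fun {z} hz => ?_⟩
  classical
  obtain ⟨p, hp, hpz⟩ := hz
  obtain ⟨⟨x, s⟩, hxs⟩ := IsLocalization.surj (nonZeroDivisors (H R K)) z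
  obtain ⟨i, hi⟩ := exists_stage (Finset.univ : Finset (Fin 2 ⊕ Fin (p.natDegree + 1)))
    (Sum.elim ![x, (s : H R K)] (fun k => p.coeff k))
  obtain ⟨a, ha⟩ := hi (.inl 0) (Finset.mem_univ _)
  obtain ⟨b, hb⟩ := hi (.inl 1) (Finset.mem_univ _)
  obtain rfl : stageHom i a = x := ha
  have hb : stageHom i b = s := hb
  have := (hnd i).1
  have := (hnd i).2
  have hb0 : b ≠ 0 := fun h => nonZeroDivisors.coe_ne_zero s (by rw [← hb, h, map_zero])
  have hl : p ∈ Polynomial.lifts (stageHom i).toRingHom := by
    refine (Polynomial.lifts_iff_coeff_lifts p).mpr fun n => ?_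
    by_cases hn : n < p.natDegree + 1
    · exact hi (.inr ⟨n, hn⟩) (Finset.mem_univ _)
    · exact ⟨0, by rw [p.coeff_eq_zero_of_natDegree_lt (by omega)]; exact map_zero _⟩
  obtain ⟨q, hq, -, hqm⟩ := Polynomial.lifts_and_degree_eq_and_monic hl hp
  let ψ : FractionRing (Stage i) →+* FractionRing (H R K) :=
    IsFractionRing.lift (K := FractionRing (Stage i))
      (g := (algebraMap (H R K) (FractionRing (H R K))).comp (stageHom i).toRingHom)
      ((FaithfulSMul.algebraMap_injective (H R K) (FractionRing (H R K))).comp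
        (stageHom_injective i))
  have hψ : ∀ w, ψ (algebraMap (Stage i) _ w) = algebraMap (H R K) _ (stageHom i w) := fun w =>
    IsFractionRing.lift_algebraMap _ w
  let w : FractionRing (Stage i) := algebraMap (Stage i) _ a / algebraMap (Stage i) _ b
  have hb' : algebraMap (Stage i) (FractionRing (Stage i)) b ≠ 0 := by simpa using hb0
  have hw : ψ w = z := by
    rw [map_div₀, hψ, hψ, hb, div_eq_iff (by simpa using nonZeroDivisors.coe_ne_zero s)]
    exact hxs.symm
  have hint : IsIntegral (Stage i) w := ⟨q, hqm, ψ.injective (by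
    rw [map_zero, Polynomial.hom_eval₂, hw, ← hpz, ← hq, Polynomial.eval₂_map]
    congr 1
    exact RingHom.ext hψ)⟩
  obtain ⟨c, hc⟩ := IsIntegrallyClosed.isIntegral_iff.mp hint
  exact ⟨stageHom i c, by rw [← hψ, hc, hw]⟩

theorem ringKrullDim_H : ringKrullDim (H R K) = ringKrullDim R := by
  refine le_antisymm ?_ ?_
  · refine Order.krullDim_le_of_strictMono (PrimeSpectrum.comap (algebraMap R (H R K)))
      fun P Q hPQ => ?_
    refine lt_of_le_of_ne (Ideal.comap_mono hPQ.le) fun heq => hPQ.ne ?_
    refine PrimeSpectrum.ext (le_antisymm hPQ.le fun x hx => ?_)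
    obtain ⟨i, hi⟩ := exists_stage ({()} : Finset Unit) (fun _ => x)
    obtain ⟨y, hy⟩ := hi () (by simp)
    obtain rfl : stageHom i y = x := hy
    let f := (algebraMap (Stage i) (H R K)).comp (algebraMap i.S (Stage i))
    have hcomap : ∀ T : Ideal (H R K), (T.comap f).under R = T.comap (algebraMap R (H R K)) :=
      fun T => by
        rw [Ideal.under_def, Ideal.comap_comap]
        congr 1
        exact RingHom.ext fun r => by
          show stageHom i (algebraMap i.S _ (algebraMap R i.S r)) = _
          rw [← IsScalarTower.algebraMap_apply, AlgHom.commutes]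
    have hST : P.asIdeal.comap f = Q.asIdeal.comap f :=
      Algebra.QuasiFinite.eq_of_le_of_under_eq (R := R) _ _ (Ideal.comap_mono hPQ.le)
        (by rw [hcomap, hcomap]; exact congrArg PrimeSpectrum.asIdeal heq)
    have hL : Q.asIdeal.comap (algebraMap (Stage i) (H R K)) ≤
        P.asIdeal.comap (algebraMap (Stage i) (H R K)) := by
      rw [← IsLocalization.map_comap (stagePrime i).primeCompl (Stage i)
          (Q.asIdeal.comap (algebraMap (Stage i) (H R K))), Ideal.map_le_iff_le_comap,
        Ideal.under_def, Ideal.comap_comap, Ideal.comap_comap]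
      exact hST.ge
    exact hL hx
  · refine iSup_le fun l => ?_
    obtain ⟨P, hP⟩ := PrimeSpectrum.comap_surjective_of_faithfullyFlat (B := H R K) l.last
    have : P.asIdeal.LiesOver l.last.asIdeal := ⟨(congrArg PrimeSpectrum.asIdeal hP).symm⟩
    obtain ⟨l', hl', -, -⟩ := Ideal.exists_ltSeries_of_hasGoingDown l P.asIdeal
    exact le_iSup_of_le l' (by rw [hl'])

end Groth.Agent.Hensel20
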