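import Groth.Agent.E4O.DvrDom
import Mathlib.RingTheory.Valuation.LocalSubring
import Mathlib.RingTheory.Ideal.AssociatedPrime.Finiteness
import Mathlib.RingTheory.IntegralClosure.IsIntegralClosure.Basic

/-! Divisibility in the integral closure is tested on finitely many discrete valuation rings. -/

set_option autoImplicit false

open IsLocalRing

namespace Groth.Agent.Hensel20

universe u v

/-- A family of submodules which separates annihilator primes has a separating finite subfamily. -/
theorem exists_finset_inf_eq_bot {R : Type u} [CommRing R] [IsNoetherianRing R] {M : Type u}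
    [AddCommGroup M] [Module R M] [Module.Finite R M] {ι : Type v} (N : ι → Submodule R M)
    (h : ∀ (q : Ideal R) [q.IsPrime] (c : M), (∀ r, r • c = 0 ↔ r ∈ q) →
      ∃ i, ∀ r ∉ q, r • c ∉ N i) :
    ∃ F : Finset ι, F.inf N = ⊥ := by
  classical
  have step : ∀ (q : Ideal R) [q.IsPrime], ∃ F : Finset ι, ∀ c : M,
      (∀ r, r • c = 0 ↔ r ∈ q) → c ∉ F.inf N := by
    intro q _
    by_contra hcon
    push Not at hcon
    choose c hc hcN using hcon
    choose g hg using fun F => h q (c F) (hc F)
    let seq : ℕ → Finset ι := fun n => Nat.rec (∅ : Finset ι) (fun _ F => insert (g F) F) n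
    have seq_succ : ∀ n, seq (n + 1) = insert (g (seq n)) (seq n) := fun _ => rfl
    have hseq : ∀ n, seq n ⊆ seq (n + 1) := fun n => by
      rw [seq_succ]; exact Finset.subset_insert _ _
    let S : ℕ → Submodule R M := fun n => Submodule.span R ((fun i => c (seq i)) '' Set.Iio n)
    have hS : ∀ n, S n ⊓ (seq n).inf N = ⊥ := by
      intro n
      induction n with
      | zero => simp [S, show Set.Iio 0 = (∅ : Set ℕ) from Set.ext fun x => by simp]
      | succ n ih =>
        refine eq_bot_iff.mpr fun y hy => ?_
        obtain ⟨hy1, hy2⟩ := hy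
        rw [SetLike.mem_coe] at hy1 hy2
        have : Set.Iio (n + 1) = insert n (Set.Iio n) := by ext x; simp
        simp only [S, this, Set.image_insert_eq, Submodule.mem_span_insert] at hy1
        obtain ⟨r, z, hz, rfl⟩ := hy1
        have hy3 : r • c (seq n) + z ∈ (seq n).inf N := SetLike.le_def.mp (Finset.inf_mono (hseq n)) hy2
        have hz0 : z = 0 := by
          have : z ∈ (seq n).inf N := by simpa using sub_mem hy3 (Submodule.smul_mem _ r (hcN (seq n)))
          have h2 : z ∈ S n ⊓ (seq n).inf N := ⟨hz, this⟩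
          rwa [ih, Submodule.mem_bot] at h2
        rw [hz0, add_zero] at hy2 ⊢
        rw [Submodule.mem_bot, hc]
        by_contra hr
        refine hg (seq n) r hr (SetLike.le_def.mp (Finset.inf_le (f := N) ?_) hy2)
        rw [seq_succ]; exact Finset.mem_insert_self _ _
    have hmono : Monotone S := fun a b hab =>
      Submodule.span_mono (Set.image_mono fun x hx => lt_of_lt_of_le hx hab)
    obtain ⟨n, hn⟩ := monotone_stabilizes_iff_noetherian.mpr
      (inferInstance : IsNoetherian R M) ⟨S, hmono⟩
    have h1 : c (seq n) ∈ S n := by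
      rw [show S n = S (n + 1) from hn (n + 1) (Nat.le_succ n)]
      exact Submodule.subset_span ⟨n, Nat.lt_succ_self n, rfl⟩
    have h2 : c (seq n) ∈ S n ⊓ (seq n).inf N := ⟨h1, hcN _⟩
    rw [hS, Submodule.mem_bot] at h2
    exact (inferInstance : q.IsPrime).ne_top ((Ideal.eq_top_iff_one q).mpr
      ((hc (seq n) 1).mp (by rw [h2, smul_zero])))
  have hfin := associatedPrimes.finite R M
  choose F hF using fun q : associatedPrimes R M => (haveI := q.2.isPrime; step q.1)
  have := hfin.fintype
  refine ⟨Finset.univ.biUnion F, ?_⟩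
  by_contra hne
  have : Nontrivial ↥((Finset.univ.biUnion F).inf N) := Submodule.nontrivial_iff_ne_bot.mpr hne
  obtain ⟨q, hq⟩ := associatedPrimes.nonempty R ↥((Finset.univ.biUnion F).inf N)
  obtain ⟨hqp, x, hx⟩ := isAssociatedPrime_iff.mp hq
  have hann : ∀ r, r • (x : M) = 0 ↔ r ∈ q := fun r => by
    rw [hx, Submodule.mem_colon_singleton, Submodule.mem_bot, ← Submodule.coe_smul,
      ZeroMemClass.coe_eq_zero]
  have hqM : q ∈ associatedPrimes R M :=
    associatedPrimes.subset_of_injective (f := Submodule.subtype _) Subtype.val_injective hq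
  refine hF ⟨q, hqM⟩ x hann (SetLike.le_def.mp (Finset.inf_mono ?_) x.2)
  exact Finset.subset_biUnion_of_mem F (Finset.mem_univ _)

section

variable {A L : Type u} [CommRing A] [IsDomain A] [IsNoetherianRing A] [Field L] [Algebra A L]
  [IsFractionRing A L]

/-- An element not integral at a prime is excluded by a discrete valuation ring. -/
theorem exists_dvr_not_mem (q : Ideal A) [q.IsPrime] (w : L)
    (hw : ∀ t ∉ q, ¬ IsIntegral A (algebraMap A L t * w)) :
    ∃ V : ValuationSubring L, IsDiscreteValuationRing V ∧ (∀ a : A, algebraMap A L a ∈ V) ∧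
      ∀ t ∉ q, algebraMap A L t * w ∉ V := by
  classical
  have hw0 : w ≠ 0 := fun h => hw 1 (fun h1 => (inferInstance : q.IsPrime).ne_top
    ((Ideal.eq_top_iff_one q).mpr h1)) (by rw [h, mul_zero]; exact isIntegral_zero)
  have hunit : ∀ t : q.primeCompl, IsUnit (algebraMap A L t) := fun t =>
    isUnit_iff_ne_zero.mpr fun h => t.2 (by
      rw [(map_eq_zero_iff _ (IsFractionRing.injective A L)).mp h]; exact q.zero_mem)
  let g : Localization.AtPrime q →+* L := IsLocalization.lift hunit
  obtain ⟨V₀, hV₀, hwV₀⟩ : ∃ V₀ : ValuationSubring L, (∀ z, g z ∈ V₀) ∧ w ∉ V₀ := by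
    by_contra hcon
    push Not at hcon
    have hmem : w ∈ (⨅ V : {V : ValuationSubring L // Set.range g ⊆ V.toSubring}, V.1.toSubring) :=
      Subring.mem_iInf.mpr fun V => hcon V.1 fun z => V.2 ⟨z, rfl⟩
    rw [iInf_valuationSubring_superset] at hmem
    obtain ⟨p, hpm, hp⟩ := hmem
    let _ : Algebra (Localization.AtPrime q) L := g.toAlgebra
    have : IsScalarTower A (Localization.AtPrime q) L :=
      IsScalarTower.of_algebraMap_eq fun a => (IsLocalization.lift_eq hunit a).symm
    have hr : Subring.closure (Set.range g) = g.range := by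
      rw [← RingHom.coe_range, Subring.closure_eq]
    have hl : p.map (Subring.closure (Set.range g)).subtype ∈ Polynomial.lifts g := by
      rw [Polynomial.lifts_iff_coeff_lifts]
      intro k
      rw [Polynomial.coeff_map]
      exact (hr ▸ (p.coeff k).2 : ((p.coeff k : L)) ∈ g.range)
    obtain ⟨P, hP, -, hPm⟩ := Polynomial.lifts_and_degree_eq_and_monic hl (hpm.map _)
    have hint : IsIntegral (Localization.AtPrime q) w := ⟨P, hPm, by
      rw [show algebraMap (Localization.AtPrime q) L = g from rfl, ← Polynomial.eval_map, hP,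
        Polynomial.eval_map]
      exact hp⟩
    obtain ⟨⟨t, ht⟩, htw⟩ := hint.exists_multiple_integral_of_isLocalization q.primeCompl w
    exact hw t ht (by rwa [Submonoid.mk_smul, Algebra.smul_def] at htw)
  have hA : ∀ a : A, algebraMap A L a ∈ V₀ := fun a =>
    (IsLocalization.lift_eq (S := Localization.AtPrime q) hunit a) ▸
      hV₀ (algebraMap A (Localization.AtPrime q) a)
  have hinv : w⁻¹ ∈ V₀ := (V₀.mem_or_inv_mem w).resolve_left hwV₀
  let D := Algebra.adjoin A ({w⁻¹} : Set L)
  have hDV : ∀ d : D, (d : L) ∈ V₀ := fun d => by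
    refine Algebra.adjoin_induction (p := fun z _ => z ∈ V₀) ?_ hA (fun _ _ _ _ => add_mem)
      (fun _ _ _ _ => mul_mem) d.2
    rintro z rfl; exact hinv
  let ι : D →+* V₀ := D.val.toRingHom.codRestrict V₀.toSubring hDV
  let N : Ideal D := (maximalIdeal V₀).comap ι
  have hft : Algebra.FiniteType A D := Algebra.FiniteType.adjoin_of_finite (Set.finite_singleton _)
  have : IsNoetherianRing D := Algebra.FiniteType.isNoetherianRing A D
  have hwN : (⟨w⁻¹, Algebra.subset_adjoin rfl⟩ : D) ∈ N := by
    rw [Ideal.mem_comap, mem_maximalIdeal, mem_nonunits_iff]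
    intro hu
    obtain ⟨⟨y, hy⟩, hxy⟩ := hu.exists_right_inv
    have h1 : w⁻¹ * y = 1 := congrArg Subtype.val hxy
    exact hwV₀ ((inv_mul_eq_one₀ hw0).mp h1 ▸ hy)
  have hfr : IsFractionRing D L := IsFractionRing.of_field D L fun z => by
    obtain ⟨x, y, -, hz⟩ := IsFractionRing.div_surjective (A := A) z
    exact ⟨algebraMap A D x, algebraMap A D y, hz.symm⟩
  let DN := Localization.AtPrime N
  let _ : Algebra DN L := (IsLocalization.lift (M := N.primeCompl) (g := algebraMap D L)
    fun y => isUnit_iff_ne_zero.mpr fun h => y.2 (by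
      rw [(map_eq_zero_iff _ (IsFractionRing.injective D L)).mp h]; exact N.zero_mem)).toAlgebra
  have : IsScalarTower D DN L :=
    IsScalarTower.of_algebraMap_eq fun d => (IsLocalization.lift_eq _ d).symm
  have : IsFractionRing DN L :=
    IsFractionRing.isFractionRing_of_isDomain_of_isLocalization N.primeCompl DN L
  have : IsNoetherianRing DN := IsLocalization.isNoetherianRing N.primeCompl DN inferInstance
  have : IsDomain DN := IsLocalization.isDomain_localization N.primeCompl_le_nonZeroDivisors
  have hwm : algebraMap D DN ⟨w⁻¹, Algebra.subset_adjoin rfl⟩ ∈ maximalIdeal DN :=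
    (IsLocalization.AtPrime.to_map_mem_maximal_iff DN N _).mpr hwN
  have hnf : ¬ IsField DN := fun hf => by
    rw [isField_iff_maximalIdeal_eq.mp hf, Ideal.mem_bot] at hwm
    have := congrArg (algebraMap DN L) hwm
    rw [map_zero, ← IsScalarTower.algebraMap_apply] at this
    exact inv_ne_zero hw0 this
  obtain ⟨V, hVd, hVR, hVm⟩ := E4O.exists_dvr_dominating hnf L L
    (⟨∅, Subsingleton.elim _ _⟩ : (⊤ : IntermediateField L L).FG)
  refine ⟨V, hVd, fun a => ?_, fun t ht htw => ?_⟩
  · have := hVR (algebraMap D DN (algebraMap A D a))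
    rwa [← IsScalarTower.algebraMap_apply, ← IsScalarTower.algebraMap_apply] at this
  · have h1 : algebraMap A D t ∉ N := fun hm => by
      rw [Ideal.mem_comap, mem_maximalIdeal, mem_nonunits_iff] at hm
      refine hm (IsUnit.of_mul_eq_one (⟨g (IsLocalization.mk' _ 1 (⟨t, ht⟩ : q.primeCompl)),
        hV₀ _⟩ : V₀) (Subtype.ext ?_))
      show algebraMap A L t * g _ = 1
      rw [← IsLocalization.lift_eq (S := Localization.AtPrime q) hunit t, ← map_mul,
        IsLocalization.mk'_spec' (Localization.AtPrime q) (1 : A) (⟨t, ht⟩ : q.primeCompl), map_one,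
        map_one]
    obtain ⟨y, hy⟩ := (IsLocalization.map_units DN (⟨_, h1⟩ : N.primeCompl)).exists_right_inv
    have h2 : algebraMap A L t * algebraMap DN L y = 1 := by
      have := congrArg (algebraMap DN L) hy
      rwa [map_mul, map_one, ← IsScalarTower.algebraMap_apply,
        ← IsScalarTower.algebraMap_apply] at this
    have hwV : w ∈ V := by
      have := mul_mem (hVR y) htw
      rwa [← mul_assoc, mul_comm (algebraMap DN L y), h2, one_mul] at this
    have h3 : V.valuation w⁻¹ < 1 := by
      have := hVm _ hwm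
      rwa [← IsScalarTower.algebraMap_apply] at this
    have h4 := (V.valuation_le_one_iff w).mpr hwV
    have h5 : V.valuation w * V.valuation w⁻¹ < 1 := lt_of_le_of_lt (mul_le_of_le_one_left' h4) h3
    rw [← map_mul, mul_inv_cancel₀ hw0, map_one] at h5
    exact lt_irrefl _ h5

/-- Finitely many discrete valuation rings test divisibility by `s` in the integral closure. -/
theorem exists_dvr_family (s : A) :
    ∃ F : Finset (ValuationSubring L),
      (∀ V ∈ F, IsDiscreteValuationRing V ∧ ∀ a : A, algebraMap A L a ∈ V) ∧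
      ∀ a : A, (∀ V ∈ F, algebraMap A L a / algebraMap A L s ∈ V) →
        IsIntegral A (algebraMap A L a / algebraMap A L s) := by
  classical
  let S := algebraMap A L s
  let J : Submodule A A :=
    { carrier := {a | IsIntegral A (algebraMap A L a / S)}
      zero_mem' := by simp [isIntegral_zero]
      add_mem' := fun {a b} ha hb => by simp [add_div]; exact ha.add hb
      smul_mem' := fun r a ha => by
        simp [mul_div_assoc]; exact (isIntegral_algebraMap).mul ha }
  let ι := {V : ValuationSubring L // IsDiscreteValuationRing V ∧ ∀ a : A, algebraMap A L a ∈ V}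
  let N : ι → Submodule A (A ⧸ J) := fun V => Submodule.map J.mkQ
    { carrier := {a | algebraMap A L a / S ∈ V.1}
      zero_mem' := by simp
      add_mem' := fun {a b} ha hb => by simp [add_div]; exact add_mem ha hb
      smul_mem' := fun r a ha => by simp [mul_div_assoc]; exact mul_mem (V.2.2 r) ha }
  have hint : ∀ (V : ι) (z : L), IsIntegral A z → z ∈ V.1 := fun V z hz => by
    obtain ⟨p, hp, hpz⟩ := hz
    have : IsIntegral V.1 z := ⟨p.map ((algebraMap A L).codRestrict V.1.toSubring V.2.2),
      hp.map _, by rw [Polynomial.eval₂_map]; exact hpz⟩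
    obtain ⟨y, rfl⟩ := IsIntegrallyClosed.isIntegral_iff.mp this
    exact y.2
  have hN : ∀ (V : ι) (a : A), J.mkQ a ∈ N V ↔ algebraMap A L a / S ∈ V.1 := fun V a => by
    refine ⟨fun ⟨b, hb, hab⟩ => ?_, fun h => ⟨a, h, rfl⟩⟩
    have : b - a ∈ J := (Submodule.Quotient.eq J).mp hab
    have h2 := sub_mem (show algebraMap A L b / S ∈ V.1 from hb) (hint V _ this)
    simpa [sub_div] using h2
  obtain ⟨F, hF⟩ := exists_finset_inf_eq_bot N (fun q hq c hc => by
    obtain ⟨c, rfl⟩ := Submodule.Quotient.mk_surjective J c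
    obtain ⟨V, hVd, hVA, hV⟩ := exists_dvr_not_mem q (algebraMap A L c / S) fun t ht htw => by
      refine ht ((hc t).mp ((Submodule.Quotient.mk_eq_zero _).mpr ?_))
      show IsIntegral A (algebraMap A L (t • c) / S)
      rwa [smul_eq_mul, map_mul, mul_div_assoc]
    refine ⟨⟨V, hVd, hVA⟩, fun r hr hrc => hV r hr ?_⟩
    rw [← mul_div_assoc, ← map_mul]
    exact (hN _ (r * c)).mp hrc)
  refine ⟨F.image Subtype.val, fun V hV => ?_, fun a ha => ?_⟩
  · obtain ⟨V', -, rfl⟩ := Finset.mem_image.mp hV
    exact V'.2
  · have : J.mkQ a ∈ F.inf N := by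
      rw [Submodule.mem_finsetInf]
      exact fun V hV => (hN V a).mpr (ha V.1 (Finset.mem_image_of_mem _ hV))
    rw [hF, Submodule.mem_bot, Submodule.mkQ_apply, Submodule.Quotient.mk_eq_zero] at this
    exact this

end

end Groth.Agent.Hensel20
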