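import Groth.Agent.Hensel20.HenzProps
import Groth.Agent.Brnch26.Emb
import Groth.Agent.Brnch26.Local
import Groth.Prelude.Def_CAlg2

/-! Henselizations which are domains. -/

set_option autoImplicit false

open IsLocalRing

namespace Groth.Agent.Hensel20

universe u

theorem isDomain_iff_reduced_card (S : Type u) [CommRing S] :
    IsDomain S ↔ IsReduced S ∧ ENat.card (minimalPrimes S) = 1 := by
  constructor
  · intro _
    refine ⟨inferInstance, ?_⟩
    rw [Brnch26.card_eq_one_iff, show minimalPrimes S = {⊥} from IsDomain.minimalPrimes_eq_singleton_bot S]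
    exact ⟨inferInstance, inferInstance⟩
  · rintro ⟨hred, hc⟩
    obtain ⟨hs, ⟨P, hP⟩⟩ := Brnch26.card_eq_one_iff.mp hc
    have hbot : P = ⊥ := by
      have h0 : (⊥ : Ideal S) = sInf (minimalPrimes S) := by
        rw [← Ideal.zero_eq_bot, ← nilradical_eq_zero S]
        exact (Ideal.sInf_minimalPrimes (I := (⊥ : Ideal S))).symm
      rw [h0]
      refine le_antisymm (le_sInf fun Q hQ => ?_) (sInf_le hP)
      exact (congrArg Subtype.val (hs.elim ⟨P, hP⟩ ⟨Q, hQ⟩)).le
    have hp : (⊥ : Ideal S).IsPrime := hbot ▸ hP.1.1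
    have : Nontrivial S := ⟨⟨0, 1, fun h => hp.ne_top (Ideal.eq_top_iff_one _ |>.mpr (by simp [← h]))⟩⟩
    exact IsDomain.of_bot_isPrime S

variable {R S : Type u} [CommRing R] [IsLocalRing R] [CommRing S] [IsLocalRing S] [Algebra R S]
  [IsLocalHom (algebraMap R S)]

theorem isDomain_henselization_iff [Hensel.IsHenselization R S] :
    (IsReduced R ∧ CAlg2.IsUnibranch R) ↔ IsDomain S := by
  rw [isDomain_iff_reduced_card, isReduced_iff_of_equiv (Henz21.henselizationEquiv (R := R) S),
    Brnch26.card_minimalPrimes_of_isHenselization (A := R) S, Brnch26.isUnibranch_iff]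

theorem isDomain_strictHenselization_iff [Hensel.IsStrictHenselization R S] :
    (IsReduced R ∧ CAlg2.IsGeomUnibranch R) ↔ IsDomain S := by
  rw [isDomain_iff_reduced_card, isReduced_iff_of_equiv (Henz21.strictHenselizationEquiv (R := R) S),
    Brnch26.card_minimalPrimes_of_isStrictHenselization (A := R) S, Brnch26.isGeomUnibranch_iff]

end Groth.Agent.Hensel20
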