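import Mathlib.RingTheory.Henselian
import Mathlib.RingTheory.Nakayama
import Mathlib.RingTheory.Idempotents
import Mathlib.RingTheory.IntegralClosure.IsIntegralClosure.Basic
import Mathlib.RingTheory.Ideal.GoingUp
import Mathlib.RingTheory.Unramified.Finite

/-! Elementary facts about henselian pairs. -/

set_option autoImplicit false

open Polynomial TensorProduct

namespace Groth.Agent.Hensel20

universe u v w

variable {A : Type u} [CommRing A] {I : Ideal A}

/-- Gabber's form of the henselian condition. -/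
def HasGabberRoots (A : Type u) [CommRing A] (I : Ideal A) : Prop :=
  ∀ (n : ℕ) (P : A[X]), P.Monic → P.map (Ideal.Quotient.mk I) = X ^ (n + 1) * (X - 1) →
    ∃ α : A, P.IsRoot α ∧ α - 1 ∈ I

lemma isUnit_of_sub_mem (hI : I ≤ Ideal.jacobson ⊥) {a b : A} (h : a - b ∈ I) (hb : IsUnit b) :
    IsUnit a := by
  have := isLocalHom_of_le_jacobson_bot I hI
  apply IsUnit.of_map (Ideal.Quotient.mk I)
  rw [Ideal.Quotient.mk_eq_mk_iff_sub_mem a b |>.mpr h]
  exact hb.map _

lemma isUnit_of_sub_one_mem (hI : I ≤ Ideal.jacobson ⊥) {a : A} (h : a - 1 ∈ I) : IsUnit a :=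
  isUnit_of_sub_mem hI h isUnit_one

lemma map_le_jacobson_of_isIntegral {B : Type v} [CommRing B] [Algebra A B] [Algebra.IsIntegral A B]
    (hI : I ≤ Ideal.jacobson ⊥) : I.map (algebraMap A B) ≤ Ideal.jacobson ⊥ := by
  refine le_sInf fun M ⟨_, hM⟩ => ?_
  rw [Ideal.map_le_iff_le_comap]
  have := hM
  have : (M.comap (algebraMap A B)).IsMaximal :=
    Ideal.isMaximal_comap_of_isIntegral_of_isMaximal M
  exact hI.trans (sInf_le ⟨bot_le, this⟩)

/-- Idempotents congruent modulo the Jacobson radical are equal. -/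
lemma idem_eq_of_sub_mem {J : Ideal A} (hJ : J ≤ Ideal.jacobson ⊥) {e f : A}
    (he : IsIdempotentElem e) (hf : IsIdempotentElem f) (h : e - f ∈ J) : e = f := by
  have h3 : (e - f) * ((e - f) ^ 2 - 1) = 0 := by
    have := he.eq; have := hf.eq; linear_combination (e + 1 - 3 * f) * he.eq + (3 * e - 1 - f) * hf.eq
  have hu : IsUnit ((e - f) ^ 2 - 1) := by
    refine isUnit_of_sub_mem hJ (b := -1) ?_ isUnit_one.neg
    simpa using Ideal.pow_mem_of_mem J h 2 two_pos
  rw [hu.mul_left_eq_zero] at h3
  exact sub_eq_zero.mp h3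

lemma idempotents_injOn {J : Ideal A} (hJ : J ≤ Ideal.jacobson ⊥) :
    Set.InjOn (Ideal.Quotient.mk J) {e : A | IsIdempotentElem e} := fun _ he _ hf h =>
  idem_eq_of_sub_mem hJ he hf ((Ideal.Quotient.mk_eq_mk_iff_sub_mem _ _).mp h)

lemma hasGabberRoots_of_henselianRing [HenselianRing A I] : HasGabberRoots A I := by
  intro n P hP hmap
  have h1 : Ideal.Quotient.mk I (P.eval 1) = 0 := by
    have := congrArg (Polynomial.eval 1) hmap
    rw [← map_one (Ideal.Quotient.mk I), eval_map_apply] at this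
    simpa using this
  have h2 : Ideal.Quotient.mk I (P.derivative.eval 1) = 1 := by
    have := congrArg (fun q => Polynomial.eval 1 (Polynomial.derivative q)) hmap
    simp only [derivative_map] at this
    rw [← map_one (Ideal.Quotient.mk I), eval_map_apply] at this
    simpa using this
  exact HenselianRing.is_henselian P hP 1 (Ideal.Quotient.eq_zero_iff_mem.mp h1)
    (by rw [h2]; exact isUnit_one)

/-- `HenselianRing` from the existence of roots, when `I` is in the radical. -/
lemma root_unique (hI : I ≤ Ideal.jacobson ⊥) {P : A[X]} {a b : A} (ha : P.IsRoot a)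
    (hb : P.IsRoot b) (h : b - a ∈ I) (hd : IsUnit (P.derivative.eval a)) : a = b := by
  obtain ⟨c, hc⟩ := exists_mul_sq_add_linear_part_eq_eval_add P a (b - a)
  rw [IsRoot.def] at ha hb
  rw [add_sub_cancel, hb, ha] at hc
  have hz : (b - a) * (c * (b - a) + P.derivative.eval a) = 0 := by linear_combination hc
  have hu : IsUnit (c * (b - a) + P.derivative.eval a) :=
    isUnit_of_sub_mem hI (by simpa using I.mul_mem_left c h) hd
  rw [hu.mul_left_eq_zero] at hz
  exact (sub_eq_zero.mp hz).symm

lemma aeval_mem_map_of_coeff {E : Type v} [CommRing E] [Algebra A E] {P : A[X]}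
    (h : ∀ i, P.coeff i ∈ I) (x : E) : aeval x P ∈ I.map (algebraMap A E) := by
  rw [aeval_eq_sum_range]
  refine Ideal.sum_mem _ fun i _ => ?_
  rw [Algebra.smul_def]
  exact Ideal.mul_mem_right _ _ (Ideal.mem_map_of_mem _ (h i))

lemma mem_map_iff_mem_smul_top {E : Type v} [CommRing E] [Algebra A E] {x : E} :
    x ∈ I.map (algebraMap A E) ↔ x ∈ I • (⊤ : Submodule A E) := by
  rw [Ideal.smul_top_eq_map]; rfl

/-- For a section of an unramified algebra, modulo `I`, the kernel is killed by an element congruent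
to one. -/
lemma exists_kills_ker_of_unramified {S : Type v} {C : Type w} [CommRing S] [CommRing C]
    [Algebra A S] [Algebra A C] [Algebra.EssFiniteType A S] [Algebra.FormallyUnramified A S]
    (π : S →ₐ[A] C) (hsurj : Function.Surjective (algebraMap A C))
    (hker : ∀ a, algebraMap A C a = 0 ↔ a ∈ I) :
    ∃ ε : S, π ε = 1 ∧ ∀ k, π k = 0 → k * ε ∈ I.map (algebraMap A S) := by
  obtain ⟨t, ht₁, ht₂⟩ := (Algebra.FormallyUnramified.iff_exists_tensorProduct (R := A) (S := S)).mp
    inferInstance
  let Q := S ⧸ I.map (algebraMap A S)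
  let g : C →ₐ[A] Q := AlgHom.liftOfSurjective (Algebra.ofId A C) hsurj (Algebra.ofId A Q) (by
    intro a ha
    rw [RingHom.mem_ker] at ha ⊢
    change algebraMap A Q a = 0
    rw [IsScalarTower.algebraMap_apply A S Q, Ideal.Quotient.algebraMap_eq,
      Ideal.Quotient.eq_zero_iff_mem]
    exact Ideal.mem_map_of_mem _ ((hker a).mp ha))
  let Φ : S ⊗[A] S →ₐ[A] Q :=
    Algebra.TensorProduct.lift (Ideal.Quotient.mkₐ A _) (g.comp π) fun _ _ => .all _ _
  obtain ⟨ε, hε⟩ := Ideal.Quotient.mk_surjective (Φ t)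
  let ρ : Q →ₐ[A] C := Ideal.Quotient.liftₐ _ π (fun a ha => by
    suffices I.map (algebraMap A S) ≤ RingHom.ker π from this ha
    rw [Ideal.map_le_iff_le_comap]
    intro a ha
    rw [Ideal.mem_comap, RingHom.mem_ker, AlgHom.commutes, hker]
    exact ha)
  have hρ : ρ.comp Φ = π.comp (Algebra.TensorProduct.lmul' A) := by
    refine Algebra.TensorProduct.ext ?_ ?_
    · ext x
      simp [Φ, ρ]
      rfl
    · ext x
      have : ρ.comp g = AlgHom.id A C := by
        refine AlgHom.ext fun c => ?_
        obtain ⟨a, rfl⟩ := hsurj c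
        simp
      simpa [Φ] using congr($this (π x))
  refine ⟨ε, ?_, fun k hk => ?_⟩
  · have := congr($hρ t)
    rw [AlgHom.comp_apply, AlgHom.comp_apply, ht₂, map_one, ← hε] at this
    exact this
  · have := congr(Φ $(ht₁ k))
    rw [map_mul, map_zero, map_sub, ← hε] at this
    rw [← Ideal.Quotient.eq_zero_iff_mem, map_mul]
    simp [Φ, hk] at this
    rwa [neg_mul, neg_eq_zero] at this

end Groth.Agent.Hensel20
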