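import Groth.Agent.Hensel20.IdemFunctor
import Mathlib.AlgebraicGeometry.Pullbacks
import Mathlib.AlgebraicGeometry.PullbackCarrier
import Mathlib.AlgebraicGeometry.Morphisms.Etale
import Mathlib.RingTheory.Spectrum.Prime.Topology

/-! Classifiers of open-closed subsets of base changes: the affine case. -/

set_option autoImplicit false

open CategoryTheory CategoryTheory.Limits AlgebraicGeometry TensorProduct

namespace Groth.Agent.Hensel20

universe u

variable {S S' : Scheme.{u}} (f : S' ⟶ S)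

/-- The map of base changes induced by a morphism over the base. -/
noncomputable def bc {Z Y : Scheme.{u}} {g : Z ⟶ S} {π : Y ⟶ S} (h : Z ⟶ Y) (hw : h ≫ π = g) :
    pullback g f ⟶ pullback π f :=
  pullback.lift (pullback.fst g f ≫ h) (pullback.snd g f)
    (by rw [Category.assoc, hw, pullback.condition])

@[simp, reassoc]
theorem bc_fst {Z Y : Scheme.{u}} {g : Z ⟶ S} {π : Y ⟶ S} (h : Z ⟶ Y) (hw : h ≫ π = g) :
    bc f h hw ≫ pullback.fst π f = pullback.fst g f ≫ h := pullback.lift_fst _ _ _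

@[simp, reassoc]
theorem bc_snd {Z Y : Scheme.{u}} {g : Z ⟶ S} {π : Y ⟶ S} (h : Z ⟶ Y) (hw : h ≫ π = g) :
    bc f h hw ≫ pullback.snd π f = pullback.snd g f := pullback.lift_snd _ _ _

theorem bc_comp {Z' Z Y : Scheme.{u}} {g' : Z' ⟶ S} {g : Z ⟶ S} {π : Y ⟶ S} (k : Z' ⟶ Z)
    (hk : k ≫ g = g') (h : Z ⟶ Y) (hw : h ≫ π = g) :
    bc f k hk ≫ bc f h hw = bc f (k ≫ h) (by rw [Category.assoc, hw, hk]) := by
  apply pullback.hom_ext <;> simp only [Category.assoc, bc_fst, bc_fst_assoc, bc_snd]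

theorem preimage_bc_comp {Z' Z Y : Scheme.{u}} {g' : Z' ⟶ S} {g : Z ⟶ S} {π : Y ⟶ S} (k : Z' ⟶ Z)
    (hk : k ≫ g = g') (h : Z ⟶ Y) (hw : h ≫ π = g) (W : Set (pullback π f : Scheme.{u})) :
    (bc f k hk).base ⁻¹' ((bc f h hw).base ⁻¹' W) =
      (bc f (k ≫ h) (by rw [Category.assoc, hw, hk])).base ⁻¹' W := by
  rw [← bc_comp f k hk h hw]
  rfl

theorem isPullback_bc {Z' Z : Scheme.{u}} {g' : Z' ⟶ S} {g : Z ⟶ S} (k : Z' ⟶ Z)
    (hk : k ≫ g = g') : IsPullback (bc f k hk) (pullback.fst g' f) (pullback.fst g f) k :=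
  IsPullback.of_right
    (by rw [bc_snd, hk]; exact (IsPullback.of_hasPullback g' f).flip) (bc_fst f k hk)
    (IsPullback.of_hasPullback g f).flip

theorem mem_range_bc {Z' Z : Scheme.{u}} {g' : Z' ⟶ S} {g : Z ⟶ S} (k : Z' ⟶ Z) (hk : k ≫ g = g')
    (x : (pullback g f : Scheme.{u})) (hx : (pullback.fst g f).base x ∈ Set.range k.base) :
    x ∈ Set.range (bc f k hk).base := by
  obtain ⟨z, hz⟩ := hx
  obtain ⟨p, hp, -⟩ := Scheme.exists_preimage_of_isPullback (isPullback_bc f k hk) x z hz.symm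
  exact ⟨p, hp⟩

theorem eq_of_cover {Z : Scheme.{u}} (g : Z ⟶ S) (𝒰 : Z.OpenCover)
    {C C' : Set (pullback g f : Scheme.{u})}
    (h : ∀ i, (bc f (g := 𝒰.f i ≫ g) (𝒰.f i) rfl).base ⁻¹' C =
      (bc f (g := 𝒰.f i ≫ g) (𝒰.f i) rfl).base ⁻¹' C') : C = C' := by
  ext x
  obtain ⟨i, hi⟩ := 𝒰.exists_eq ((pullback.fst g f).base x)
  obtain ⟨x', rfl⟩ := mem_range_bc f (g' := 𝒰.f i ≫ g) (𝒰.f i) rfl x hi
  exact Set.ext_iff.1 (h i) x'

/-- `(π, W)` classifies clopen subsets of base changes of `f` along morphisms into `U`. -/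
def IsClassifier (U : S.Opens) {Y : Scheme.{u}} (π : Y ⟶ S)
    (W : Set (pullback π f : Scheme.{u})) : Prop :=
  Set.range π.base ⊆ U ∧ IsClopen W ∧ ∀ (Z : Scheme.{u}) (g : Z ⟶ S), Set.range g.base ⊆ U →
    ∀ C : Set (pullback g f : Scheme.{u}), IsClopen C →
      ∃! h : Z ⟶ Y, ∃ hw : h ≫ π = g, (bc f h hw).base ⁻¹' W = C

section Affine

variable {A B : Type u} [CommRing A] [CommRing B] [Algebra A B]
  (pA : Spec (CommRingCat.of A) ⟶ S) (pB : Spec (CommRingCat.of B) ⟶ S')
  (sq : IsPullback pB (Spec.map (CommRingCat.ofHom (algebraMap A B))) f pA)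

include sq in
theorem isPullback_tensor (C : Type u) [CommRing C] [Algebra A C] (g : Spec (CommRingCat.of C) ⟶ S)
    (hg : Spec.map (CommRingCat.ofHom (algebraMap A C)) ≫ pA = g) :
    IsPullback (Spec.map (CommRingCat.ofHom
        (Algebra.TensorProduct.includeLeftRingHom : C →+* C ⊗[A] B)))
      (Spec.map (CommRingCat.ofHom
        (Algebra.TensorProduct.includeRight : B →ₐ[A] C ⊗[A] B).toRingHom) ≫ pB) g f := by
  subst hg
  have h1 : IsPullback (Spec.map (CommRingCat.ofHom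
        (Algebra.TensorProduct.includeLeftRingHom : C →+* C ⊗[A] B)))
      (Spec.map (CommRingCat.ofHom
        (Algebra.TensorProduct.includeRight : B →ₐ[A] C ⊗[A] B).toRingHom))
      (Spec.map (CommRingCat.ofHom (algebraMap A C)))
      (Spec.map (CommRingCat.ofHom (algebraMap A B))) := by
    refine IsPullback.of_iso_pullback ⟨?_⟩ (pullbackSpecIso A C B).symm
      (pullbackSpecIso_inv_fst ..) (pullbackSpecIso_inv_snd ..)
    rw [← Spec.map_comp, ← Spec.map_comp]
    congr 1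
    ext a
    show algebraMap A C a ⊗ₜ[A] (1 : B) = (1 : C) ⊗ₜ[A] algebraMap A B a
    rw [Algebra.algebraMap_eq_smul_one, Algebra.algebraMap_eq_smul_one, TensorProduct.smul_tmul]
  exact (h1.flip.paste_horiz sq).flip

theorem preimage_basicOpen {T T' : Type u} [CommRing T] [CommRing T'] (φ : T →+* T') (e : T) :
    (Spec.map (CommRingCat.ofHom φ)).base ⁻¹'
        ((PrimeSpectrum.basicOpen e : Set (PrimeSpectrum T))) =
      (PrimeSpectrum.basicOpen (φ e) : Set (PrimeSpectrum T')) := rfl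

include sq in
theorem existsUnique_affine [IsOpenImmersion pA] {E : Type u} [CommRing E] [Algebra A E]
    (e₀ : E ⊗[A] B) (he₀ : IsIdempotentElem e₀)
    (hE : ∀ (C : Type u) [CommRing C] [Algebra A C] (e : C ⊗[A] B), IsIdempotentElem e →
        ∃! φ : E →ₐ[A] C, Algebra.TensorProduct.map φ (AlgHom.id A B) e₀ = e)
    (π : Spec (CommRingCat.of E) ⟶ S)
    (hπ : Spec.map (CommRingCat.ofHom (algebraMap A E)) ≫ pA = π)
    (W : Set (pullback π f : Scheme.{u}))
    (hW : (isPullback_tensor f pA pB sq E π hπ).isoPullback.hom.base ⁻¹' W =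
      (PrimeSpectrum.basicOpen e₀ : Set (PrimeSpectrum (E ⊗[A] B))))
    (C : CommRingCat.{u}) (g : Spec C ⟶ S) (hg : Set.range g.base ⊆ Set.range pA.base)
    (V : Set (pullback g f : Scheme.{u})) (hV : IsClopen V) :
    ∃! h : Spec C ⟶ Spec (CommRingCat.of E), ∃ hw : h ≫ π = g,
      (bc f h hw).base ⁻¹' W = V := by
  let lφ := IsOpenImmersion.lift pA g hg
  let : Algebra A C := (Spec.preimage lφ).hom.toAlgebra
  have hgC : Spec.map (CommRingCat.ofHom (algebraMap A C)) ≫ pA = g := by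
    rw [show CommRingCat.ofHom (algebraMap A C) = Spec.preimage lφ from rfl, Spec.map_preimage,
      IsOpenImmersion.lift_fac]
  let θ := (isPullback_tensor f pA pB sq C g hgC).isoPullback
  let θE := (isPullback_tensor f pA pB sq E π hπ).isoPullback
  have hθinj : Function.Injective fun Z : Set (pullback g f : Scheme.{u}) => θ.hom.base ⁻¹' Z :=
    θ.hom.surjective.preimage_injective
  obtain ⟨e, ⟨he, heV⟩, -⟩ := PrimeSpectrum.existsUnique_idempotent_basicOpen_eq_of_isClopen
    (s := (θ.hom.base ⁻¹' V : Set (PrimeSpectrum (C ⊗[A] B)))) (hV.preimage θ.hom.continuous)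
  have key : ∀ (ψ : E →ₐ[A] C) (hw : Spec.map (CommRingCat.ofHom ψ.toRingHom) ≫ π = g),
      (θ.hom.base ⁻¹' ((bc f _ hw).base ⁻¹' W)) =
        (PrimeSpectrum.basicOpen (Algebra.TensorProduct.map ψ (AlgHom.id A B) e₀) :
          Set (PrimeSpectrum (C ⊗[A] B))) := by
    intro ψ hw
    have hnat : θ.hom ≫ bc f _ hw = Spec.map (CommRingCat.ofHom
        (Algebra.TensorProduct.map ψ (AlgHom.id A B)).toRingHom) ≫ θE.hom := by
      apply pullback.hom_ext
      · rw [Category.assoc, bc_fst, IsPullback.isoPullback_hom_fst_assoc, Category.assoc,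
          IsPullback.isoPullback_hom_fst, ← Spec.map_comp, ← Spec.map_comp]
        congr 1
      · rw [Category.assoc, bc_snd, IsPullback.isoPullback_hom_snd, Category.assoc,
          IsPullback.isoPullback_hom_snd, ← Category.assoc, ← Spec.map_comp]
        congr 2
        ext x
        exact ((Algebra.TensorProduct.map_tmul ψ (AlgHom.id A B) 1 x).trans
          (by rw [map_one]; rfl)).symm
    rw [← Set.preimage_comp, ← TopCat.coe_comp, ← Scheme.Hom.comp_base, hnat, Scheme.Hom.comp_base,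
      TopCat.coe_comp, Set.preimage_comp, hW]
    exact preimage_basicOpen _ e₀
  obtain ⟨ψ, hψ, hψu⟩ := hE C e he
  have hψw : Spec.map (CommRingCat.ofHom ψ.toRingHom) ≫ π = g := by
    rw [← hπ, ← hgC, ← Category.assoc, ← Spec.map_comp, ← CommRingCat.ofHom_comp]
    congr 3
    exact ψ.comp_algebraMap
  refine ⟨Spec.map (CommRingCat.ofHom ψ.toRingHom), ⟨hψw, hθinj ?_⟩, ?_⟩
  · show θ.hom.base ⁻¹' _ = θ.hom.base ⁻¹' V
    rw [key ψ hψw, hψ]
    exact heV.symm
  · rintro h ⟨hw, hh⟩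
    obtain ⟨φ, rfl⟩ := Spec.map_surjective h
    have hcomm : CommRingCat.ofHom (algebraMap A E) ≫ φ = CommRingCat.ofHom (algebraMap A C) := by
      apply Spec.map_injective
      rw [← cancel_mono pA, Spec.map_comp, Category.assoc, hπ, hgC, hw]
    let ψ' : E →ₐ[A] C := ⟨φ.hom, fun a => congrArg (fun k => k.hom a) hcomm⟩
    have hψ' : ψ' = ψ := by
      refine hψu ψ' (PrimeSpectrum.basicOpen_injOn_isIdempotentElem (he₀.map _) he ?_)
      refine SetLike.ext' ((key ψ' hw).symm.trans ?_)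
      rw [← heV]
      exact congrArg (θ.hom.base ⁻¹' ·) hh
    rw [← hψ']
    rfl

theorem isClassifier_of_affine {U : S.Opens} {Y : Scheme.{u}} (π : Y ⟶ S)
    (W : Set (pullback π f : Scheme.{u})) (h1 : Set.range π.base ⊆ U) (h2 : IsClopen W)
    (h3 : ∀ (C : CommRingCat.{u}) (g : Spec C ⟶ S), Set.range g.base ⊆ U →
      ∀ V : Set (pullback g f : Scheme.{u}), IsClopen V →
        ∃! h : Spec C ⟶ Y, ∃ hw : h ≫ π = g, (bc f h hw).base ⁻¹' W = V) :
    IsClassifier f U π W := by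
  refine ⟨h1, h2, fun Z g hg V hV => ?_⟩
  have hloc : ∀ {Z : Scheme.{u}} (g : Z ⟶ S) (hg : Set.range g.base ⊆ U) (i : Z.affineCover.I₀),
      Set.range (Z.affineCover.f i ≫ g).base ⊆ U := fun g hg i => by
    rintro _ ⟨x, rfl⟩
    exact hg ⟨_, rfl⟩
  have huniq : ∀ {Z : Scheme.{u}} (g : Z ⟶ S), Set.range g.base ⊆ U →
      ∀ (a b : Z ⟶ Y) (ha : a ≫ π = g) (hb : b ≫ π = g),
        (bc f a ha).base ⁻¹' W = (bc f b hb).base ⁻¹' W → a = b := by
    intro Z g hg a b ha hb hab
    refine Scheme.Cover.hom_ext Z.affineCover _ _ fun i => ?_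
    refine (h3 _ _ (hloc g hg i) _ ((h2.preimage (bc f a ha).continuous).preimage
      (bc f (g := Z.affineCover.f i ≫ g) (Z.affineCover.f i) rfl).continuous)).unique
      ⟨(Category.assoc _ _ _).trans (congrArg (Z.affineCover.f i ≫ ·) ha), ?_⟩
      ⟨(Category.assoc _ _ _).trans (congrArg (Z.affineCover.f i ≫ ·) hb), ?_⟩
    · exact (preimage_bc_comp f (Z.affineCover.f i) rfl a ha W).symm
    · rw [hab]
      exact (preimage_bc_comp f (Z.affineCover.f i) rfl b hb W).symm
  have hex : ∀ i : Z.affineCover.I₀, ∃ l : Z.affineCover.X i ⟶ Y,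
      ∃ hw : l ≫ π = Z.affineCover.f i ≫ g, (bc f l hw).base ⁻¹' W =
        (bc f (g := Z.affineCover.f i ≫ g) (Z.affineCover.f i) rfl).base ⁻¹' V := fun i =>
    (h3 _ _ (hloc g hg i) _ (hV.preimage (Scheme.Hom.continuous _))).exists
  choose l hlw hl using hex
  have compat : ∀ i j, pullback.fst (Z.affineCover.f i) (Z.affineCover.f j) ≫ l i =
      pullback.snd (Z.affineCover.f i) (Z.affineCover.f j) ≫ l j := fun i j => by
    refine huniq (pullback.fst (Z.affineCover.f i) (Z.affineCover.f j) ≫ Z.affineCover.f i ≫ g) ?_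
      _ _ (by rw [Category.assoc, hlw]) (by rw [Category.assoc, hlw, pullback.condition_assoc]) ?_
    · rintro _ ⟨x, rfl⟩
      exact hg ⟨_, rfl⟩
    · rw [← bc_comp f (pullback.fst (Z.affineCover.f i) (Z.affineCover.f j)) rfl (l i) (hlw i),
        ← bc_comp f (g' := pullback.fst (Z.affineCover.f i) (Z.affineCover.f j) ≫
          Z.affineCover.f i ≫ g) (pullback.snd (Z.affineCover.f i) (Z.affineCover.f j))
          (pullback.condition_assoc g).symm (l j) (hlw j)]
      simp only [Scheme.Hom.comp_base, TopCat.coe_comp, Set.preimage_comp, hl]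
      simp only [← Set.preimage_comp, ← TopCat.coe_comp, ← Scheme.Hom.comp_base, bc_comp,
        pullback.condition]
  let h := Z.affineCover.glueMorphisms l compat
  have hli : ∀ i, Z.affineCover.f i ≫ h = l i := fun i => Scheme.Cover.ι_glueMorphisms ..
  have hhw : h ≫ π = g := Scheme.Cover.hom_ext Z.affineCover _ _ fun i => by
    rw [reassoc_of% (hli i), hlw]
  have hh : (bc f h hhw).base ⁻¹' W = V := eq_of_cover f g Z.affineCover fun i => by
    rw [← hl i]
    refine (preimage_bc_comp f (Z.affineCover.f i) rfl h hhw W).trans ?_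
    simp only [hli i]
  exact ⟨h, ⟨hhw, hh⟩, fun h' ⟨hw', hh'⟩ => huniq g hg h' h hw' hhw (hh'.trans hh.symm)⟩

include sq in
theorem exists_classifier_affine [IsOpenImmersion pA] [Module.Finite A B] [Module.Projective A B] :
    ∃ (E : Type u) (_ : CommRing E) (_ : Algebra A E) (π : Spec (CommRingCat.of E) ⟶ S)
      (W : Set (pullback π f : Scheme.{u})), Algebra.Etale A E ∧
      Spec.map (CommRingCat.ofHom (algebraMap A E)) ≫ pA = π ∧
      IsClassifier f pA.opensRange π W := by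
  obtain ⟨E, _, _, e₀, het, he₀, hE⟩ := exists_etale_idempotent_classifier (A := A) (B := B)
  let π := Spec.map (CommRingCat.ofHom (algebraMap A E)) ≫ pA
  let θE := (isPullback_tensor f pA pB sq E π rfl).isoPullback
  let W : Set (pullback π f : Scheme.{u}) :=
    θE.inv.base ⁻¹' (PrimeSpectrum.basicOpen e₀ : Set (PrimeSpectrum (E ⊗[A] B)))
  have hW : θE.hom.base ⁻¹' W = (PrimeSpectrum.basicOpen e₀ : Set (PrimeSpectrum (E ⊗[A] B))) := by
    rw [← Set.preimage_comp, ← TopCat.coe_comp, ← Scheme.Hom.comp_base, Iso.hom_inv_id]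
    rfl
  refine ⟨E, inferInstance, inferInstance, π, W, het, rfl, isClassifier_of_affine f π W ?_ ?_ ?_⟩
  · rintro _ ⟨x, rfl⟩
    exact ⟨_, rfl⟩
  · exact IsClopen.preimage (PrimeSpectrum.isClopen_iff.2 ⟨e₀, he₀, rfl⟩) θE.inv.continuous
  · intro C g hg V hV
    exact existsUnique_affine f pA pB sq e₀ he₀ hE π rfl W hW C g hg V hV

end Affine

end Groth.Agent.Hensel20
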