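import Groth.Agent.Hensel20.GeomNormal
import Mathlib.AlgebraicGeometry.Morphisms.FlatDescent
import Mathlib.AlgebraicGeometry.ResidueField
import Mathlib.AlgebraicGeometry.PullbackCarrier

/-! Base change of schemes to the completion of a henselian local ring. -/

set_option autoImplicit false

open CategoryTheory CategoryTheory.Limits AlgebraicGeometry IsLocalRing TensorProduct Topology

namespace Groth.Agent.Hensel20

universe u

/-- The map `Spec Â ⟶ Spec A`. -/
noncomputable abbrev cplMap (A : Type u) [CommRing A] [IsLocalRing A] :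
    Spec (CommRingCat.of (EGA4.Cpl A)) ⟶ Spec (CommRingCat.of A) :=
  Spec.map (CommRingCat.ofHom (algebraMap A (EGA4.Cpl A)))

theorem flat_surjective_cplMap (A : Type u) [CommRing A] [IsNoetherianRing A] [IsLocalRing A] :
    Flat (cplMap A) ∧ Surjective (cplMap A) := by
  have : IsLocalHom (algebraMap A (EGA4.Cpl A)) :=
    ((IsLocalRing.local_hom_TFAE _).out 2 0 rfl rfl).mp AdicCompletion.maximalIdeal_eq_map.symm.le
  have : Module.FaithfullyFlat A (EGA4.Cpl A) := Module.FaithfullyFlat.of_flat_of_isLocalHom
  refine ⟨(HasRingHomProperty.Spec_iff (P := @Flat)).2 ?_, ⟨?_⟩⟩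
  · exact (RingHom.flat_algebraMap_iff).2 inferInstance
  · exact PrimeSpectrum.comap_surjective_of_faithfullyFlat

variable (A : Type u) [CommRing A] [IsNoetherianRing A] [HenselianLocalRing A]

/-- The fibres of `X ×_A Â ⟶ X` are connected. -/
theorem isPreconnected_fibre (h : EGA4.HasGeomReducedFormalFibres A) {X : Scheme.{u}}
    (s : X ⟶ Spec (CommRingCat.of A)) (x : X) :
    _root_.IsPreconnected ((pullback.fst s (cplMap A)).base ⁻¹' {x}) := by
  let y := X.fromSpecResidueField x
  let φ : CommRingCat.of A ⟶ X.residueField x := Spec.preimage (y ≫ s)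
  let : Algebra A (X.residueField x) := φ.hom.toAlgebra
  have hys : y ≫ s = Spec.map (CommRingCat.ofHom (algebraMap A (X.residueField x))) :=
    (Spec.map_preimage (y ≫ s)).symm
  have := connectedSpace_tensor_cpl A h (X.residueField x)
  let e : Spec (CommRingCat.of (X.residueField x ⊗[A] EGA4.Cpl A)) ≅
      pullback y (pullback.fst s (cplMap A)) :=
    (pullbackSpecIso A (X.residueField x) (EGA4.Cpl A)).symm ≪≫
      (pullback.congrHom hys rfl).symm ≪≫ (pullbackRightPullbackFstIso s (cplMap A) y).symm
  have hr : Set.range (e.hom ≫ pullback.snd y (pullback.fst s (cplMap A))).base =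
      (pullback.fst s (cplMap A)).base ⁻¹' {x} := by
    rw [← Scheme.range_fromSpecResidueField x, ← Scheme.Pullback.range_snd]
    simp only [Scheme.Hom.comp_base, TopCat.coe_comp]
    exact Function.Surjective.range_comp e.hom.surjective _
  rw [← hr]
  have : PreconnectedSpace ↥(Spec (CommRingCat.of (X.residueField x ⊗[A] EGA4.Cpl A))) :=
    inferInstanceAs (PreconnectedSpace (PrimeSpectrum (X.residueField x ⊗[A] EGA4.Cpl A)))
  exact isPreconnected_range (Scheme.Hom.continuous _)

theorem isQuotientMap_fst {X : Scheme.{u}} (s : X ⟶ Spec (CommRingCat.of A)) :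
    IsQuotientMap (pullback.fst s (cplMap A)).base := by
  obtain ⟨h1, h2⟩ := flat_surjective_cplMap A
  exact Flat.isQuotientMap_of_surjective _

theorem surjective_fst {X : Scheme.{u}} (s : X ⟶ Spec (CommRingCat.of A)) :
    Function.Surjective (pullback.fst s (cplMap A)).base :=
  (isQuotientMap_fst A s).surjective

theorem preimage_image_of_isClopen (h : EGA4.HasGeomReducedFormalFibres A) {X : Scheme.{u}}
    (s : X ⟶ Spec (CommRingCat.of A)) {V : Set (pullback s (cplMap A) : Scheme.{u})}
    (hV : IsClopen V) :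
    (pullback.fst s (cplMap A)).base ⁻¹' ((pullback.fst s (cplMap A)).base '' V) = V := by
  refine Set.Subset.antisymm ?_ (Set.subset_preimage_image _ _)
  rintro z ⟨w, hw, hwz⟩
  exact (isPreconnected_fibre A h s _).subset_isClopen hV ⟨w, hwz, hw⟩ rfl

theorem existsUnique_isClopen_preimage (h : EGA4.HasGeomReducedFormalFibres A) {X : Scheme.{u}}
    (s : X ⟶ Spec (CommRingCat.of A)) (V : Set (pullback s (cplMap A) : Scheme.{u}))
    (hV : IsClopen V) :
    ∃! U : Set X, IsClopen U ∧ (pullback.fst s (cplMap A)).base ⁻¹' U = V := by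
  have hVU := preimage_image_of_isClopen A h s hV
  refine ⟨_, ⟨(isQuotientMap_fst A s).isClopen_preimage.1 (hVU.symm ▸ hV), hVU⟩, ?_⟩
  rintro U ⟨-, hU⟩
  rw [← hU, Set.image_preimage_eq _ (surjective_fst A s)]

end Groth.Agent.Hensel20
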