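import Groth.Agent.Hensel20.ClopenGlue
import Mathlib.AlgebraicGeometry.Morphisms.Finite
import Mathlib.AlgebraicGeometry.Morphisms.Flat
import Mathlib.AlgebraicGeometry.Morphisms.FinitePresentation
import Mathlib.AlgebraicGeometry.Morphisms.Separated
import Mathlib.RingTheory.Flat.EquationalCriterion
import Mathlib.RingTheory.Finiteness.ModuleFinitePresentation

/-! The scheme of open-closed subsets of a finite locally free morphism. -/

set_option autoImplicit false

open CategoryTheory CategoryTheory.Limits AlgebraicGeometry TopologicalSpace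

namespace Groth.Agent.Hensel20

universe u

variable {S S' : Scheme.{u}} (f : S' ⟶ S) [IsFinite f] [Flat f] [LocallyOfFinitePresentation f]

theorem exists_classifier_affineOpen (U : S.affineOpens) :
    ∃ (Y : Scheme.{u}) (π : Y ⟶ S) (W : Set (pullback π f : Scheme.{u})),
      IsAffine Y ∧ Etale π ∧ IsClassifier f U.1 π W := by
  have hV : IsAffineOpen (f ⁻¹ᵁ U.1) := U.2.preimage f
  let : Algebra Γ(S, U.1) Γ(S', f ⁻¹ᵁ U.1) := (f.app U.1).hom.toAlgebra
  have : Module.Finite Γ(S, U.1) Γ(S', f ⁻¹ᵁ U.1) := f.finite_app U.1 U.2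
  have : Algebra.FinitePresentation Γ(S, U.1) Γ(S', f ⁻¹ᵁ U.1) := by
    have h := f.finitePresentation_appLE U.2 hV le_rfl
    rwa [← Scheme.Hom.app_eq_appLE] at h
  have : Module.Flat Γ(S, U.1) Γ(S', f ⁻¹ᵁ U.1) := by
    have h := f.flat_appLE U.2 hV le_rfl
    rwa [← Scheme.Hom.app_eq_appLE] at h
  have : Module.FinitePresentation Γ(S, U.1) Γ(S', f ⁻¹ᵁ U.1) :=
    Module.FinitePresentation.of_finite_of_finitePresentation _ _
  have : Module.Projective Γ(S, U.1) Γ(S', f ⁻¹ᵁ U.1) := Module.Flat.projective_of_finitePresentation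
  have hH : hV.fromSpec ≫ f =
      Spec.map (CommRingCat.ofHom (algebraMap Γ(S, U.1) Γ(S', f ⁻¹ᵁ U.1))) ≫ U.2.fromSpec := by
    rw [← IsAffineOpen.SpecMap_appLE_fromSpec f U.2 hV le_rfl, ← Scheme.Hom.app_eq_appLE]
    rfl
  have sq : IsPullback hV.fromSpec
      (Spec.map (CommRingCat.ofHom (algebraMap Γ(S, U.1) Γ(S', f ⁻¹ᵁ U.1)))) f U.2.fromSpec :=
    (IsOpenImmersion.isPullback _ hV.fromSpec U.2.fromSpec f hH
      (by rw [IsAffineOpen.opensRange_fromSpec, IsAffineOpen.opensRange_fromSpec])).flip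
  obtain ⟨E, _, _, π, W, het, hπ, hc⟩ := exists_classifier_affine f U.2.fromSpec hV.fromSpec sq
  refine ⟨Spec (CommRingCat.of E), π, W, inferInstance, ?_, ?_⟩
  · have : Etale (Spec.map (CommRingCat.ofHom (algebraMap Γ(S, U.1) E))) :=
      (HasRingHomProperty.Spec_iff (P := @Etale)).2 (RingHom.etale_algebraMap.2 het)
    rw [← hπ]
    infer_instance
  · rwa [IsAffineOpen.opensRange_fromSpec] at hc

theorem exists_clopen_scheme : ∃ (E : Scheme.{u}) (p : E ⟶ S) (W : Set (pullback p f : Scheme.{u})),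
    Etale p ∧ IsSeparated p ∧ IsClassifier f ⊤ p W := by
  choose Y π W hY hπ hc using exists_classifier_affineOpen f
  obtain ⟨E, p, ι, Wg, hι, hιp, hg⟩ := ClopenGlue.exists_glued hc
  refine ⟨E, p, Wg, ?_, ?_, hg⟩
  · have : ∀ U, IsOpenImmersion (ι U) := fun U => (hι U).1
    let 𝒰 := E.openCoverOfIsOpenCover (fun U : S.affineOpens => p ⁻¹ᵁ U.1)
      (top_unique fun x _ => by
        obtain ⟨U, hU, -⟩ := ClopenGlue.exists_affine_mem (p.base x) ⊤ trivial
        exact Opens.mem_iSup.mpr ⟨U, hU⟩)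
    rw [IsZariskiLocalAtSource.iff_of_openCover (P := @Etale) 𝒰]
    intro U
    have hr : (ι U).opensRange = p ⁻¹ᵁ (U : S.affineOpens).1 := Opens.ext (hι U).2.symm
    show Etale ((p ⁻¹ᵁ (U : S.affineOpens).1).ι ≫ p)
    rw [← hr, ← Scheme.Hom.isoOpensRange_inv_comp (ι U), Category.assoc, hιp]
    have := hπ U
    infer_instance
  · have : IsAffineHom p := ⟨fun U hU => by
      have := (hι ⟨U, hU⟩).1
      have := hY ⟨U, hU⟩
      have hr : (ι ⟨U, hU⟩).opensRange = p ⁻¹ᵁ U := Opens.ext (hι ⟨U, hU⟩).2.symm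
      rw [← hr]
      exact isAffineOpen_opensRange _⟩
    infer_instance

theorem existsUnique_clopen_of_sections {S₀ : Scheme.{u}} (i : S₀ ⟶ S)
    (hb : ∀ (T : Scheme.{u}) (g : T ⟶ S), Etale g → IsSeparated g →
      ∀ u₀ : S₀ ⟶ pullback g i, u₀ ≫ pullback.snd g i = 𝟙 S₀ →
        ∃! u : S ⟶ T, u ≫ g = 𝟙 S ∧ i ≫ u = u₀ ≫ pullback.fst g i)
    (V : Set (pullback f i : Scheme.{u})) (hV : IsClopen V) :
    ∃! U : Set S', IsClopen U ∧ (pullback.fst f i).base ⁻¹' U = V := by
  obtain ⟨E, p, W, het, hsep, -, hW, huniv⟩ := exists_clopen_scheme f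
  let σ := pullbackSymmetry i f
  obtain ⟨h, ⟨hhp, hh⟩, hhu⟩ := huniv S₀ i (fun x _ => trivial) _ (hV.preimage σ.hom.continuous)
  obtain ⟨u, ⟨hup, hiu⟩, huu⟩ := hb E p het hsep (pullback.lift h (𝟙 S₀) (by rw [hhp, Category.id_comp]))
    (pullback.lift_snd _ _ _)
  rw [pullback.lift_fst] at hiu
  let j : S' ⟶ pullback (𝟙 S) f := pullback.lift f (𝟙 S') (by simp)
  have hsnd : pullback.snd (𝟙 S) f ≫ j = 𝟙 _ := by
    apply pullback.hom_ext
    · rw [Category.assoc, pullback.lift_fst, Category.id_comp, ← pullback.condition, Category.comp_id]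
    · rw [Category.assoc, pullback.lift_snd, Category.comp_id, Category.id_comp]
  refine ⟨j.base ⁻¹' ((bc f u hup).base ⁻¹' W), ⟨(hW.preimage (Scheme.Hom.continuous _)).preimage
    j.continuous, ?_⟩, ?_⟩
  · have hV' : V = σ.inv.base ⁻¹' ((bc f h hhp).base ⁻¹' W) := by
      rw [hh, ← Set.preimage_comp, ← TopCat.coe_comp, ← Scheme.Hom.comp_base, Iso.inv_hom_id]
      rfl
    have hkey : pullback.fst f i ≫ j ≫ bc f u hup = σ.inv ≫ bc f h hhp := by
      apply pullback.hom_ext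
      · simp only [σ, j, Category.assoc, bc_fst, pullback.lift_fst_assoc,
          pullbackSymmetry_inv_comp_fst_assoc]
        rw [pullback.condition_assoc, hiu]
      · simp only [σ, j, Category.assoc, bc_snd, pullback.lift_snd, Category.comp_id,
          pullbackSymmetry_inv_comp_snd]
    rw [hV']
    simp only [← Set.preimage_comp, ← TopCat.coe_comp, ← Scheme.Hom.comp_base]
    simp only [← hkey]
  · rintro U₁ ⟨hU₁, hU₁V⟩
    obtain ⟨u₁, ⟨hu₁p, hu₁⟩, -⟩ := huniv S (𝟙 S) (fun x _ => trivial) _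
      (hU₁.preimage (pullback.snd (𝟙 S) f).continuous)
    have hiu₁ : i ≫ u₁ = h := by
      refine hhu (i ≫ u₁) ⟨by rw [Category.assoc, hu₁p, Category.comp_id], ?_⟩
      rw [← preimage_bc_comp f i (Category.comp_id i) u₁ hu₁p, hu₁, ← hU₁V]
      simp only [← Set.preimage_comp, ← TopCat.coe_comp, ← Scheme.Hom.comp_base, bc_snd, σ,
        pullbackSymmetry_hom_comp_fst]
    have : u₁ = u := huu u₁ ⟨hu₁p, by rw [pullback.lift_fst, hiu₁]⟩
    subst this
    rw [hu₁, ← Set.preimage_comp, ← TopCat.coe_comp, ← Scheme.Hom.comp_base, pullback.lift_snd]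
    rfl

end Groth.Agent.Hensel20
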