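import Groth.Agent.Hensel20.ClopenClassifier
import Mathlib.AlgebraicGeometry.RelativeGluing
import Mathlib.AlgebraicGeometry.Cover.Directed
import Mathlib.AlgebraicGeometry.Restrict

/-! Gluing of classifiers of open-closed subsets. -/

set_option autoImplicit false
set_option maxHeartbeats 200000

open CategoryTheory CategoryTheory.Limits AlgebraicGeometry TopologicalSpace

namespace Groth.Agent.Hensel20

universe u

variable {S S' : Scheme.{u}} {f : S' ⟶ S}

theorem IsClassifier.unique {U : S.Opens} {Y : Scheme.{u}} {π : Y ⟶ S}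
    {W : Set (pullback π f : Scheme.{u})} (h : IsClassifier f U π W) {Z : Scheme.{u}} {g : Z ⟶ S}
    (hg : Set.range g.base ⊆ U) {a b : Z ⟶ Y} (ha : a ≫ π = g) (hb : b ≫ π = g)
    (hab : (bc f a ha).base ⁻¹' W = (bc f b hb).base ⁻¹' W) : a = b :=
  (h.2.2 Z g hg _ (h.2.1.preimage (bc f b hb).continuous)).unique ⟨ha, hab⟩ ⟨hb, rfl⟩

variable {Y : S.affineOpens → Scheme.{u}} {π : ∀ U, Y U ⟶ S}
  {W : ∀ U, Set (pullback (π U) f : Scheme.{u})} (hc : ∀ U, IsClassifier f U.1 (π U) (W U))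

namespace ClopenGlue

include hc in
theorem trans_aux {U V : S.affineOpens} (h : U ≤ V) :
    ∃! t : Y U ⟶ Y V, ∃ hw : t ≫ π V = π U, (bc f t hw).base ⁻¹' W V = W U :=
  (hc V).2.2 _ _ ((hc U).1.trans h) _ (hc U).2.1

/-- Transition maps. -/
noncomputable def trans {U V : S.affineOpens} (h : U ≤ V) : Y U ⟶ Y V :=
  (trans_aux hc h).exists.choose

theorem trans_comp {U V : S.affineOpens} (h : U ≤ V) : trans hc h ≫ π V = π U :=
  (trans_aux hc h).exists.choose_spec.choose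

theorem trans_pre {U V : S.affineOpens} (h : U ≤ V) :
    (bc f (trans hc h) (trans_comp hc h)).base ⁻¹' W V = W U :=
  (trans_aux hc h).exists.choose_spec.choose_spec

theorem trans_eq {U V : S.affineOpens} (h : U ≤ V) (t : Y U ⟶ Y V) (hw : t ≫ π V = π U)
    (ht : (bc f t hw).base ⁻¹' W V = W U) : t = trans hc h :=
  (trans_aux hc h).unique ⟨hw, ht⟩ ⟨trans_comp hc h, trans_pre hc h⟩

theorem trans_refl (U : S.affineOpens) : trans hc (le_refl U) = 𝟙 (Y U) := by
  refine (trans_eq hc _ _ (Category.id_comp _) ?_).symm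
  have : bc f (𝟙 (Y U)) (Category.id_comp (π U)) = 𝟙 _ := by
    apply pullback.hom_ext <;> simp
  rw [this]
  rfl

theorem trans_trans {U V T : S.affineOpens} (h : U ≤ V) (h' : V ≤ T) :
    trans hc (h.trans h') = trans hc h ≫ trans hc h' := by
  refine (trans_eq hc _ _ (by rw [Category.assoc, trans_comp, trans_comp]) ?_).symm
  rw [← preimage_bc_comp f (trans hc h) (trans_comp hc h) (trans hc h') (trans_comp hc h'),
    trans_pre, trans_pre]

/-- Projection to the affine open. -/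
noncomputable def proj (U : S.affineOpens) : Y U ⟶ U.1.toScheme :=
  IsOpenImmersion.lift U.1.ι (π U) (by rw [Scheme.Opens.range_ι]; exact (hc U).1)

theorem proj_ι (U : S.affineOpens) : proj hc U ≫ U.1.ι = π U := IsOpenImmersion.lift_fac _ _ _

theorem isPullback_trans {U V : S.affineOpens} (h : U ≤ V) :
    IsPullback (trans hc h) (proj hc U) (proj hc V) (S.homOfLE h) := by
  have w : trans hc h ≫ proj hc V = proj hc U ≫ S.homOfLE h := by
    rw [← cancel_mono V.1.ι, Category.assoc, Category.assoc, proj_ι, S.homOfLE_ι, proj_ι, trans_comp]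
  have hg : ∀ s : PullbackCone (proj hc V) (S.homOfLE h),
      s.fst ≫ π V = s.snd ≫ U.1.ι := fun s => by
    rw [← proj_ι hc V, reassoc_of% s.condition, S.homOfLE_ι]
  have hgr : ∀ s : PullbackCone (proj hc V) (S.homOfLE h),
      Set.range (s.snd ≫ U.1.ι).base ⊆ U.1 := fun s => by
    rintro _ ⟨x, rfl⟩
    exact (s.snd.base x).2
  have hl : ∀ s : PullbackCone (proj hc V) (S.homOfLE h), ∃! l : s.pt ⟶ Y U,
      ∃ hw : l ≫ π U = s.snd ≫ U.1.ι, (bc f l hw).base ⁻¹' W U = (bc f s.fst (hg s)).base ⁻¹' W V :=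
    fun s => (hc U).2.2 _ _ (hgr s) _ ((hc V).2.1.preimage (Scheme.Hom.continuous _))
  refine ⟨⟨w⟩, ⟨PullbackCone.IsLimit.mk w (fun s => (hl s).exists.choose) ?_ ?_ ?_⟩⟩
  · intro s
    obtain ⟨hw, hpre⟩ := (hl s).exists.choose_spec
    refine (hc V).unique ((hgr s).trans h) ?_ (hg s) ?_
    · rw [Category.assoc, trans_comp, hw]
    · rw [← preimage_bc_comp f _ hw (trans hc h) (trans_comp hc h), trans_pre]
      exact hpre
  · intro s
    obtain ⟨hw, -⟩ := (hl s).exists.choose_spec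
    rw [← cancel_mono U.1.ι, Category.assoc, proj_ι]
    exact hw
  · intro s m h1 h2
    have hw : m ≫ π U = s.snd ≫ U.1.ι := by rw [← proj_ι hc U, reassoc_of% h2]
    refine (hl s).unique ⟨hw, ?_⟩ (hl s).exists.choose_spec
    rw [← trans_pre hc h, preimage_bc_comp]
    simp only [h1]

/-- The functor of local classifiers. -/
noncomputable def functor : S.affineOpens ⥤ Scheme.{u} where
  obj := Y
  map e := trans hc e.le
  map_id U := trans_refl hc U
  map_comp e e' := trans_trans hc e.le e'.le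

/-- The gluing datum. -/
noncomputable def data : S.directedAffineCover.RelativeGluingData where
  functor := functor hc
  natTrans :=
    { app := fun U => proj hc U
      naturality := fun U V e => by
        have := (isPullback_trans hc e.le).w
        refine this.trans ?_
        congr 1 }
  equifibered := fun {U V} e => by
    have := isPullback_trans hc e.le
    rw [show S.directedAffineCover.functorOfLocallyDirected.map e = S.homOfLE e.le from
      Scheme.directedAffineCover_trans e.le]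
    exact this

include hc in
theorem exists_glued_scheme : ∃ (E : Scheme.{u}) (p : E ⟶ S) (ι : ∀ U, Y U ⟶ E),
    (∀ U, IsOpenImmersion (ι U)) ∧ (∀ U : S.affineOpens, p.base ⁻¹' (U.1 : Set S) = Set.range (ι U).base) ∧
    (∀ U, ι U ≫ p = π U) ∧ (∀ {U V : S.affineOpens} (h : U ≤ V), trans hc h ≫ ι V = ι U) := by
  have : Quiver.IsThin S.directedAffineCover.I₀ := fun _ _ => ⟨fun a b => Subsingleton.elim (α := _ ⟶ _) a b⟩
  have : Small.{u} S.directedAffineCover.I₀ := small_self _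
  refine ⟨(data hc).glued, (data hc).toBase, fun U => colimit.ι (data hc).functor U, fun U => ?_,
    fun U => ?_, fun U => ?_, fun {U V} h => ?_⟩
  · exact (data hc).cover.map_prop U
  · refine Eq.trans ?_ ((data hc).preimage_toBase_eq_range_ι U)
    congr 1
    exact (Scheme.Opens.range_ι U.1).symm
  · exact ((data hc).ι_toBase U).trans (proj_ι hc U)
  · exact colimit.w (data hc).functor (homOfLE h)

variable {E : Scheme.{u}} {p : E ⟶ S} {ι : ∀ U, Y U ⟶ E} (hopen : ∀ U, IsOpenImmersion (ι U))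
  (hrange : ∀ U : S.affineOpens, p.base ⁻¹' (U.1 : Set S) = Set.range (ι U).base)
  (hι : ∀ U, ι U ≫ p = π U) (htr : ∀ {U V : S.affineOpens} (h : U ≤ V), trans hc h ≫ ι V = ι U)

omit hc in
theorem exists_affine_mem (x : S) (O : S.Opens) (hx : x ∈ O) :
    ∃ U : S.affineOpens, x ∈ U.1 ∧ U.1 ≤ O := by
  obtain ⟨_, ⟨(K : S.Opens), hK, rfl⟩, hxK, hKle⟩ :=
    S.isBasis_affineOpens.exists_subset_of_mem_open (show x ∈ (O : Set S) from hx) O.2
  exact ⟨⟨K, hK⟩, hxK, hKle⟩

/-- The glued open-closed set. -/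
noncomputable def glueSet : Set (pullback p f : Scheme.{u}) :=
  ⋃ U, (bc f (ι U) (hι U)).base '' W U

include hopen in
theorem isOpenImmersion_bc (U : S.affineOpens) : IsOpenImmersion (bc f (ι U) (hι U)) :=
  MorphismProperty.of_isPullback (isPullback_bc f (ι U) (hι U)).flip (hopen U)

include hrange in
omit hc in
theorem mem_range_bc_ι (U : S.affineOpens) (x : (pullback p f : Scheme.{u}))
    (hx : p.base ((pullback.fst p f).base x) ∈ U.1) : x ∈ Set.range (bc f (ι U) (hι U)).base := by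
  refine mem_range_bc f (ι U) (hι U) x ?_
  rw [← hrange U]
  exact hx

include hrange in
omit hc in
theorem base_mem (U : S.affineOpens) (y : (pullback (π U) f : Scheme.{u})) :
    p.base ((pullback.fst p f).base ((bc f (ι U) (hι U)).base y)) ∈ U.1 := by
  rw [← Scheme.Hom.comp_apply (bc f (ι U) (hι U)), bc_fst, Scheme.Hom.comp_apply]
  show _ ∈ p.base ⁻¹' (U.1 : Set S)
  rw [hrange U]
  exact ⟨_, rfl⟩

include hopen hrange htr in
theorem preimage_glueSet (U : S.affineOpens) :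
    (bc f (ι U) (hι U)).base ⁻¹' glueSet (W := W) hι = W U := by
  refine Set.Subset.antisymm ?_ fun y hy => Set.mem_iUnion.2 ⟨U, y, hy, rfl⟩
  intro y hy
  obtain ⟨V, y', hy', heq⟩ := Set.mem_iUnion.1 hy
  obtain ⟨K, hzK, hKle⟩ := exists_affine_mem _ (U.1 ⊓ V.1)
    ⟨base_mem hrange hι U y, heq ▸ base_mem hrange hι V y'⟩
  obtain ⟨w, hw⟩ := mem_range_bc_ι hrange hι K _ hzK
  have key : ∀ {T : S.affineOpens} (h : K ≤ T) (v : (pullback (π T) f : Scheme.{u})),
      (bc f (ι T) (hι T)).base v = (bc f (ι K) (hι K)).base w → (v ∈ W T ↔ w ∈ W K) := by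
    intro T h v hv
    have : (bc f (trans hc h) (trans_comp hc h)).base w = v := by
      have := isOpenImmersion_bc (f := f) hopen hι T
      refine (bc f (ι T) (hι T)).injective ?_
      rw [hv, ← Scheme.Hom.comp_apply, bc_comp]
      simp only [htr h]
    rw [← trans_pre hc h, Set.mem_preimage, this]
  rw [key (fun x hx => (hKle hx).1) y hw.symm,
    ← key (fun x hx => (hKle hx).2) y' (heq.trans hw.symm)]
  exact hy'

include hopen hrange htr in
theorem isClopen_glueSet : IsClopen (glueSet (W := W) hι) := by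
  have hbc := fun U => isOpenImmersion_bc (f := f) hopen hι U
  refine ⟨⟨?_⟩, isOpen_iUnion fun U =>
    (bc f (ι U) (hι U)).isOpenEmbedding.isOpenMap _ (hc U).2.1.2⟩
  have : (glueSet (W := W) hι)ᶜ = ⋃ U, (bc f (ι U) (hι U)).base '' (W U)ᶜ := by
    ext x
    constructor
    · intro hx
      obtain ⟨U, hU, -⟩ := exists_affine_mem (p.base ((pullback.fst p f).base x)) ⊤ trivial
      obtain ⟨y, rfl⟩ := mem_range_bc_ι hrange hι U x hU
      exact Set.mem_iUnion.2 ⟨U, y,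
        fun hy => hx ((Set.ext_iff.1 (preimage_glueSet hc hopen hrange hι htr U) y).2 hy), rfl⟩
    · intro hx
      obtain ⟨U, y, hy, rfl⟩ := Set.mem_iUnion.1 hx
      exact fun h => hy ((Set.ext_iff.1 (preimage_glueSet hc hopen hrange hι htr U) y).1 h)
  rw [this]
  exact isOpen_iUnion fun U =>
    (bc f (ι U) (hι U)).isOpenEmbedding.isOpenMap _ (hc U).2.1.1.isOpen_compl

omit hc in
theorem range_restrict {Z : Scheme.{u}} (g : Z ⟶ S) (U : S.affineOpens) :
    Set.range ((g ⁻¹ᵁ U.1).ι ≫ g).base ⊆ U.1 := by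
  rintro _ ⟨x, rfl⟩
  exact x.2

include hopen hrange in
omit hc in
theorem exists_restrict_lift {Z : Scheme.{u}} (g : Z ⟶ S) (U : S.affineOpens) (c : Z ⟶ E)
    (hc' : c ≫ p = g) : ∃ c' : (g ⁻¹ᵁ U.1).toScheme ⟶ Y U, c' ≫ ι U = (g ⁻¹ᵁ U.1).ι ≫ c := by
  have := hopen U
  have hr : Set.range ((g ⁻¹ᵁ U.1).ι ≫ c).base ⊆ Set.range (ι U).base := by
    rw [← hrange U]
    rintro _ ⟨x, rfl⟩
    show p.base (((g ⁻¹ᵁ U.1).ι ≫ c).base x) ∈ U.1
    rw [Scheme.Hom.comp_apply, ← Scheme.Hom.comp_apply c p, hc']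
    exact x.2
  exact ⟨IsOpenImmersion.lift (ι U) ((g ⁻¹ᵁ U.1).ι ≫ c) hr, IsOpenImmersion.lift_fac _ _ _⟩

/-- The cover by preimages of affine opens. -/
noncomputable abbrev preCover {Z : Scheme.{u}} (g : Z ⟶ S) : Z.OpenCover :=
  Z.openCoverOfIsOpenCover (fun U : S.affineOpens => g ⁻¹ᵁ U.1)
    (top_unique fun x _ => by
      obtain ⟨U, hU, -⟩ := exists_affine_mem (g.base x) ⊤ trivial
      exact Opens.mem_iSup.mpr ⟨U, hU⟩)

include hopen hrange htr in
theorem glueSet_unique {Z : Scheme.{u}} (g : Z ⟶ S) (a b : Z ⟶ E) (ha : a ≫ p = g) (hb : b ≫ p = g)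
    (hab : (bc f a ha).base ⁻¹' glueSet (W := W) hι = (bc f b hb).base ⁻¹' glueSet (W := W) hι) :
    a = b := by
  refine Scheme.Cover.hom_ext (preCover g) _ _ fun (U : S.affineOpens) => ?_
  obtain ⟨a', ha'⟩ := exists_restrict_lift hopen hrange g U a ha
  obtain ⟨b', hb'⟩ := exists_restrict_lift hopen hrange g U b hb
  show (g ⁻¹ᵁ U.1).ι ≫ a = (g ⁻¹ᵁ U.1).ι ≫ b
  rw [← ha', ← hb']
  congr 1
  have hwa : a' ≫ π U = (g ⁻¹ᵁ U.1).ι ≫ g := by rw [← hι U, reassoc_of% ha', ha]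
  have hwb : b' ≫ π U = (g ⁻¹ᵁ U.1).ι ≫ g := by rw [← hι U, reassoc_of% hb', hb]
  refine (hc U).unique (range_restrict g U) hwa hwb ?_
  rw [← preimage_glueSet hc hopen hrange hι htr U, preimage_bc_comp, preimage_bc_comp]
  simp only [ha', hb']
  rw [← preimage_bc_comp f (g ⁻¹ᵁ U.1).ι rfl a ha, ← preimage_bc_comp f (g ⁻¹ᵁ U.1).ι rfl b hb, hab]

include hopen hrange htr in
theorem isClassifier_glueSet : IsClassifier f ⊤ p (glueSet (W := W) hι) := by
  refine ⟨fun x _ => trivial, isClopen_glueSet hc hopen hrange hι htr, fun Z g _ C hC => ?_⟩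
  have huniq := @glueSet_unique _ _ _ _ _ _ hc _ _ _ hopen hrange hι @htr
  have hex : ∀ U : S.affineOpens, ∃ l : (g ⁻¹ᵁ U.1).toScheme ⟶ E,
      ∃ hw : l ≫ p = (g ⁻¹ᵁ U.1).ι ≫ g, (bc f l hw).base ⁻¹' glueSet (W := W) hι =
        (bc f (g := (g ⁻¹ᵁ U.1).ι ≫ g) (π := g) (g ⁻¹ᵁ U.1).ι rfl).base ⁻¹' C := fun U => by
    obtain ⟨b, ⟨hbw, hb⟩, -⟩ := (hc U).2.2 _ ((g ⁻¹ᵁ U.1).ι ≫ g) (range_restrict g U) _
      (hC.preimage (bc f (g := (g ⁻¹ᵁ U.1).ι ≫ g) (π := g) (g ⁻¹ᵁ U.1).ι rfl).continuous)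
    refine ⟨b ≫ ι U, by rw [Category.assoc, hι, hbw], ?_⟩
    rw [← preimage_bc_comp f b hbw (ι U) (hι U), preimage_glueSet hc hopen hrange hι htr, hb]
  choose l hlw hl using hex
  have compat : ∀ U V : S.affineOpens, pullback.fst (g ⁻¹ᵁ U.1).ι (g ⁻¹ᵁ V.1).ι ≫ l U =
      pullback.snd (g ⁻¹ᵁ U.1).ι (g ⁻¹ᵁ V.1).ι ≫ l V := fun U V => by
    refine huniq (pullback.fst (g ⁻¹ᵁ U.1).ι (g ⁻¹ᵁ V.1).ι ≫ (g ⁻¹ᵁ U.1).ι ≫ g) _ _
      (by rw [Category.assoc, hlw]) (by rw [Category.assoc, hlw, pullback.condition_assoc]) ?_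
    rw [← preimage_bc_comp f (pullback.fst (g ⁻¹ᵁ U.1).ι (g ⁻¹ᵁ V.1).ι) rfl (l U) (hlw U),
      ← preimage_bc_comp f (g' := pullback.fst (g ⁻¹ᵁ U.1).ι (g ⁻¹ᵁ V.1).ι ≫ (g ⁻¹ᵁ U.1).ι ≫ g)
        (pullback.snd (g ⁻¹ᵁ U.1).ι (g ⁻¹ᵁ V.1).ι) (pullback.condition_assoc g).symm (l V) (hlw V),
      hl, hl, preimage_bc_comp, preimage_bc_comp]
    simp only [pullback.condition]
  let h := (preCover g).glueMorphisms l compat
  have hli : ∀ U : S.affineOpens, (g ⁻¹ᵁ U.1).ι ≫ h = l U := fun U =>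
    (preCover g).ι_glueMorphisms l compat U
  have hhw : h ≫ p = g := Scheme.Cover.hom_ext (preCover g) _ _ fun U =>
    (Category.assoc _ _ _).symm.trans ((congrArg (· ≫ p) (hli U)).trans (hlw U))
  have hh : (bc f h hhw).base ⁻¹' glueSet (W := W) hι = C :=
    eq_of_cover f g (preCover g) fun (U : S.affineOpens) => by
      refine (preimage_bc_comp f (g ⁻¹ᵁ U.1).ι rfl h hhw _).trans ?_
      refine Eq.trans ?_ (hl U)
      simp only [hli U]
  exact ⟨h, ⟨hhw, hh⟩, fun h' ⟨hw', hh'⟩ => huniq g h' h hw' hhw (hh'.trans hh.symm)⟩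

include hc in
theorem exists_glued : ∃ (E : Scheme.{u}) (p : E ⟶ S) (ι : ∀ U, Y U ⟶ E)
    (Wg : Set (pullback p f : Scheme.{u})),
    (∀ U : S.affineOpens, IsOpenImmersion (ι U) ∧ p.base ⁻¹' (U.1 : Set S) = Set.range (ι U).base) ∧
    (∀ U, ι U ≫ p = π U) ∧ IsClassifier f ⊤ p Wg := by
  obtain ⟨E, p, ι, h1, h2, h3, h4⟩ := exists_glued_scheme hc
  exact ⟨E, p, ι, _, fun U => ⟨h1 U, h2 U⟩, h3, isClassifier_glueSet hc h1 h2 h3 @h4⟩

end ClopenGlue

end Groth.Agent.Hensel20
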