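import Groth.Agent.Hensel20.Saturation
import Mathlib.LinearAlgebra.Matrix.Charpoly.LinearMap
import Mathlib.LinearAlgebra.Matrix.Charpoly.Basic
import Mathlib.RingTheory.Unramified.LocalStructure
import Mathlib.RingTheory.Etale.Basic

/-! Sections of étale algebras lift along henselian pairs. -/

set_option autoImplicit false

open Polynomial TensorProduct

namespace Groth.Agent.Hensel20

universe u v w

variable {A : Type u} [CommRing A] {I : Ideal A}

/-- Gabber's argument: lift an idempotent of rank one. -/
lemma exists_rank_one_idempotent (hI : I ≤ Ideal.jacobson ⊥) (hG : HasGabberRoots A I)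
    {E : Type v} [CommRing E] [Algebra A E] [Module.Finite A E] (w : E)
    (φ : E →ₐ[A] A ⧸ I) (hw1 : φ w = 1)
    (hw : ∀ k, φ k = 0 → k * w ∈ I.map (algebraMap A E)) :
    ∃ e : E, IsIdempotentElem e ∧ e - w ∈ I.map (algebraMap A E) ∧
      ∀ x : E, ∃ a : A, x * e = algebraMap A E a * e := by
  classical
  set J := I.map (algebraMap A E)
  let p : E →+* E ⧸ J := Ideal.Quotient.mk J
  have hdec : ∀ x : E, ∃ a : A, (x - algebraMap A E a) * w ∈ J := by
    intro x
    obtain ⟨a, ha⟩ := Ideal.Quotient.mk_surjective (φ x)
    exact ⟨a, hw _ (by simp [← ha])⟩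
  have hww : (w - 1) * w ∈ J := hw _ (by simp [hw1])
  obtain ⟨n, g, hg⟩ := Module.Finite.exists_fin (R := A) (M := E)
  let g' : Fin (n + 1) → E := Fin.cons 0 (fun i => (1 - w) * g i)
  let v : Fin (n + 2) → E := Fin.cons w g'
  have hv : Submodule.span A (Set.range v) = ⊤ := by
    rw [eq_top_iff]
    refine Submodule.le_of_le_smul_of_le_jacobson_bot (I := I) Module.Finite.fg_top hI ?_
    intro x h
    clear h
    obtain ⟨a, ha⟩ := hdec x
    have h1 : x * (1 - w) ∈ Submodule.span A (Set.range v) := by
      have hx : x ∈ Submodule.span A (Set.range g) := hg ▸ Submodule.mem_top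
      clear ha a
      induction hx using Submodule.span_induction with
      | mem y hy =>
        obtain ⟨i, rfl⟩ := hy
        exact Submodule.subset_span ⟨i.succ.succ, by simp [v, g', mul_comm]⟩
      | zero => simp
      | add y z _ _ hy hz => rw [add_mul]; exact add_mem hy hz
      | smul a y _ hy => rw [smul_mul_assoc]; exact Submodule.smul_mem _ a hy
    have h2 : algebraMap A E a * w ∈ Submodule.span A (Set.range v) := by
      rw [← Algebra.smul_def]
      exact Submodule.smul_mem _ _ (Submodule.subset_span ⟨0, by simp [v]⟩)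
    have hx : x = (x * (1 - w) + algebraMap A E a * w) + (x - algebraMap A E a) * w := by ring
    rw [hx]
    exact Submodule.add_mem_sup (add_mem h1 h2) (mem_map_iff_mem_smul_top.mp ha)
  let d : Fin (n + 2) → A := Fin.cons 1 0
  have hd : ∀ j, w * v j - d j • v j ∈ I • Submodule.span A (Set.range v) := by
    rw [hv]
    intro j
    rw [← mem_map_iff_mem_smul_top]
    induction j using Fin.cases with
    | zero => simpa [d, v, sub_mul] using hww
    | succ j =>
      induction j using Fin.cases with
      | zero => simp [d, v, g']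
      | succ i =>
        have := Ideal.mul_mem_right (-g i) J hww
        convert this using 1
        simp [d, v, g']
        ring
  simp only [Submodule.mem_ideal_smul_span_iff_exists_sum] at hd
  choose c hcI hc using hd
  let M : Matrix (Fin (n + 2)) (Fin (n + 2)) A := Matrix.diagonal d + Matrix.of fun i j => c j i
  have hM : M.Represents v (Algebra.lmul A E w) := by
    rw [Matrix.represents_iff']
    intro j
    have := hc j
    rw [Finsupp.sum_fintype _ _ (by simp)] at this
    simp [M, add_smul, Finset.sum_add_distrib, Matrix.diagonal, this]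
  let M' : Matrix.isRepresentation A v := ⟨M, _, hM⟩
  let P := M.charpoly
  have hPw : aeval w P = 0 := by
    have h1 : aeval M' P = 0 := by
      apply Subtype.ext
      change (Matrix.isRepresentation A v).val (aeval M' P) = 0
      rw [← aeval_algHom_apply]
      exact Matrix.aeval_self_charpoly M
    have h2 := congrArg (Matrix.isRepresentation.toEnd A v hv) h1
    rw [← aeval_algHom_apply, Matrix.isRepresentation.eq_toEnd_of_represents A v hv M' hM,
      aeval_algHom_apply, map_zero] at h2
    simpa using congr($h2 1)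
  have hPmap : P.map (Ideal.Quotient.mk I) = X ^ (n + 1) * (X - 1) := by
    rw [← Matrix.charpoly_map]
    have : M.map (Ideal.Quotient.mk I) = Matrix.diagonal fun i => Ideal.Quotient.mk I (d i) := by
      ext i j
      rcases eq_or_ne i j with rfl | h
      · simp [M, Ideal.Quotient.eq_zero_iff_mem.mpr (hcI i i)]
      · simp [M, h, Ideal.Quotient.eq_zero_iff_mem.mpr (hcI j i)]
    rw [this, Matrix.charpoly_diagonal, Fin.prod_univ_succ]
    simp [d, mul_comm]
  obtain ⟨α, hα, hα1⟩ := hG n P M.charpoly_monic hPmap
  obtain ⟨Q, hQ⟩ := dvd_iff_isRoot.mpr hα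
  have hα1' : Ideal.Quotient.mk I α = 1 := by
    rw [← map_one (Ideal.Quotient.mk I), Ideal.Quotient.mk_eq_mk_iff_sub_mem]; exact hα1
  have hQmap : Q.map (Ideal.Quotient.mk I) = X ^ (n + 1) := by
    refine (Polynomial.monic_X_sub_C (1 : A ⧸ I)).isRegular.left ?_
    have := congrArg (Polynomial.map (Ideal.Quotient.mk I)) hQ
    rw [hPmap, Polynomial.map_mul] at this
    simp only [Polynomial.map_sub, Polynomial.map_X, Polynomial.map_C, hα1'] at this
    simp only [map_one] at this ⊢
    rw [← this, mul_comm]
  have hQα : Q.eval α - 1 ∈ I := by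
    rw [← Ideal.Quotient.mk_eq_mk_iff_sub_mem, ← eval_map_apply, hQmap, map_one]
    simp [hα1']
  obtain ⟨u, hu⟩ := (isUnit_of_sub_one_mem hI hQα).exists_left_inv
  let e : E := algebraMap A E u * aeval w Q
  have heα : (w - algebraMap A E α) * e = 0 := by
    have := hPw
    rw [hQ, map_mul, map_sub, aeval_X, aeval_C] at this
    linear_combination (algebraMap A E u) * this
  obtain ⟨R, hR⟩ := Polynomial.X_sub_C_dvd_sub_C_eval (a := α) (p := Q)
  have he : IsIdempotentElem e := by
    have h1 : aeval w Q = algebraMap A E (Q.eval α) + (w - algebraMap A E α) * aeval w R := by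
      have := congrArg (aeval w) hR
      simp only [map_sub, map_mul, aeval_X, aeval_C] at this
      linear_combination this
    have h2 : aeval w Q * e = algebraMap A E (Q.eval α) * e := by
      rw [h1, add_mul]
      linear_combination (aeval w R) * heα
    calc e * e = algebraMap A E u * (aeval w Q * e) := by simp only [e]; ring
      _ = e := by rw [h2, ← mul_assoc, ← map_mul, hu, map_one, one_mul]
  have hew : e - w ∈ J := by
    have h1 : aeval w Q - w ^ (n + 1) ∈ J := by
      have := aeval_mem_map_of_coeff (I := I) (P := Q - X ^ (n + 1)) (fun i => by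
        rw [← Ideal.Quotient.eq_zero_iff_mem, ← coeff_map, Polynomial.map_sub, hQmap]
        simp) w
      simpa using this
    have hwk : p (w ^ (n + 1)) = p w := by
      have hw2 : IsIdempotentElem (p w) := by
        unfold IsIdempotentElem
        rw [← map_mul, ← sub_eq_zero, ← map_sub, Ideal.Quotient.eq_zero_iff_mem]
        convert hww using 1; ring
      rw [map_pow, hw2.pow_succ_eq]
    have hu1 : p (algebraMap A E u) = 1 := by
      rw [← map_one p, Ideal.Quotient.mk_eq_mk_iff_sub_mem, ← map_one (algebraMap A E), ← map_sub]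
      refine Ideal.mem_map_of_mem _ ?_
      have : u - 1 = u * (1 - Q.eval α) := by linear_combination hu
      rw [this]
      exact I.mul_mem_left _ (by rw [← neg_sub]; exact I.neg_mem hQα)
    rw [← Ideal.Quotient.mk_eq_mk_iff_sub_mem]
    change p (algebraMap A E u * aeval w Q) = p w
    rw [map_mul, hu1, one_mul, ← hwk, Ideal.Quotient.mk_eq_mk_iff_sub_mem]
    exact h1
  refine ⟨e, he, hew, fun x => ?_⟩
  let W : Submodule A E := LinearMap.range (LinearMap.mulRight A e)
  have hW : W ≤ Submodule.span A {e} := by
    refine Submodule.le_of_le_smul_of_le_jacobson_bot (I := I)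
      (by rw [show W = Submodule.map (LinearMap.mulRight A e) ⊤ from (Submodule.map_top _).symm]
          exact Module.Finite.fg_top.map _) hI ?_
    rintro _ ⟨y, rfl⟩
    obtain ⟨a, ha⟩ := hdec y
    have h1 : (y - algebraMap A E a) * e ∈ J := by
      have := add_mem ha (Ideal.mul_mem_left J (y - algebraMap A E a) hew)
      convert this using 1; ring
    have h2 : (y - algebraMap A E a) * e ∈ I • W := by
      have h3 : LinearMap.mulRight A e ((y - algebraMap A E a) * e) ∈
          (I • (⊤ : Submodule A E)).map (LinearMap.mulRight A e) :=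
        ⟨_, mem_map_iff_mem_smul_top.mp h1, rfl⟩
      rw [Submodule.map_smul'', Submodule.map_top] at h3
      simpa [W, mul_assoc, he.eq] using h3
    have hy : LinearMap.mulRight A e y = algebraMap A E a * e + (y - algebraMap A E a) * e := by
      simp; ring
    rw [hy]
    refine Submodule.add_mem_sup ?_ h2
    rw [← Algebra.smul_def]
    exact Submodule.smul_mem _ _ (Submodule.mem_span_singleton_self e)
  obtain ⟨a, ha⟩ := Submodule.mem_span_singleton.mp (hW ⟨x, rfl⟩)
  exact ⟨a, by simpa [Algebra.smul_def] using ha.symm⟩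

/-- An idempotent of the finite model cuts out a finite direct factor. -/
lemma mul_idem_mem {S : Type v} [CommRing S] [Algebra A S] {E : Subalgebra A S} [Module.Finite A E]
    (hI : I ≤ Ideal.jacobson ⊥) {r e : E} (hr : r ∈ satIdeal E) (he : IsIdempotentElem e)
    (h : (r - 1) * e ∈ I.map (algebraMap A E)) (x : S) : x * (e : S) ∈ E := by
  obtain ⟨v, hv⟩ := (isUnit_of_sub_one_mem (map_le_jacobson_of_isIntegral hI)
    (a := 1 + (r - 1) * e) (by simpa using h)).exists_left_inv
  have hve : v * r * e = e := by
    linear_combination e * hv - v * (r - 1) * he.eq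
  obtain ⟨m, hm⟩ := hr x
  have hpow : ∀ k : ℕ, (v * r) ^ k * e = e := by
    intro k
    induction k with
    | zero => simp
    | succ i hi => rw [pow_succ, mul_assoc, hve]; exact hi
  have : x * (e : S) = (v : S) ^ m * (e : S) * ((r : S) ^ m * x) := by
    nth_rw 1 [← hpow m]
    simp [mul_pow]; ring
  rw [this]
  exact mul_mem (mul_mem (pow_mem v.2 _) e.2) hm

/-- Sections of étale algebras modulo `I` lift, assuming Gabber's condition. -/
theorem exists_lift_of_etale (hI : I ≤ Ideal.jacobson ⊥) (hG : HasGabberRoots A I)
    {S : Type u} [CommRing S] [Algebra A S] [Algebra.Etale A S] (σ : S →ₐ[A] A ⧸ I) :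
    ∃ τ : S →ₐ[A] A, (Ideal.Quotient.mkₐ A I).comp τ = σ := by
  obtain ⟨ε, hε1, hεk⟩ := exists_kills_ker_of_unramified (I := I) σ Ideal.Quotient.mk_surjective
    (fun a => Ideal.Quotient.eq_zero_iff_mem)
  have hsurj : Function.Surjective σ := fun c => by
    obtain ⟨a, rfl⟩ := Ideal.Quotient.mk_surjective c
    exact ⟨algebraMap A S a, σ.commutes a⟩
  obtain ⟨E, hEfin, -, r, w, hr1, hr, hw1, -, hwk⟩ := exists_finite_model σ hsurj
    (fun q _ _ => inferInstance) ε hε1 hεk
  obtain ⟨e, he, hew, hrank⟩ := exists_rank_one_idempotent hI hG w (σ.comp E.val) hw1 hwk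
  have hre : (r - 1) * e ∈ I.map (algebraMap A E) := by
    have h1 := hwk (r - 1) (by simp [hr1])
    have := add_mem h1 (Ideal.mul_mem_left _ (r - 1) hew)
    convert this using 1; ring
  have hσe : σ (e : S) = 1 := by
    have h1 : σ ((e - w : E) : S) = 0 := by
      suffices I.map (algebraMap A E) ≤ RingHom.ker (σ.comp E.val) from this hew
      rw [Ideal.map_le_iff_le_comap]
      intro a ha
      rw [Ideal.mem_comap, RingHom.mem_ker, AlgHom.commutes]
      exact Ideal.Quotient.eq_zero_iff_mem.mpr ha
    simpa [sub_eq_zero, hw1] using h1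
  have heS : IsIdempotentElem (e : S) := he.map E.val
  let L := Localization.Away (e : S)
  have hEt : Algebra.Etale A L := by
    have : Algebra.Etale S L := Algebra.Etale.of_isLocalizationAway (e : S)
    exact Algebra.Etale.comp A S L
  have hone : algebraMap S L (e : S) = 1 := by
    have hu : IsUnit (algebraMap S L (e : S)) := IsLocalization.Away.algebraMap_isUnit _
    refine hu.mul_left_cancel ?_
    rw [← map_mul, heS.eq, mul_one]
  have hsurjL : Function.Surjective (algebraMap A L) := by
    intro z
    obtain ⟨x, rfl⟩ := IsLocalization.Away.algebraMap_surjective_of_isIdempotentElem (e : S) heS z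
    obtain ⟨a, ha⟩ := hrank ⟨_, mul_idem_mem hI hr he hre x⟩
    refine ⟨a, ?_⟩
    have := congrArg (fun y : E => algebraMap S L (y : S)) ha
    simp only [Subalgebra.coe_mul, map_mul, hone, mul_one, Subalgebra.coe_algebraMap] at this
    rw [IsScalarTower.algebraMap_apply A S L, ← this]
  have hidem := (Algebra.FormallyEtale.iff_of_surjective hsurjL).mp inferInstance
  have hfg : (RingHom.ker (algebraMap A L)).FG :=
    Algebra.FinitePresentation.ker_fG_of_surjective (Algebra.ofId A L) hsurjL
  have hkerI : RingHom.ker (algebraMap A L) ≤ I := fun a ha => by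
    rw [RingHom.mem_ker, IsScalarTower.algebraMap_apply A S L] at ha
    have := congrArg (IsLocalization.Away.lift (e : S) (g := σ.toRingHom)
      (by simp [hσe] : IsUnit (σ.toRingHom (e : S)))) ha
    rw [IsLocalization.Away.lift_eq, map_zero] at this
    exact Ideal.Quotient.eq_zero_iff_mem.mp ((σ.commutes a).symm.trans this)
  have hbot : RingHom.ker (algebraMap A L) = ⊥ := by
    refine Submodule.eq_bot_of_le_smul_of_le_jacobson_bot I _ hfg ?_ hI
    calc RingHom.ker (algebraMap A L) = _ * _ := hidem.symm
      _ ≤ _ := Ideal.mul_mono_left hkerI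
  let eL : A ≃ₐ[A] L := AlgEquiv.ofBijective (Algebra.ofId A L)
    ⟨(RingHom.injective_iff_ker_eq_bot _).mpr hbot, hsurjL⟩
  refine ⟨eL.symm.toAlgHom.comp (IsScalarTower.toAlgHom A S L), AlgHom.ext fun x => ?_⟩
  let lift := IsLocalization.Away.lift (S := L) (e : S) (g := σ.toRingHom)
      (by simp [hσe] : IsUnit (σ.toRingHom (e : S)))
  have h1 : ∀ z : L, Ideal.Quotient.mk I (eL.symm z) = lift z := by
    intro z
    obtain ⟨a, rfl⟩ := eL.surjective z
    rw [eL.symm_apply_apply]
    change _ = lift (algebraMap A L a)
    rw [IsScalarTower.algebraMap_apply A S L, IsLocalization.Away.lift_eq]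
    exact (σ.commutes a).symm
  exact (h1 _).trans (IsLocalization.Away.lift_eq _ _ _)

end Groth.Agent.Hensel20
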