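import Groth.Agent.CAlg1.SkFlat
import Groth.Agent.CAlg5.GeomRegularFG
import Groth.Prelude.Def_Found
import Mathlib

/-! Regular homomorphisms and base change along maps whose fibres are products of separable fields. -/

set_option autoImplicit false

open TensorProduct

namespace Groth.Agent.Hensel20

universe u

/-- The fibres are finite products of separable algebraic field extensions. -/
def HasSeparableFibres (R S : Type u) [CommRing R] [CommRing S] [Algebra R S] : Prop :=
  ∀ (p : Ideal R) [p.IsPrime],
    ∃ (n : ℕ) (F : Fin n → Type u) (_ : ∀ i, Field (F i)) (_ : ∀ i, Algebra p.ResidueField (F i)),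
      (∀ i, Algebra.IsSeparable p.ResidueField (F i)) ∧
      Nonempty ((p.ResidueField ⊗[R] S) ≃ₐ[p.ResidueField] (Π i, F i))

theorem isIntegral_pi {k : Type u} [Field k] {n : ℕ} {F : Fin n → Type u} [∀ i, CommRing (F i)]
    [∀ i, Algebra k (F i)] (x : ∀ i, F i) (h : ∀ i, IsIntegral k (x i)) : IsIntegral k x := by
  refine ⟨∏ i, minpoly k (x i), Polynomial.monic_prod_of_monic _ _ fun i _ => minpoly.monic (h i), ?_⟩
  show Polynomial.aeval x _ = 0
  funext i
  show Pi.evalAlgHom k F i (Polynomial.aeval x _) = 0
  rw [← Polynomial.aeval_algHom_apply, map_prod]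
  exact Finset.prod_eq_zero (Finset.mem_univ i) (minpoly.aeval k (x i))

theorem isReduced_separable_tensor {k F K : Type u} [Field k] [Field F] [Field K] [Algebra k F]
    [Algebra k K] [Algebra.IsSeparable k F] : IsReduced (K ⊗[k] F) := by
  refine IsReduced.tensorProduct_of_flat_of_forall_fg fun B hB => ?_
  have : Algebra.FiniteType k B := B.fg_iff_finiteType.mp hB
  have : Algebra.IsIntegral k B := ⟨fun x =>
    (isIntegral_algHom_iff B.val Subtype.val_injective).mp (Algebra.IsIntegral.isIntegral _)⟩
  let : Field B := (isField_of_isIntegral_of_isField' (Field.toIsField k)).toField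
  have : Algebra.IsSeparable k B := Algebra.IsSeparable.of_algHom k F B.val
  have := Algebra.FormallyUnramified.of_isSeparable k B
  exact Algebra.FormallyUnramified.isReduced_of_field K (K ⊗[k] B)

variable {R S : Type u} [CommRing R] [CommRing S] [Algebra R S]

theorem reduced_artinian_tensor (hF : HasSeparableFibres R S) (p : Ideal R) [p.IsPrime]
    (k' : Type u) [Field k'] [Algebra p.ResidueField k'] [Algebra R k']
    [IsScalarTower R p.ResidueField k'] [Module.Finite p.ResidueField k'] :
    IsReduced (S ⊗[R] k') ∧ IsArtinianRing (S ⊗[R] k') := by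
  obtain ⟨n, F, iF, iA, hsep, ⟨e⟩⟩ := hF p
  let PF := ∀ i, F i
  let ε : S ⊗[R] k' ≃+* k' ⊗[p.ResidueField] PF :=
    (Algebra.TensorProduct.comm R S k').toRingEquiv.trans
      ((Algebra.TensorProduct.cancelBaseChange R p.ResidueField k' k' S).symm.toRingEquiv.trans
        (Algebra.TensorProduct.congr (AlgEquiv.refl (R := k') (A₁ := k')) e).toRingEquiv)
  have hred : IsReduced (k' ⊗[p.ResidueField] PF) := by
    have : ∀ i, IsReduced (k' ⊗[p.ResidueField] F i) := fun i =>
      have := hsep i
      isReduced_separable_tensor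
    exact isReduced_of_injective (Algebra.TensorProduct.piRight p.ResidueField k' k' F).toRingEquiv
      (RingEquiv.injective _)
  have hart : IsArtinianRing (k' ⊗[p.ResidueField] PF) := by
    have : IsArtinianRing (PF ⊗[p.ResidueField] k') := IsArtinianRing.of_finite PF _
    exact (Algebra.TensorProduct.comm p.ResidueField PF k').toRingEquiv.isArtinianRing
  exact ⟨isReduced_of_injective ε ε.injective, ε.symm.isArtinianRing⟩

theorem exists_idempotent_ker {C L : Type u} [CommRing C] [IsReduced C] [IsArtinianRing C]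
    [CommRing L] [Algebra C L] (hsurj : Function.Surjective (algebraMap C L)) :
    ∃ g : C, IsLocalization.Away g L ∧ (1 - g) ∈ RingHom.ker (algebraMap C L) := by
  have := IsArtinianRing.isSemisimpleRing_of_isReduced C
  obtain ⟨e, he, hek⟩ :=
    IsSemisimpleRing.ideal_eq_span_idempotent (RingHom.ker (algebraMap C L))
  have hek' : RingHom.ker (algebraMap C L) = Ideal.span {e} := hek
  refine ⟨1 - e, IsLocalization.away_of_isIdempotentElem he.one_sub (by simpa using hek') hsurj, ?_⟩
  rw [hek', sub_sub_cancel]
  exact Ideal.mem_span_singleton_self e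

variable (T : Type u) [CommRing T] [Algebra S T]

theorem isRegularRing_tensor_of_surjective {C L : Type u} [CommRing C] [IsReduced C]
    [IsArtinianRing C] [Algebra S C] [CommRing L] [Algebra C L] [Algebra S L] [IsScalarTower S C L]
    (hsurj : Function.Surjective (algebraMap C L)) [IsRegularRing (C ⊗[S] T)] :
    IsRegularRing (L ⊗[S] T) := by
  obtain ⟨g, hg, -⟩ := exists_idempotent_ker hsurj
  let f : C ⊗[S] T →ₐ[S] L ⊗[S] T :=
    Algebra.TensorProduct.map (IsScalarTower.toAlgHom S C L) (AlgHom.id S T)
  let : Algebra (C ⊗[S] T) (L ⊗[S] T) := f.toRingHom.toAlgebra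
  have : IsScalarTower C (C ⊗[S] T) (L ⊗[S] T) := .of_algebraMap_eq fun c => by
    show algebraMap C L c ⊗ₜ[S] (1 : T) = f (c ⊗ₜ 1)
    simp [f]
  have : IsLocalization (Algebra.algebraMapSubmonoid (C ⊗[S] T) (Submonoid.powers g)) (L ⊗[S] T) :=
    IsLocalization.tensorProduct_tensorProduct S T (Submonoid.powers g) L (by
      ext t
      show f (1 ⊗ₜ t) = 1 ⊗ₜ t
      simp [f])
  exact CAlg5.isRegularRing_of_isLocalization (Algebra.algebraMapSubmonoid (C ⊗[S] T) (Submonoid.powers g)) _

theorem isRegularRing_tensor_of_quotients {C : Type u} [CommRing C] [IsReduced C]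
    [IsArtinianRing C] [Algebra S C] [IsNoetherianRing (C ⊗[S] T)]
    (h : ∀ M : Ideal C, M.IsMaximal → IsRegularRing ((C ⧸ M) ⊗[S] T)) :
    IsRegularRing (C ⊗[S] T) := by
  refine isRegularRing_iff.mpr fun P _ => ?_
  let M := P.comap (algebraMap C (C ⊗[S] T))
  have hM : M.IsMaximal := Ideal.isMaximal_of_isPrime M
  have := h M hM
  obtain ⟨g, hg, hgM⟩ := exists_idempotent_ker
    (C := C) (L := C ⧸ M) (fun x => Ideal.Quotient.mk_surjective x)
  rw [Ideal.Quotient.algebraMap_eq, Ideal.mk_ker] at hgM
  let f : C ⊗[S] T →ₐ[S] (C ⧸ M) ⊗[S] T :=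
    Algebra.TensorProduct.map (IsScalarTower.toAlgHom S C (C ⧸ M)) (AlgHom.id S T)
  let : Algebra (C ⊗[S] T) ((C ⧸ M) ⊗[S] T) := f.toRingHom.toAlgebra
  have : IsScalarTower C (C ⊗[S] T) ((C ⧸ M) ⊗[S] T) := .of_algebraMap_eq fun c => by
    show algebraMap C (C ⧸ M) c ⊗ₜ[S] (1 : T) = f (c ⊗ₜ 1)
    simp [f]
  let N := Algebra.algebraMapSubmonoid (C ⊗[S] T) (Submonoid.powers g)
  have hN : IsLocalization N ((C ⧸ M) ⊗[S] T) :=
    IsLocalization.tensorProduct_tensorProduct S T (Submonoid.powers g) (C ⧸ M) (by
      ext t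
      show f (1 ⊗ₜ t) = 1 ⊗ₜ t
      simp [f])
  have hdisj : Disjoint (N : Set (C ⊗[S] T)) (P : Set (C ⊗[S] T)) := by
    rw [Set.disjoint_left]
    rintro _ ⟨_, ⟨i, rfl⟩, rfl⟩ hx
    have hgi : g ^ i ∈ M := hx
    exact hM.isPrime.ne_top ((Ideal.eq_top_iff_one M).2
      (sub_add_cancel (1 : C) g ▸ add_mem hgM (hM.isPrime.mem_of_pow_mem i hgi)))
  let Q := P.map (algebraMap (C ⊗[S] T) ((C ⧸ M) ⊗[S] T))
  have : Q.IsPrime := IsLocalization.isPrime_of_isPrime_disjoint N _ P inferInstance hdisj
  have hcomap : Q.comap (algebraMap (C ⊗[S] T) ((C ⧸ M) ⊗[S] T)) = P :=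
    IsLocalization.under_map_of_isPrime_disjoint N _ inferInstance hdisj
  have hloc : IsLocalization.AtPrime (Localization.AtPrime Q)
      (Q.comap (algebraMap (C ⊗[S] T) ((C ⧸ M) ⊗[S] T))) :=
    IsLocalization.isLocalization_isLocalization_atPrime_isLocalization N _ Q
  simp only [hcomap] at hloc
  exact IsRegularLocalRing.of_ringEquiv (R := Localization.AtPrime Q)
    (IsLocalization.algEquiv P.primeCompl (Localization.AtPrime Q) (Localization.AtPrime P)).toRingEquiv

variable [Algebra R T] [IsScalarTower R S T]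

/-- `S ⊗_R k' ⊗_S T` and the base change of the fibre. -/
noncomputable def tensorFibreEquiv (p : Ideal R) [p.IsPrime] (k' : Type u) [Field k']
    [Algebra p.ResidueField k'] [Algebra R k'] [IsScalarTower R p.ResidueField k'] :
    (S ⊗[R] k') ⊗[S] T ≃+* k' ⊗[p.ResidueField] p.Fiber T :=
  (Algebra.TensorProduct.comm S (S ⊗[R] k') T).toRingEquiv.trans
    ((Algebra.TensorProduct.cancelBaseChange R S S T k').toRingEquiv.trans
      ((Algebra.TensorProduct.comm R T k').toRingEquiv.trans
        (Algebra.TensorProduct.cancelBaseChange R p.ResidueField k' k' T).symm.toRingEquiv))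

theorem isAlgebraic_residueField (hF : HasSeparableFibres R S) (p : Ideal R) [p.IsPrime]
    (q : Ideal S) [q.IsPrime] [Algebra p.ResidueField q.ResidueField]
    [IsScalarTower R p.ResidueField q.ResidueField] :
    Algebra.IsAlgebraic p.ResidueField q.ResidueField := by
  obtain ⟨n, F, iF, iA, hsep, ⟨e⟩⟩ := hF p
  have hint : Algebra.IsIntegral p.ResidueField (p.ResidueField ⊗[R] S) := by
    have : ∀ i, Algebra.IsIntegral p.ResidueField (F i) := fun i =>
      have := hsep i
      inferInstance
    exact ⟨fun x => (isIntegral_algHom_iff e.toAlgHom e.injective).mp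
      (isIntegral_pi (e x) fun i => Algebra.IsIntegral.isIntegral (R := p.ResidueField) (e x i))⟩
  let φ : p.ResidueField ⊗[R] S →ₐ[p.ResidueField] q.ResidueField :=
    Algebra.TensorProduct.lift (Algebra.ofId _ _) (IsScalarTower.toAlgHom R S q.ResidueField)
      (fun _ _ => Commute.all _ _)
  refine ⟨fun x => ?_⟩
  obtain ⟨a, b, -, rfl⟩ := IsFractionRing.div_surjective (A := S ⧸ q) x
  obtain ⟨a, rfl⟩ := Ideal.Quotient.mk_surjective a
  obtain ⟨b, rfl⟩ := Ideal.Quotient.mk_surjective b
  have key : ∀ s : S, algebraMap S q.ResidueField s ∈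
      algebraicClosure p.ResidueField q.ResidueField := fun s => by
    rw [mem_algebraicClosure_iff, isAlgebraic_iff_isIntegral]
    have := (Algebra.IsIntegral.isIntegral (R := p.ResidueField) ((1 : p.ResidueField) ⊗ₜ[R] s)).map φ
    simpa [φ] using this
  have h1 := div_mem (key a) (key b)
  rw [mem_algebraicClosure_iff] at h1
  simpa only [← Ideal.Quotient.algebraMap_eq, ← IsScalarTower.algebraMap_apply] using h1

theorem isRegularHom_base_of_top [Module.Flat R S] [IsNoetherianRing T]
    (hF : HasSeparableFibres R S) (h : CAlg.IsRegularHom S T) : CAlg.IsRegularHom R T := by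
  have := h.1
  refine ⟨Module.Flat.trans R S T, fun p _ => ⟨CAlg1.isNoetherianRing_fiber (S := T) p,
    fun k' _ _ hk => ?_⟩⟩
  let : Algebra R k' := ((algebraMap p.ResidueField k').comp (algebraMap R p.ResidueField)).toAlgebra
  have : IsScalarTower R p.ResidueField k' := .of_algebraMap_eq fun _ => rfl
  obtain ⟨hCr, hCa⟩ := reduced_artinian_tensor hF p k'
  have : Algebra.EssFiniteType R k' := Algebra.EssFiniteType.comp R p.ResidueField k'
  have : IsNoetherianRing ((S ⊗[R] k') ⊗[S] T) :=
    have : IsNoetherianRing (T ⊗[R] k') := Algebra.EssFiniteType.isNoetherianRing T _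
    isNoetherianRing_of_ringEquiv _ ((Algebra.TensorProduct.cancelBaseChange R S S T k').symm.toRingEquiv.trans
      (Algebra.TensorProduct.comm S T (S ⊗[R] k')).toRingEquiv)
  have : IsRegularRing ((S ⊗[R] k') ⊗[S] T) := by
    refine isRegularRing_tensor_of_quotients T fun M hM => ?_
    let L := (S ⊗[R] k') ⧸ M
    let : Field L := Ideal.Quotient.field M
    let q := RingHom.ker (algebraMap S L)
    have hq : q.IsPrime := RingHom.ker_isPrime _
    let : Algebra q.ResidueField L := (IsFractionRing.lift (A := S ⧸ q)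
      (K := q.ResidueField) (g := RingHom.kerLift (algebraMap S L))
      (RingHom.kerLift_injective _)).toAlgebra
    have : IsScalarTower S q.ResidueField L := .of_algebraMap_eq fun s => by
      rw [RingHom.algebraMap_toAlgebra, IsScalarTower.algebraMap_apply S (S ⧸ q) q.ResidueField,
        IsFractionRing.lift_algebraMap]
      rfl
    let kL : k' →ₐ[R] L := ((Ideal.Quotient.mkₐ R M).comp Algebra.TensorProduct.includeRight)
    have hqp : p = q.comap (algebraMap R S) := by
      ext r
      rw [Ideal.mem_comap, RingHom.mem_ker, ← IsScalarTower.algebraMap_apply R S L,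
        ← kL.commutes r, map_eq_zero, IsScalarTower.algebraMap_apply R p.ResidueField k', map_eq_zero,
        Ideal.algebraMap_residueField_eq_zero]
    let g : p.ResidueField →ₐ[R] q.ResidueField :=
      Ideal.ResidueField.mapₐ p q (Algebra.ofId R S) hqp
    have hg : (algebraMap q.ResidueField L).comp g.toRingHom =
        kL.toRingHom.comp (algebraMap p.ResidueField k') := by
      refine Ideal.ResidueField.ringHom_ext (RingHom.ext fun r => ?_)
      show algebraMap q.ResidueField L (g (algebraMap R _ r)) = kL (algebraMap p.ResidueField k' _)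
      rw [g.commutes, ← IsScalarTower.algebraMap_apply R p.ResidueField k', kL.commutes,
        IsScalarTower.algebraMap_apply R S q.ResidueField, ← IsScalarTower.algebraMap_apply S q.ResidueField L,
        ← IsScalarTower.algebraMap_apply R S L]
    have hfin : Module.Finite q.ResidueField L := by
      let b := Module.Free.chooseBasis p.ResidueField k'
      refine Module.Finite.of_fg_top (Submodule.fg_def.2 ⟨Set.range fun i => kL (b i),
        Set.finite_range _, ?_⟩)
      rw [eq_top_iff]
      rintro x -
      obtain ⟨c, rfl⟩ := Ideal.Quotient.mk_surjective x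
      induction c using TensorProduct.induction_on with
      | zero => simp
      | add y z hy hz => rw [map_add]; exact add_mem hy hz
      | tmul s y =>
        have h1 : Ideal.Quotient.mk M (s ⊗ₜ[R] y) = algebraMap q.ResidueField L (algebraMap S _ s) * kL y := by
          rw [← IsScalarTower.algebraMap_apply S q.ResidueField L]
          show _ = Ideal.Quotient.mk M (s ⊗ₜ[R] (1 : k')) * Ideal.Quotient.mk M ((1 : S) ⊗ₜ[R] y)
          rw [← map_mul, Algebra.TensorProduct.tmul_mul_tmul, mul_one, one_mul]
        rw [h1, ← Algebra.smul_def]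
        refine Submodule.smul_mem _ _ ?_
        rw [← b.sum_repr y, map_sum]
        refine Submodule.sum_mem _ fun i _ => ?_
        rw [Algebra.smul_def, map_mul,
          show kL (algebraMap p.ResidueField k' (b.repr y i)) = _ from (RingHom.congr_fun hg _).symm]
        show algebraMap q.ResidueField L _ * _ ∈ _
        rw [← Algebra.smul_def]
        exact Submodule.smul_mem _ _ (Submodule.subset_span ⟨i, rfl⟩)
    have := (h.2 q).2 L hfin
    exact IsRegularRing.of_ringEquiv (R := L ⊗[q.ResidueField] q.Fiber T)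
      (Algebra.TensorProduct.cancelBaseChange S q.ResidueField L L T).toRingEquiv
  exact IsRegularRing.of_ringEquiv (R := (S ⊗[R] k') ⊗[S] T) (tensorFibreEquiv T p k')

theorem isRegularHom_top_of_base [Module.Flat S T] [IsNoetherianRing T]
    (hF : HasSeparableFibres R S) (h : CAlg.IsRegularHom R T) : CAlg.IsRegularHom S T := by
  classical
  refine ⟨inferInstance, fun q _ => ⟨CAlg1.isNoetherianRing_fiber (S := T) q,
    fun k' _ _ hk => ?_⟩⟩
  let p := q.comap (algebraMap R S)
  let g : p.ResidueField →ₐ[R] q.ResidueField := Ideal.ResidueField.mapₐ p q (Algebra.ofId R S) rfl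
  let : Algebra p.ResidueField q.ResidueField := g.toRingHom.toAlgebra
  have : IsScalarTower R p.ResidueField q.ResidueField := .of_algebraMap_eq fun r => (g.commutes r).symm
  have := isAlgebraic_residueField hF p q
  let : Algebra p.ResidueField k' :=
    ((algebraMap q.ResidueField k').comp (algebraMap p.ResidueField q.ResidueField)).toAlgebra
  have : IsScalarTower p.ResidueField q.ResidueField k' := .of_algebraMap_eq fun _ => rfl
  let : Algebra S k' := ((algebraMap q.ResidueField k').comp (algebraMap S q.ResidueField)).toAlgebra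
  have : IsScalarTower S q.ResidueField k' := .of_algebraMap_eq fun _ => rfl
  let : Algebra R k' := ((algebraMap S k').comp (algebraMap R S)).toAlgebra
  have : IsScalarTower R S k' := .of_algebraMap_eq fun _ => rfl
  have : IsScalarTower R p.ResidueField k' := .of_algebraMap_eq fun r => by
    show algebraMap q.ResidueField k' (algebraMap S _ (algebraMap R S r)) =
      algebraMap q.ResidueField k' (g (algebraMap R _ r))
    rw [g.commutes, ← IsScalarTower.algebraMap_apply R S q.ResidueField]
  have : Algebra.IsAlgebraic p.ResidueField k' :=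
    Algebra.IsAlgebraic.trans p.ResidueField q.ResidueField k'
  let b := Module.Free.chooseBasis q.ResidueField k'
  let k'' := IntermediateField.adjoin p.ResidueField (Set.range b)
  have : Module.Finite p.ResidueField k'' :=
    IntermediateField.finiteDimensional_adjoin fun x _ => Algebra.IsIntegral.isIntegral x
  obtain ⟨hCr, hCa⟩ := reduced_artinian_tensor hF p k''
  have hreg : IsRegularRing (k'' ⊗[p.ResidueField] p.Fiber T) := (h.2 p).2 k'' inferInstance
  have : IsRegularRing ((S ⊗[R] k'') ⊗[S] T) :=
    IsRegularRing.of_ringEquiv (R := k'' ⊗[p.ResidueField] p.Fiber T) (tensorFibreEquiv (S := S) T p k'').symm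
  let φ : S ⊗[R] k'' →ₐ[S] k' :=
    Algebra.TensorProduct.lift (Algebra.ofId S k') (k''.val.restrictScalars R)
      (fun _ _ => Commute.all _ _)
  let : Algebra (S ⊗[R] k'') k' := φ.toRingHom.toAlgebra
  have : IsScalarTower S (S ⊗[R] k'') k' := .of_algebraMap_eq fun s => (φ.commutes s).symm
  have hsurj : Function.Surjective φ := by
    have hk'' : ∀ x : k'', (x : k') ∈ φ.toRingHom.range := fun x => ⟨1 ⊗ₜ x, by simp [φ]⟩
    let A : Subalgebra p.ResidueField k' :=
      { φ.toRingHom.range.toSubsemiring with
        algebraMap_mem' := fun c => hk'' ⟨_, k''.algebraMap_mem c⟩ }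
    have hS : ∀ s, algebraMap S k' s ∈ A := fun s => ⟨algebraMap S _ s, φ.commutes s⟩
    have hinv : ∀ {x : k'}, x ∈ A → x⁻¹ ∈ A := fun {x} hx =>
      A.inv_mem_of_algebraic (x := ⟨x, hx⟩) (Algebra.IsAlgebraic.isAlgebraic x)
    have hq : ∀ c, algebraMap q.ResidueField k' c ∈ A := fun c => by
      obtain ⟨a, d, -, rfl⟩ := IsFractionRing.div_surjective (A := S ⧸ q) c
      obtain ⟨a, rfl⟩ := Ideal.Quotient.mk_surjective a
      obtain ⟨d, rfl⟩ := Ideal.Quotient.mk_surjective d
      simp only [← Ideal.Quotient.algebraMap_eq, ← IsScalarTower.algebraMap_apply, div_eq_mul_inv,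
        map_mul, map_inv₀]
      exact mul_mem (hS a) (hinv (hS d))
    intro x
    suffices x ∈ A from this
    rw [← b.sum_repr x]
    refine sum_mem fun i _ => ?_
    rw [Algebra.smul_def]
    exact mul_mem (hq _) (hk'' ⟨b i, IntermediateField.subset_adjoin _ _ ⟨i, rfl⟩⟩)
  have := isRegularRing_tensor_of_surjective (S := S) (C := S ⊗[R] k'') (L := k') T hsurj
  exact IsRegularRing.of_ringEquiv (R := k' ⊗[S] T)
    (Algebra.TensorProduct.cancelBaseChange S q.ResidueField k' k' T).symm.toRingEquiv

end Groth.Agent.Hensel20
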