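import Groth.Agent.Hensel20.GeomFibre
import Groth.Agent.CAlg6.GeomTensor
import Mathlib.RingTheory.AdicCompletion.LocalRing
import Mathlib.RingTheory.AdicCompletion.AsTensorProduct
import Mathlib.FieldTheory.IntermediateField.Adjoin.Algebra

/-! Formal fibres of henselian local rings with geometrically reduced formal fibres are connected. -/

set_option autoImplicit false

open IsLocalRing TensorProduct

namespace Groth.Agent.Hensel20

universe u

/-- A finite subalgebra with given fraction field. -/
theorem exists_finite_subalgebra_fractionRing {A : Type u} [CommRing A] (p : Ideal A) [p.IsPrime]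
    (L : Type u) [Field L] [Algebra p.ResidueField L] [Algebra A L]
    [IsScalarTower A p.ResidueField L] [FiniteDimensional p.ResidueField L] :
    ∃ A₁ : Subalgebra A L, Module.Finite A A₁ ∧ IsFractionRing A₁ L := by
  classical
  have hne : ∀ a ∉ p, algebraMap A L a ≠ 0 := fun a ha => by
    rw [IsScalarTower.algebraMap_apply A p.ResidueField L, Ne,
      map_eq_zero_iff _ (FaithfulSMul.algebraMap_injective p.ResidueField L),
      Ideal.algebraMap_residueField_eq_zero]
    exact ha
  have hscale : ∀ l : L, ∃ a ∉ p, IsIntegral A (algebraMap A L a * l) := fun l => by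
    let _ : Algebra (A ⧸ p) L :=
      ((algebraMap p.ResidueField L).comp (algebraMap (A ⧸ p) p.ResidueField)).toAlgebra
    have : IsScalarTower (A ⧸ p) p.ResidueField L := IsScalarTower.of_algebraMap_eq fun _ => rfl
    have : IsScalarTower A (A ⧸ p) L := IsScalarTower.of_algebraMap_eq fun a => by
      show _ = algebraMap p.ResidueField L (algebraMap (A ⧸ p) p.ResidueField (algebraMap A (A ⧸ p) a))
      rw [← IsScalarTower.algebraMap_apply A (A ⧸ p) p.ResidueField, ← IsScalarTower.algebraMap_apply A p.ResidueField L]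
    have hl : IsIntegral p.ResidueField l := Algebra.IsIntegral.isIntegral l
    obtain ⟨⟨t, ht⟩, htl⟩ :=
      hl.exists_multiple_integral_of_isLocalization (nonZeroDivisors (A ⧸ p)) l
    obtain ⟨a, rfl⟩ := Ideal.Quotient.mk_surjective t
    refine ⟨a, fun ha => nonZeroDivisors.ne_zero ht (Ideal.Quotient.eq_zero_iff_mem.mpr ha), ?_⟩
    rw [Submonoid.mk_smul, Algebra.smul_def] at htl
    rw [IsScalarTower.algebraMap_apply A (A ⧸ p) L]
    exact isIntegral_trans (A := A ⧸ p) _ htl
  let b := Module.Free.chooseBasis p.ResidueField L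
  choose a ha hai using fun j => hscale (b j)
  let A₁ := Algebra.adjoin A (Set.range fun j => algebraMap A L (a j) * b j)
  have hfin : Module.Finite A A₁ := ⟨(Submodule.fg_top _).mpr (fg_adjoin_of_finite
    (Set.finite_range _) (by rintro _ ⟨j, rfl⟩; exact hai j))⟩
  refine ⟨A₁, hfin, IsFractionRing.of_field A₁ L fun z => ?_⟩
  suffices ∀ z : L, ∃ c ∉ p, algebraMap A L c * z ∈ A₁ by
    obtain ⟨c, hc, hcz⟩ := this z
    refine ⟨⟨_, hcz⟩, algebraMap A A₁ c, ?_⟩
    show z = (algebraMap A L c * z) / algebraMap A L c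
    rw [mul_div_cancel_left₀ _ (hne c hc)]
  have hone : (1 : A) ∉ p := fun h => (inferInstance : p.IsPrime).ne_top ((Ideal.eq_top_iff_one p).mpr h)
  intro z
  refine Submodule.span_induction ?_ ⟨1, hone, by simp⟩ ?_ ?_
    (show z ∈ Submodule.span p.ResidueField (Set.range b) by rw [b.span_eq]; trivial)
  · rintro _ ⟨j, rfl⟩
    exact ⟨a j, ha j, Algebra.subset_adjoin ⟨j, rfl⟩⟩
  · rintro x y - - ⟨c, hc, hcx⟩ ⟨d, hd, hdy⟩
    refine ⟨c * d, (inferInstance : p.IsPrime).mul_notMem hc hd, ?_⟩
    have := add_mem (A₁.mul_mem (A₁.algebraMap_mem d) hcx) (A₁.mul_mem (A₁.algebraMap_mem c) hdy)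
    convert this using 1
    rw [map_mul]; ring
  · rintro r x - ⟨c, hc, hcx⟩
    obtain ⟨r₀, ⟨s, hs⟩, rfl⟩ := IsLocalization.exists_mk'_eq (nonZeroDivisors (A ⧸ p)) r
    obtain ⟨r₀, rfl⟩ := Ideal.Quotient.mk_surjective r₀
    obtain ⟨s, rfl⟩ := Ideal.Quotient.mk_surjective s
    have hsp : s ∉ p := fun h => nonZeroDivisors.ne_zero hs (Ideal.Quotient.eq_zero_iff_mem.mpr h)
    refine ⟨s * c, (inferInstance : p.IsPrime).mul_notMem hsp hc, ?_⟩
    have h1 := A₁.mul_mem (A₁.algebraMap_mem r₀) hcx
    convert h1 using 1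
    have h2 := congrArg (algebraMap p.ResidueField L)
      (IsLocalization.mk'_spec' p.ResidueField (Ideal.Quotient.mk p r₀)
        (⟨Ideal.Quotient.mk p s, hs⟩ : nonZeroDivisors (A ⧸ p)))
    have e0 : ∀ z : A, algebraMap p.ResidueField L
        (algebraMap (A ⧸ p) p.ResidueField (Ideal.Quotient.mk p z)) = algebraMap A L z := fun z =>
      (congrArg (algebraMap p.ResidueField L)
        (IsScalarTower.algebraMap_apply A (A ⧸ p) p.ResidueField z).symm).trans
        (IsScalarTower.algebraMap_apply A p.ResidueField L z).symm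
    rw [map_mul] at h2
    simp only [e0] at h2
    rw [Algebra.smul_def, map_mul, ← h2]
    ring

variable (A : Type u) [CommRing A] [IsNoetherianRing A] [HenselianLocalRing A]

/-- Every base change of the completion to a field has connected spectrum. -/
theorem connectedSpace_tensor_cpl (h : EGA4.HasGeomReducedFormalFibres A)
    (K : Type u) [Field K] [Algebra A K] :
    ConnectedSpace (PrimeSpectrum (K ⊗[A] EGA4.Cpl A)) := by
  classical
  let C := EGA4.Cpl A
  have hred : ∀ (K : Type u) [Field K] [Algebra A K], IsReduced (C ⊗[A] K) := fun K _ _ =>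
    isReduced_tensor_field h K
  have hres : ∀ c : C, ∃ a : A, c - algebraMap A C a ∈ maximalIdeal C := fun c => by
    obtain ⟨r, hr⟩ := (AdicCompletion.residueField_map_bijective A).2 (residue _ c)
    obtain ⟨a, rfl⟩ := residue_surjective r
    rw [ResidueField.map_residue] at hr
    exact ⟨a, by rw [← residue_eq_zero_iff, map_sub, hr, sub_self]⟩
  have hmC : (maximalIdeal A).map (algebraMap A C) = maximalIdeal C :=
    AdicCompletion.maximalIdeal_eq_map.symm
  have : Module.FaithfullyFlat A C := Module.FaithfullyFlat.of_flat_of_isLocalHom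
  let p : Ideal A := RingHom.ker (algebraMap A K)
  have : p.IsPrime := RingHom.ker_isPrime _
  let _ : Algebra p.ResidueField K := (Ideal.ResidueField.lift p (algebraMap A K) le_rfl
    fun a ha => isUnit_iff_ne_zero.mpr ha).toAlgebra
  have : IsScalarTower A p.ResidueField K :=
    IsScalarTower.of_algebraMap_eq fun a => (Ideal.ResidueField.lift_algebraMap p _ le_rfl _ a).symm
  let kb := AlgebraicClosure p.ResidueField
  let Ω := AlgebraicClosure K
  let σ : kb →ₐ[p.ResidueField] Ω := IsAlgClosed.lift
  let _ : Algebra kb Ω := σ.toRingHom.toAlgebra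
  have : IsScalarTower A kb Ω := IsScalarTower.of_algebraMap_eq fun a => by
    show _ = σ (algebraMap A kb a)
    rw [IsScalarTower.algebraMap_apply A p.ResidueField kb, AlgHom.commutes,
      ← IsScalarTower.algebraMap_apply]
  have hkb : ConnectedSpace (PrimeSpectrum (kb ⊗[A] C)) := by
    refine (CAlg6.connectedSpace_iff_idempotent _).mpr
      ⟨Module.FaithfullyFlat.rTensor_nontrivial A C kb, fun e he => ?_⟩
    have he' : IsIdempotentElem (Algebra.TensorProduct.comm A kb C e) := he.map _
    obtain ⟨S, hS⟩ := TensorProduct.exists_finset (Algebra.TensorProduct.comm A kb C e)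
    let L : IntermediateField p.ResidueField kb :=
      IntermediateField.adjoin p.ResidueField ↑(S.image Prod.snd)
    have : FiniteDimensional p.ResidueField L :=
      IntermediateField.finiteDimensional_adjoin fun x _ => Algebra.IsIntegral.isIntegral x
    let ι := Algebra.TensorProduct.map (AlgHom.id A C) (L.val.restrictScalars A)
    obtain ⟨w, hw⟩ : ∃ w, ι w = Algebra.TensorProduct.comm A kb C e := by
      refine ⟨∑ q ∈ S.attach, q.1.1 ⊗ₜ[A] (⟨q.1.2, IntermediateField.subset_adjoin _ _
        (Finset.mem_image_of_mem _ q.2)⟩ : L), ?_⟩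
      rw [hS, map_sum, ← Finset.sum_attach S]
      exact Finset.sum_congr rfl fun q _ => by simp [ι]
    have hw2 : IsIdempotentElem w :=
      lTensor_map_injective (L.val.restrictScalars A) Subtype.val_injective
        (by rw [map_mul, hw]; exact he'.eq)
    obtain ⟨A₁, hA₁, hA₁'⟩ := exists_finite_subalgebra_fractionRing p L
    rcases idempotent_trivial_of_henselian hmC hres hred A₁ w hw2 with rfl | rfl
    · left
      exact (Algebra.TensorProduct.comm A kb C).injective (by rw [← hw, map_zero, map_zero])
    · right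
      exact (Algebra.TensorProduct.comm A kb C).injective (by rw [← hw, map_one, map_one])
  have hΩ : ConnectedSpace (PrimeSpectrum (Ω ⊗[kb] (kb ⊗[A] C))) :=
    CAlg6.connectedSpace_baseChange_of_isSepClosed kb (kb ⊗[A] C) Ω
  refine (CAlg6.connectedSpace_iff_idempotent _).mpr
    ⟨Module.FaithfullyFlat.rTensor_nontrivial A C K, fun e he => ?_⟩
  obtain ⟨-, hidem⟩ := (CAlg6.connectedSpace_iff_idempotent (Ω ⊗[kb] (kb ⊗[A] C))).mp hΩ
  let ε := (Algebra.TensorProduct.cancelBaseChange A kb kb Ω C).symm
  let j := Algebra.TensorProduct.map (IsScalarTower.toAlgHom A K Ω) (AlgHom.id A C)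
  have hj : Function.Injective j := Module.Flat.rTensor_preserves_injective_linearMap (M := C)
    (IsScalarTower.toAlgHom A K Ω).toLinearMap (FaithfulSMul.algebraMap_injective K Ω)
  rcases hidem (ε (j e)) ((he.map j).map ε) with h0 | h0
  · exact Or.inl (hj (ε.injective (by rw [h0, map_zero, map_zero])))
  · exact Or.inr (hj (ε.injective (by rw [h0, map_one, map_one])))

end Groth.Agent.Hensel20
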