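import Groth.Agent.Hensel20.DvrFamily
import Groth.Agent.Hensel20.Basic
import Groth.Agent.FBase64.TensorField
import Groth.Agent.WE91.LocalIntegral
import Groth.Prelude.Def_EGA4b
import Mathlib.RingTheory.Nilpotent.GeometricallyReduced
import Mathlib.RingTheory.Flat.FaithfullyFlat.Algebra

/-! Geometrically reduced fibres: idempotents of generic fibres. -/

set_option autoImplicit false

open IsLocalRing TensorProduct

namespace Groth.Agent.Hensel20

universe u

/-- An algebra with geometrically reduced fibres has reduced base change to every field. -/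
theorem isReduced_tensor_field {A C : Type u} [CommRing A] [CommRing C] [Algebra A C]
    (h : ∀ (p : Ideal A) [p.IsPrime], Algebra.IsGeometricallyReduced p.ResidueField (p.Fiber C))
    (K : Type u) [Field K] [Algebra A K] : IsReduced (C ⊗[A] K) := by
  let p : Ideal A := RingHom.ker (algebraMap A K)
  have : p.IsPrime := RingHom.ker_isPrime _
  let σ : p.ResidueField →+* K := Ideal.ResidueField.lift p (algebraMap A K) le_rfl
    fun a ha => isUnit_iff_ne_zero.mpr ha
  let _ : Algebra p.ResidueField K := σ.toAlgebra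
  have : IsScalarTower A p.ResidueField K :=
    IsScalarTower.of_algebraMap_eq fun a => (Ideal.ResidueField.lift_algebraMap p _ le_rfl _ a).symm
  have := h p
  have : IsReduced (K ⊗[p.ResidueField] p.Fiber C) :=
    FBase64.isReduced_tensor_of_geomReduced (k := p.ResidueField) (A := p.Fiber C) (B := K)
  have : IsReduced (K ⊗[A] C) := isReduced_of_injective
    (Algebra.TensorProduct.cancelBaseChange A p.ResidueField p.ResidueField K C).symm
    (AlgEquiv.injective _)
  exact isReduced_of_injective (Algebra.TensorProduct.comm A C K) (AlgEquiv.injective _)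

/-- Idempotent-like elements are divisible over discrete valuation rings. -/
theorem mem_span_of_dvr {A C : Type u} [CommRing A] [CommRing C] [Algebra A C] [Module.Flat A C]
    (h : ∀ (K : Type u) [Field K] [Algebra A K], IsReduced (C ⊗[A] K))
    {V : Type u} [CommRing V] [IsDomain V] [IsDiscreteValuationRing V] [Algebra A V]
    (s : V) (hs : s ≠ 0) (x : C ⊗[A] V) (hx : x * x = ((1 : C) ⊗ₜ[A] s) * x) :
    x ∈ Ideal.span {((1 : C) ⊗ₜ[A] s)} := by
  obtain ⟨ϖ, hϖ⟩ := IsDiscreteValuationRing.exists_irreducible V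
  obtain ⟨k, u, rfl⟩ := IsDiscreteValuationRing.eq_unit_mul_pow_irreducible hs hϖ
  let P : C ⊗[A] V := (1 : C) ⊗ₜ[A] ϖ
  have hP : ∀ y, P * y = 0 → y = 0 := by
    intro y hy
    have hinj := Module.Flat.lTensor_preserves_injective_linearMap (M := C) (LinearMap.mulLeft A ϖ)
      (fun a b hab => mul_left_cancel₀ hϖ.ne_zero hab)
    refine hinj ((?_ : LinearMap.lTensor C (LinearMap.mulLeft A ϖ) y = P * y).trans
      (hy.trans (map_zero _).symm))
    clear hy
    induction y with
    | zero => simp
    | tmul c v => simp [P]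
    | add a b ha hb => rw [map_add, ha, hb, mul_add]
  have hsq : ∀ y, y * y ∈ Ideal.span {P} → y ∈ Ideal.span {P} := by
    intro y hy
    let g : V →ₐ[A] ResidueField V := IsScalarTower.toAlgHom A V (ResidueField V)
    have hg : Function.Surjective g := residue_surjective
    have hker : RingHom.ker (Algebra.TensorProduct.map (AlgHom.id A C) g) = Ideal.span {P} := by
      rw [Algebra.TensorProduct.lTensor_ker _ hg,
        show RingHom.ker g = Ideal.span {ϖ} from (ker_residue (R := V)).trans hϖ.maximalIdeal_eq,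
        Ideal.map_span, Set.image_singleton]
      rfl
    rw [← hker, RingHom.mem_ker] at hy ⊢
    have := h (ResidueField V)
    rw [map_mul] at hy
    exact IsReduced.eq_zero _ ⟨2, by rw [sq]; exact hy⟩
  suffices ∀ k : ℕ, ∀ y w : C ⊗[A] V, y * y = P ^ k * w * y → y ∈ Ideal.span {P ^ k} by
    have h2 : ((1 : C) ⊗ₜ[A] ((u : V) * ϖ ^ k)) = P ^ k * ((1 : C) ⊗ₜ[A] (u : V)) := by
      simp [P, Algebra.TensorProduct.tmul_pow, mul_comm]
    rw [h2, Ideal.span_singleton_mul_right_unit]
    · exact this k x _ (by rw [hx, h2])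
    · exact (u.isUnit.map (Algebra.TensorProduct.includeRight : V →ₐ[A] C ⊗[A] V))
  intro k
  induction k with
  | zero => simp
  | succ k ih =>
    intro y w hy
    obtain ⟨y, rfl⟩ : P ∣ y := Ideal.mem_span_singleton.mp (hsq y (Ideal.mem_span_singleton.mpr
      ⟨P ^ k * w * y, by rw [hy]; ring⟩))
    have hy2 : y * y = P ^ k * w * y := by
      refine sub_eq_zero.mp (hP _ (hP _ ?_))
      linear_combination hy
    obtain ⟨z, hz⟩ := Ideal.mem_span_singleton.mp (ih y w hy2)
    exact Ideal.mem_span_singleton.mpr ⟨z, by rw [hz]; ring⟩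

section

variable {A C : Type u} [CommRing A] [CommRing C] [Algebra A C] [Module.Flat A C]

theorem lTensor_map_injective {T T' : Type u} [CommRing T] [CommRing T'] [Algebra A T]
    [Algebra A T'] (f : T →ₐ[A] T') (hf : Function.Injective f) :
    Function.Injective (Algebra.TensorProduct.map (AlgHom.id A C) f) :=
  Module.Flat.lTensor_preserves_injective_linearMap (M := C) f.toLinearMap hf

/-- The idempotent of the generic fibre is defined over the integral closure. -/
theorem mem_range_integralClosure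
    (h : ∀ (K : Type u) [Field K] [Algebra A K], IsReduced (C ⊗[A] K))
    {A₁ L : Type u} [CommRing A₁] [IsDomain A₁] [IsNoetherianRing A₁] [Field L] [Algebra A A₁]
    [Algebra A L] [Algebra A₁ L] [IsScalarTower A A₁ L] [IsFractionRing A₁ L]
    [Algebra.IsIntegral A A₁] (e : C ⊗[A] L) (he : IsIdempotentElem e) :
    ∃ z : C ⊗[A] (integralClosure A L),
      Algebra.TensorProduct.map (AlgHom.id A C) (integralClosure A L).val z = e := by
  classical
  let ι₁ := Algebra.TensorProduct.map (AlgHom.id A C) (IsScalarTower.toAlgHom A A₁ L)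
  obtain ⟨x, s, hs, hx⟩ : ∃ (x : C ⊗[A] A₁) (s : A₁), s ≠ 0 ∧
      ((1 : C) ⊗ₜ[A] algebraMap A₁ L s) * e = ι₁ x := by
    clear he
    induction e with
    | zero => exact ⟨0, 1, one_ne_zero, by simp⟩
    | tmul c l =>
      obtain ⟨a, b, hb, rfl⟩ := IsFractionRing.div_surjective (A := A₁) l
      refine ⟨c ⊗ₜ a, b, nonZeroDivisors.ne_zero hb, ?_⟩
      simp [ι₁, mul_div_cancel₀, IsFractionRing.to_map_ne_zero_of_mem_nonZeroDivisors hb]
    | add e₁ e₂ h₁ h₂ =>
      obtain ⟨x₁, s₁, hs₁, hx₁⟩ := h₁
      obtain ⟨x₂, s₂, hs₂, hx₂⟩ := h₂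
      refine ⟨((1 : C) ⊗ₜ[A] s₂) * x₁ + ((1 : C) ⊗ₜ[A] s₁) * x₂, s₁ * s₂, mul_ne_zero hs₁ hs₂, ?_⟩
      have h1 : ∀ t : A₁, ι₁ ((1 : C) ⊗ₜ[A] t) = (1 : C) ⊗ₜ[A] algebraMap A₁ L t := fun t => by
        simp [ι₁]
      have h2 : (1 : C) ⊗ₜ[A] algebraMap A₁ L (s₁ * s₂) =
          ((1 : C) ⊗ₜ[A] algebraMap A₁ L s₁) * ((1 : C) ⊗ₜ[A] algebraMap A₁ L s₂) := by simp
      simp only [map_add, map_mul, h1, ← hx₁, ← hx₂] at h2 ⊢
      rw [h2]
      ring
  have hsL : algebraMap A₁ L s ≠ 0 := by simpa using hs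
  have hx2 : x * x = ((1 : C) ⊗ₜ[A] s) * x := by
    refine lTensor_map_injective (IsScalarTower.toAlgHom A A₁ L) (IsFractionRing.injective A₁ L) ?_
    show ι₁ (x * x) = ι₁ (_ * x)
    rw [map_mul, map_mul, ← hx, show ι₁ ((1 : C) ⊗ₜ[A] s) = (1 : C) ⊗ₜ[A] algebraMap A₁ L s by
      simp [ι₁]]
    linear_combination ((1 : C) ⊗ₜ[A] algebraMap A₁ L s) ^ 2 * he.eq
  obtain ⟨F, hF, hFint⟩ := exists_dvr_family (L := L) s
  -- the linear maps `a ↦ a / s mod V` and `a ↦ a / s mod` integral elements
  let dvd : A₁ →ₗ[A] L :=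
    (LinearMap.mulRight A (algebraMap A₁ L s)⁻¹).comp (IsScalarTower.toAlgHom A A₁ L).toLinearMap
  let sub : {V // V ∈ F} → Submodule A L := fun V =>
    { carrier := {z | z ∈ V.1}
      zero_mem' := V.1.zero_mem
      add_mem' := V.1.add_mem _ _
      smul_mem' := fun a z hz => by
        rw [Algebra.smul_def, IsScalarTower.algebraMap_apply A A₁ L]
        exact V.1.mul_mem _ _ ((hF V.1 V.2).2 _) hz }
  let Φ : A₁ →ₗ[A] (∀ V : {V // V ∈ F}, L ⧸ sub V) :=
    LinearMap.pi fun V => (sub V).mkQ.comp dvd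
  have hΦ : LinearMap.ker Φ = (Subalgebra.toSubmodule (integralClosure A L)).comap dvd := by
    ext a
    rw [LinearMap.mem_ker, Submodule.mem_comap, Subalgebra.mem_toSubmodule, mem_integralClosure_iff]
    have : Φ a = 0 ↔ ∀ V : {V // V ∈ F}, dvd a ∈ V.1 := by
      rw [funext_iff]
      exact forall_congr' fun V => Submodule.Quotient.mk_eq_zero (sub V)
    rw [this]
    refine ⟨fun hV => ?_, fun hint V => ?_⟩
    · exact isIntegral_trans (R := A) (A := A₁) _ (by
        simpa [dvd, div_eq_mul_inv] using hFint a fun V hV' => by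
          simpa [dvd, div_eq_mul_inv] using hV ⟨V, hV'⟩)
    · obtain ⟨p, hp, hpz⟩ := hint
      have := (hF V.1 V.2).1
      have h1 : IsIntegral V.1 (dvd a) :=
        ⟨p.map ((algebraMap A L).codRestrict V.1.toSubring fun c => by
          rw [IsScalarTower.algebraMap_apply A A₁ L]; exact (hF V.1 V.2).2 _),
          hp.map _, by rw [Polynomial.eval₂_map]; exact hpz⟩
      obtain ⟨y, hy⟩ := IsIntegrallyClosed.isIntegral_iff.mp h1
      exact hy ▸ y.2
  -- `x` dies under `Φ`
  have hx0 : LinearMap.lTensor C Φ x = 0 := by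
    refine (TensorProduct.piRight A A C (fun V : {V // V ∈ F} => L ⧸ sub V)).injective
      ((funext fun V => ?_ : _ = (0 : ∀ V : {V // V ∈ F}, C ⊗[A] (L ⧸ sub V))).trans
        (map_zero _).symm)
    have hV := hF V.1 V.2
    let _ : Algebra A V.1 := ((algebraMap A₁ L).comp (algebraMap A A₁)).codRestrict V.1.toSubring
      (fun c => hV.2 _) |>.toAlgebra
    have := hV.1
    let φ : A₁ →ₐ[A] V.1 :=
      { (algebraMap A₁ L).codRestrict V.1.toSubring hV.2 with commutes' := fun c => rfl }
    let xV := Algebra.TensorProduct.map (AlgHom.id A C) φ x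
    have hφs : φ s ≠ 0 := fun h0 => hsL (congrArg Subtype.val h0)
    obtain ⟨y, hy⟩ := Ideal.mem_span_singleton.mp (mem_span_of_dvr h (φ s) hφs xV (by
      simp only [xV, ← map_mul, hx2]
      rw [map_mul]; simp))
    let d' : V.1 →ₗ[A] L :=
      { toFun := fun v => (v : L) * (algebraMap A₁ L s)⁻¹
        map_add' := fun v w => by simp [add_mul]
        map_smul' := fun c v => by
          rw [RingHom.id_apply, Algebra.smul_def, Algebra.smul_def,
            IsScalarTower.algebraMap_apply A A₁ L]
          exact mul_assoc _ _ _ }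
    have e1 : (sub V).mkQ.comp dvd = ((sub V).mkQ.comp d').comp φ.toLinearMap := rfl
    have e2 : ∀ z, TensorProduct.piRight A A C (fun V : {V // V ∈ F} => L ⧸ sub V)
        (LinearMap.lTensor C Φ z) V = LinearMap.lTensor C ((sub V).mkQ.comp dvd) z := fun z => by
      induction z with
      | zero => simp
      | tmul c a => simp [Φ]
      | add a b ha hb => simp only [map_add, Pi.add_apply, ha, hb]
    rw [e2, e1, LinearMap.lTensor_comp_apply, show LinearMap.lTensor C φ.toLinearMap x = xV from rfl,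
      hy]
    clear hy
    induction y with
    | zero => simp
    | tmul c v =>
      rw [Algebra.TensorProduct.tmul_mul_tmul, one_mul, LinearMap.lTensor_tmul, Pi.zero_apply]
      have : ((sub V).mkQ.comp d') (φ s * v) = 0 := by
        refine (Submodule.Quotient.mk_eq_zero _).mpr ?_
        show (algebraMap A₁ L s * (v : L)) * (algebraMap A₁ L s)⁻¹ ∈ V.1
        rw [mul_comm (algebraMap A₁ L s), mul_assoc, mul_inv_cancel₀ hsL, mul_one]
        exact v.2
      rw [this, tmul_zero]
    | add a b ha hb => simp only [mul_add, map_add, ha, hb, Pi.zero_apply, add_zero]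
  -- hence `x` is divisible by `s` over the integral closure
  obtain ⟨x', hx'⟩ : x ∈ LinearMap.range (LinearMap.lTensor C (LinearMap.ker Φ).subtype) :=
    (Module.Flat.lTensor_exact C (LinearMap.exact_subtype_ker_map Φ) x).mp hx0
  let d : LinearMap.ker Φ →ₗ[A] integralClosure A L :=
    { toFun := fun a => ⟨dvd a, (hΦ.le a.2 :)⟩
      map_add' := fun a b => Subtype.ext (map_add dvd _ _)
      map_smul' := fun c a => Subtype.ext (map_smul dvd _ _) }
  refine ⟨LinearMap.lTensor C d x', ?_⟩
  have hu : IsUnit ((1 : C) ⊗ₜ[A] algebraMap A₁ L s) :=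
    (isUnit_iff_ne_zero.mpr hsL).map (Algebra.TensorProduct.includeRight : L →ₐ[A] C ⊗[A] L)
  refine hu.mul_left_cancel ?_
  rw [hx, ← hx']
  clear hx' hx0 hx hx2 he
  induction x' with
  | zero => simp
  | tmul c a =>
    simp [ι₁, d, dvd, mul_comm _ (algebraMap A₁ L s)⁻¹, ← mul_assoc, mul_inv_cancel₀ hsL,
      inv_mul_cancel₀ hsL]
  | add a b ha hb => simp only [map_add, mul_add, ha, hb]

end

/-- Fields finite over the image of a henselian local ring with geometrically reduced formal
fibres: no idempotents in the completed tensor product. -/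
theorem idempotent_trivial_of_henselian {A C : Type u} [CommRing A] [HenselianLocalRing A]
    [IsNoetherianRing A] [CommRing C] [IsLocalRing C] [Algebra A C] [IsLocalHom (algebraMap A C)]
    [Module.Flat A C] (hmC : (maximalIdeal A).map (algebraMap A C) = maximalIdeal C)
    (hres : ∀ c : C, ∃ a : A, c - algebraMap A C a ∈ maximalIdeal C)
    (h : ∀ (K : Type u) [Field K] [Algebra A K], IsReduced (C ⊗[A] K))
    {L : Type u} [Field L] [Algebra A L] (A₁ : Subalgebra A L) [Module.Finite A A₁]
    [IsFractionRing A₁ L] (e : C ⊗[A] L) (he : IsIdempotentElem e) : e = 0 ∨ e = 1 := by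
  classical
  have : IsNoetherianRing A₁ := isNoetherianRing_of_fg (Subalgebra.fg_of_fg_toSubmodule
    ((Module.Finite.iff_fg (N := Subalgebra.toSubmodule A₁)).mp ‹_›))
  obtain ⟨z, hz⟩ := mem_range_integralClosure h (A₁ := A₁) e he
  obtain ⟨s, rfl⟩ := TensorProduct.exists_finset z
  let A₂ : Subalgebra A L := Algebra.adjoin A ↑(s.image fun p => (p.2 : L))
  have hfin : Module.Finite A A₂ := ⟨(Submodule.fg_top _).mpr (fg_adjoin_of_finite
    (Finset.finite_toSet _) (by
      intro l hl
      obtain ⟨p, -, rfl⟩ := Finset.mem_image.mp hl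
      exact p.2.2))⟩
  have hA₂ : IsLocalRing A₂ := WE91.isLocalRing_of_isIntegral_of_isDomain A A₂
  let ι := Algebra.TensorProduct.map (AlgHom.id A C) A₂.val
  obtain ⟨w, hw⟩ : ∃ w, ι w = e := by
    refine ⟨∑ p ∈ s.attach, p.1.1 ⊗ₜ[A] (⟨(p.1.2 : L),
      Algebra.subset_adjoin (Finset.mem_image_of_mem _ p.2)⟩ : A₂), ?_⟩
    rw [← hz, map_sum, map_sum, ← Finset.sum_attach s]
    exact Finset.sum_congr rfl fun p _ => by simp [ι]
  have hw2 : IsIdempotentElem w :=
    lTensor_map_injective A₂.val Subtype.val_injective (by rw [map_mul, hw]; exact he)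
  let J := (maximalIdeal C).map (algebraMap C (C ⊗[A] A₂))
  have hJ : J ≤ Ideal.jacobson ⊥ :=
    map_le_jacobson_of_isIntegral (IsLocalRing.jacobson_eq_maximalIdeal ⊥ bot_ne_top).ge
  let incl : A₂ →ₐ[A] C ⊗[A] A₂ := Algebra.TensorProduct.includeRight
  have hJeq : J = ((maximalIdeal A).map (algebraMap A A₂)).map incl.toRingHom := by
    simp only [J, ← hmC, Ideal.map_map]
    congr 1
    exact RingHom.ext fun a => (incl.commutes a).symm
  obtain ⟨a, ha⟩ : ∃ a : A₂, w - incl a ∈ J := by
    clear hw hw2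
    induction w with
    | zero => exact ⟨0, by simp⟩
    | tmul c b =>
      obtain ⟨c₀, hc₀⟩ := hres c
      refine ⟨algebraMap A A₂ c₀ * b, ?_⟩
      have : c ⊗ₜ[A] b - incl (algebraMap A A₂ c₀ * b) =
          algebraMap C (C ⊗[A] A₂) (c - algebraMap A C c₀) * ((1 : C) ⊗ₜ[A] b) := by
        simp only [incl, Algebra.TensorProduct.includeRight_apply,
          Algebra.TensorProduct.algebraMap_apply, Algebra.TensorProduct.tmul_mul_tmul, mul_one,
          one_mul, sub_tmul, Algebra.algebraMap_self, RingHom.id_apply]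
        rw [← Algebra.smul_def, ← TensorProduct.smul_tmul, Algebra.smul_def, mul_one]
        simp [sub_mul]
      rw [this]
      exact Ideal.mul_mem_right _ _ (Ideal.mem_map_of_mem _ hc₀)
    | add w₁ w₂ h₁ h₂ =>
      obtain ⟨a, ha⟩ := h₁; obtain ⟨b, hb⟩ := h₂
      exact ⟨a + b, by rw [map_add, add_sub_add_comm]; exact add_mem ha hb⟩
  have hmax : (maximalIdeal A).map (algebraMap A A₂) ≤ maximalIdeal A₂ :=
    Ideal.map_le_iff_le_comap.mpr
      (eq_maximalIdeal (Ideal.isMaximal_comap_of_isIntegral_of_isMaximal (maximalIdeal A₂))).ge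
  have ha2 : a * a - a ∈ (maximalIdeal A).map (algebraMap A A₂) := by
    have h1 : incl (a * a - a) ∈ J := by
      have h3 := sub_mem (J.mul_mem_right (1 - w - incl a) ha) (J.zero_mem)
      have h4 : incl (a * a - a) = (w - incl a) * (1 - w - incl a) - 0 := by
        rw [map_sub, map_mul]; linear_combination (-1 : C ⊗[A] A₂) * hw2.eq * (-1)
      rw [h4]; exact h3
    rw [hJeq] at h1
    let _ : Algebra A₂ (C ⊗[A] A₂) := incl.toRingHom.toAlgebra
    have : IsScalarTower A A₂ (C ⊗[A] A₂) :=
      IsScalarTower.of_algebraMap_eq fun r => (incl.commutes r).symm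
    have : Module.FaithfullyFlat A C := Module.FaithfullyFlat.of_flat_of_isLocalHom
    have : Module.FaithfullyFlat A₂ (C ⊗[A] A₂) := by
      let e : A₂ ⊗[A] C ≃ₗ[A₂] C ⊗[A] A₂ :=
        { (Algebra.TensorProduct.comm A A₂ C).toAddEquiv with
          map_smul' := fun r z => by
            show Algebra.TensorProduct.comm A A₂ C (r • z) = r • Algebra.TensorProduct.comm A A₂ C z
            refine (congrArg (Algebra.TensorProduct.comm A A₂ C) (Algebra.smul_def r z)).trans ?_
            rw [map_mul]
            refine Eq.trans ?_ (Algebra.smul_def r _).symm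
            congr 1 }
      exact Module.FaithfullyFlat.of_linearEquiv _ _ e.symm
    rw [← Ideal.comap_map_eq_self_of_faithfullyFlat (B := C ⊗[A] A₂)
      ((maximalIdeal A).map (algebraMap A A₂))]
    exact h1
  have hma : ∀ b : A₂, IsUnit b → b * (a * a - a) ∈ (maximalIdeal A).map (algebraMap A A₂) :=
    fun b _ => Ideal.mul_mem_left _ _ ha2
  rcases IsLocalRing.isUnit_or_isUnit_one_sub_self a with ha1 | ha1
  · refine Or.inr ?_
    have h1 : 1 - a ∈ (maximalIdeal A).map (algebraMap A A₂) := by
      have := neg_mem (hma _ ha1.unit⁻¹.isUnit)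
      convert this using 1
      rw [mul_sub, ← mul_assoc, IsUnit.val_inv_mul, one_mul]
      ring
    have h2 : incl (1 - a) ∈ J := hJeq ▸ Ideal.mem_map_of_mem _ h1
    rw [← hw, idem_eq_of_sub_mem hJ hw2 IsIdempotentElem.one (by
      convert sub_mem ha h2 using 1; rw [map_sub, map_one]; ring), map_one]
  · refine Or.inl ?_
    have h1 : a ∈ (maximalIdeal A).map (algebraMap A A₂) := by
      have := neg_mem (hma _ ha1.unit⁻¹.isUnit)
      convert this using 1
      rw [show a * a - a = -((1 - a) * a) by ring, mul_neg, neg_neg, ← mul_assoc,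
        IsUnit.val_inv_mul, one_mul]
    have h2 : incl a ∈ J := hJeq ▸ Ideal.mem_map_of_mem _ h1
    rw [← hw, idem_eq_of_sub_mem hJ hw2 IsIdempotentElem.zero (by
      convert add_mem ha h2 using 1; ring), map_zero]

end Groth.Agent.Hensel20
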