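import Groth.Agent.Hensel20.SepFibreTensor
import Groth.Agent.CAlg5.NFinite
import Groth.Agent.S9397
import Groth.Agent.S9398

/-! Universal Japaneseness along faithfully flat maps with separable fibres. -/

set_option autoImplicit false

open TensorProduct

namespace Groth.Agent.Hensel20

universe u

variable {R S : Type u} [CommRing R] [CommRing S] [Algebra R S]

theorem isN1_of_ringEquiv {B B' : Type u} [CommRing B] [IsDomain B] [CommRing B'] [IsDomain B']
    (e : B ≃+* B') (h : CAlg.IsN1 B) : CAlg.IsN1 B' := by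
  let L := FractionRing B'
  let : Algebra B B' := e.toRingHom.toAlgebra
  have : FaithfulSMul B L := (faithfulSMul_iff_algebraMap_injective B L).2 fun a b hab => by
    rw [IsScalarTower.algebraMap_apply B B' L, IsScalarTower.algebraMap_apply B B' L] at hab
    exact e.injective (IsFractionRing.injective B' L hab)
  have : IsFractionRing B L := IsFractionRing.of_field B L fun z => by
    obtain ⟨a, b, -, rfl⟩ := IsFractionRing.div_surjective (A := B') z
    refine ⟨e.symm a, e.symm b, ?_⟩
    rw [IsScalarTower.algebraMap_apply B B' L, IsScalarTower.algebraMap_apply B B' L]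
    simp [RingHom.algebraMap_toAlgebra]
  have hfin := (CAlg5.isN1_iff B L).1 h
  rw [CAlg5.isN1_iff B' L]
  obtain ⟨T, h1, h2⟩ := (CAlg5.finite_integralClosure_iff B L).1 hfin
  refine (CAlg5.finite_integralClosure_iff B' L).2 ⟨T, fun t ht => (h1 t ht).tower_top, fun x hx => ?_⟩
  have : Algebra.IsIntegral B B' := ⟨fun b => by
    rw [← e.apply_symm_apply b]
    exact isIntegral_algebraMap⟩
  exact Submodule.span_le_restrictScalars B B' _ (h2 x (isIntegral_trans x hx))

theorem isN1_of_normal {B D L : Type u} [CommRing B] [IsDomain B] [CommRing D] [IsDomain D]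
    [IsIntegrallyClosed D] [Field L] [Algebra B L] [IsFractionRing B L] [Algebra B D]
    [Module.Finite B D] (j : D →ₐ[B] L) (hj : Function.Injective j) : CAlg.IsN1 B := by
  rw [CAlg5.isN1_iff B L]
  let : Algebra D L := j.toRingHom.toAlgebra
  have : IsScalarTower B D L := .of_algebraMap_eq fun b => (j.commutes b).symm
  have : FaithfulSMul D L := (faithfulSMul_iff_algebraMap_injective D L).2 hj
  have : IsFractionRing D L := IsFractionRing.of_field D L fun z => by
    obtain ⟨a, b, -, rfl⟩ := IsFractionRing.div_surjective (A := B) z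
    exact ⟨algebraMap B D a, algebraMap B D b, by
      rw [← IsScalarTower.algebraMap_apply, ← IsScalarTower.algebraMap_apply]⟩
  have hr : j.range = integralClosure B L := by
    refine le_antisymm ?_ fun z hz => ?_
    · rintro _ ⟨d, rfl⟩
      exact (Algebra.IsIntegral.isIntegral (R := B) d).map j
    · obtain ⟨d, hd⟩ := IsIntegrallyClosed.isIntegral_iff.1
        (hz.tower_top : IsIntegral D z)
      exact ⟨d, hd⟩
  rw [← hr]
  exact Module.Finite.of_surjective j.rangeRestrict.toLinearMap j.rangeRestrict_surjective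

theorem finite_map_tensor {A B₀ C : Type u} [CommRing A] [CommRing B₀] [CommRing C] [Algebra A B₀]
    [Algebra A C] [Algebra B₀ C] [IsScalarTower A B₀ C] [Module.Finite B₀ C]
    (T : Type u) [CommRing T] [Algebra A T] :
    (Algebra.TensorProduct.map (IsScalarTower.toAlgHom A B₀ C) (AlgHom.id A T)).toRingHom.Finite := by
  classical
  let f := Algebra.TensorProduct.map (IsScalarTower.toAlgHom A B₀ C) (AlgHom.id A T)
  let : Algebra (B₀ ⊗[A] T) (C ⊗[A] T) := f.toRingHom.toAlgebra
  obtain ⟨s, hs⟩ := (Module.Finite.fg_top : (⊤ : Submodule B₀ C).FG)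
  refine (Module.finite_def.mpr ⟨s.image fun c => c ⊗ₜ[A] (1 : T), eq_top_iff.2 ?_⟩ :
    Module.Finite (B₀ ⊗[A] T) (C ⊗[A] T))
  rintro z -
  induction z using TensorProduct.induction_on with
  | zero => exact zero_mem _
  | add a b ha hb => exact add_mem ha hb
  | tmul c t =>
    have hc : c ∈ Submodule.span B₀ (s : Set C) := hs ▸ Submodule.mem_top
    induction hc using Submodule.span_induction with
    | mem a ha =>
      have heq : a ⊗ₜ[A] t = ((1 : B₀) ⊗ₜ[A] t : B₀ ⊗[A] T) • (a ⊗ₜ[A] (1 : T)) := by
        show _ = f ((1 : B₀) ⊗ₜ[A] t) * _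
        simp [f]
      rw [heq]
      exact Submodule.smul_mem _ _ (Submodule.subset_span (Finset.mem_image_of_mem _ ha))
    | zero => rw [TensorProduct.zero_tmul]; exact zero_mem _
    | add a b _ _ ha hb => rw [TensorProduct.add_tmul]; exact add_mem ha hb
    | smul b a _ ha =>
      have heq : (b • a) ⊗ₜ[A] t = (b ⊗ₜ[A] (1 : T) : B₀ ⊗[A] T) • (a ⊗ₜ[A] t) := by
        show _ = f (b ⊗ₜ[A] (1 : T)) * _
        simp [f, Algebra.smul_def]
      rw [heq]
      exact Submodule.smul_mem _ _ ha

theorem exists_lift_tensor_fractionRing {A B₀ B K L : Type u} [CommRing A] [CommRing B₀]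
    [CommRing B] [IsDomain B] [Algebra A B₀] [Field K] [Algebra B₀ K] [Algebra A K]
    [IsScalarTower A B₀ K] [IsFractionRing B₀ K] [Field L] [Algebra B L] [IsFractionRing B L]
    (T : Type u) [CommRing T] [Algebra A T] (e : B₀ ⊗[A] T ≃+* B)
    (hinj : Function.Injective fun b : B₀ => b ⊗ₜ[A] (1 : T)) :
    ∃ k : K ⊗[A] T →+* L, Function.Injective k ∧ ∀ x,
      k (Algebra.TensorProduct.map (IsScalarTower.toAlgHom A B₀ K) (AlgHom.id A T) x) =
        algebraMap B L (e x) := by
  let f := Algebra.TensorProduct.map (IsScalarTower.toAlgHom A B₀ K) (AlgHom.id A T)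
  let : Algebra (B₀ ⊗[A] T) (K ⊗[A] T) := f.toRingHom.toAlgebra
  have : IsScalarTower B₀ (B₀ ⊗[A] T) (K ⊗[A] T) := .of_algebraMap_eq fun b => by
    show algebraMap B₀ K b ⊗ₜ[A] (1 : T) = f (b ⊗ₜ[A] (1 : T))
    simp [f]
  let N := Algebra.algebraMapSubmonoid (B₀ ⊗[A] T) (nonZeroDivisors B₀)
  have hloc : IsLocalization N (K ⊗[A] T) :=
    IsLocalization.tensorProduct_tensorProduct A T (nonZeroDivisors B₀) K (by
      ext t
      show f ((1 : B₀) ⊗ₜ[A] t) = 1 ⊗ₜ t
      simp [f])
  have : Nontrivial B₀ := IsFractionRing.nontrivial_iff_nontrivial B₀ K |>.2 inferInstance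
  have hne : ∀ n : N, algebraMap B L (e (n : B₀ ⊗[A] T)) ≠ 0 := by
    rintro ⟨_, b, hb, rfl⟩ h0
    refine nonZeroDivisors.ne_zero hb (hinj ?_)
    have h1 := e.injective ((IsFractionRing.injective B L (h0.trans (map_zero _).symm)).trans
      (map_zero e).symm)
    exact h1.trans (TensorProduct.zero_tmul B₀ (1 : T)).symm
  let θ : B₀ ⊗[A] T →+* L := (algebraMap B L).comp e.toRingHom
  have hθ : Function.Injective θ := (IsFractionRing.injective B L).comp e.injective
  refine ⟨IsLocalization.lift (M := N) (g := θ) (S := K ⊗[A] T) fun n =>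
    isUnit_iff_ne_zero.2 (hne n), ?_, fun x => ?_⟩
  · rw [IsLocalization.lift_injective_iff]
    intro x y
    refine ⟨fun h => ?_, fun h => by rw [hθ h]⟩
    obtain ⟨c, hc⟩ := (IsLocalization.eq_iff_exists N (K ⊗[A] T)).1 h
    have h2 := congrArg θ hc
    rw [map_mul, map_mul] at h2
    exact mul_left_cancel₀ (hne c) h2
  · exact IsLocalization.lift_eq _ x

theorem isN1_tensor [IsNoetherianRing S] {A B₀ B : Type u} [CommRing A] [Algebra R A]
    [Algebra A S] [IsScalarTower R A S] [Module.Flat A S] [IsNoetherianRing A]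
    [CommRing B₀] [IsDomain B₀] [Algebra A B₀] [Algebra.FiniteType A B₀] [CommRing B] [IsDomain B]
    (hF : HasSeparableFibres R S) (h : CAlg.IsN1 B₀) (e : B₀ ⊗[A] S ≃+* B)
    (hinj : Function.Injective fun b : B₀ => b ⊗ₜ[A] (1 : S)) : CAlg.IsN1 B := by
  let K := FractionRing B₀
  let C := integralClosure B₀ K
  have : Module.Finite B₀ C := h
  have : IsNoetherianRing B₀ := Algebra.FiniteType.isNoetherianRing A B₀
  have : IsNoetherianRing C := IsNoetherianRing.of_finite B₀ C
  have : IsIntegrallyClosed C := integralClosure.isIntegrallyClosedOfFiniteExtension K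
  have : Algebra.FiniteType A C :=
    Algebra.FiniteType.trans (S := B₀) inferInstance inferInstance
  let D := C ⊗[A] S
  have : IsNoetherianRing D :=
    have : IsNoetherianRing (S ⊗[A] C) := Algebra.FiniteType.isNoetherianRing S _
    isNoetherianRing_of_ringEquiv _ (Algebra.TensorProduct.comm A S C).toRingEquiv
  have hN : EGA4.IsNormalRing D :=
    isNormalRing_tensor hF (EGA4H10.normal_of_domain C)
  obtain ⟨k, hk, hke⟩ :=
    exists_lift_tensor_fractionRing (K := K) (L := FractionRing B) S e hinj
  let ψ : D →ₐ[A] K ⊗[A] S :=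
    Algebra.TensorProduct.map (IsScalarTower.toAlgHom A C K) (AlgHom.id A S)
  have hψ : Function.Injective ψ :=
    Module.Flat.rTensor_preserves_injective_linearMap (M := S)
      (IsScalarTower.toAlgHom A C K).toLinearMap Subtype.val_injective
  let j₀ : D →+* FractionRing B := k.comp ψ.toRingHom
  have hj₀ : Function.Injective j₀ := hk.comp hψ
  have : IsDomain D := hj₀.isDomain j₀
  have : IsIntegrallyClosed D := IsIntegrallyClosed.of_localization_maximal fun q _ _ => (hN q).2
  let toD : B₀ ⊗[A] S →ₐ[A] D :=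
    Algebra.TensorProduct.map (IsScalarTower.toAlgHom A B₀ C) (AlgHom.id A S)
  let : Algebra B D := (toD.toRingHom.comp e.symm.toRingHom).toAlgebra
  have hfin1 : @RingHom.Finite (B₀ ⊗[A] S) D _ _ toD.toRingHom := finite_map_tensor (A := A) (B₀ := B₀) (C := C) S
  have hfin2 : e.symm.toRingHom.Finite :=
    RingHom.Finite.of_surjective e.symm.toRingHom e.symm.surjective
  have hfin : @RingHom.Finite B D _ _ (toD.toRingHom.comp e.symm.toRingHom) := hfin1.comp hfin2
  have : Module.Finite B D := hfin
  have hcomm : ∀ b : B, j₀ (algebraMap B D b) = algebraMap B (FractionRing B) b := fun b => by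
    obtain ⟨x, rfl⟩ := e.surjective b
    rw [← hke x, RingHom.algebraMap_toAlgebra]
    show k (ψ (toD (e.symm (e x)))) = _
    rw [e.symm_apply_apply]
    congr 1
    show (ψ.comp toD) x = _
    congr 1
    apply Algebra.TensorProduct.ext'
    intro a t
    show algebraMap C K (algebraMap B₀ C a) ⊗ₜ[A] t = algebraMap B₀ K a ⊗ₜ[A] t
    rw [← IsScalarTower.algebraMap_apply]
  let j : D →ₐ[B] FractionRing B := { j₀ with commutes' := hcomm }
  exact isN1_of_normal (D := D) (L := FractionRing B) j (fun a b hab => hj₀ hab)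

end Groth.Agent.Hensel20
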