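import Groth.Agent.Hensel20.Japanese

/-! Universal Japaneseness descends along faithfully flat maps with separable fibres. -/

set_option autoImplicit false

open TensorProduct

namespace Groth.Agent.Hensel20

universe u

variable {R S : Type u} [CommRing R] [CommRing S] [Algebra R S]

theorem finite_integralClosure_quotient {B' F : Type u} [CommRing B'] [Field F] [Algebra B' F]
    [Algebra S B'] [Algebra.FiniteType S B'] (hJ : CAlg.IsUniversallyJapanese S)
    (hfrac : ∀ z : F, ∃ a b : B', algebraMap B' F b ≠ 0 ∧ z * algebraMap B' F b = algebraMap B' F a) :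
    Module.Finite B' (integralClosure B' F) := by
  let k := RingHom.ker (algebraMap B' F)
  have hk : k.IsPrime := RingHom.ker_isPrime _
  have : IsDomain (B' ⧸ k) := Ideal.Quotient.isDomain k
  let : Algebra (B' ⧸ k) F := (RingHom.kerLift (algebraMap B' F)).toAlgebra
  have : IsScalarTower B' (B' ⧸ k) F := .of_algebraMap_eq fun _ => rfl
  have : FaithfulSMul (B' ⧸ k) F :=
    (faithfulSMul_iff_algebraMap_injective (B' ⧸ k) F).2 (RingHom.kerLift_injective _)
  have : IsFractionRing (B' ⧸ k) F := IsFractionRing.of_field _ F fun z => by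
    obtain ⟨a, b, hb, hz⟩ := hfrac z
    exact ⟨Ideal.Quotient.mk k a, Ideal.Quotient.mk k b, (eq_div_iff hb).2 hz⟩
  have hft : Algebra.FiniteType S (B' ⧸ k) :=
    Algebra.FiniteType.of_surjective (Ideal.Quotient.mkₐ S k) Ideal.Quotient.mk_surjective
  have hfin : Module.Finite (B' ⧸ k) (integralClosure (B' ⧸ k) F) :=
    CAlg5.IsN2.finite (hJ _ hft) F F
  obtain ⟨T, h1, h2⟩ := (CAlg5.finite_integralClosure_iff (B' ⧸ k) F).1 hfin
  refine (CAlg5.finite_integralClosure_iff B' F).2
    ⟨T, fun t ht => isIntegral_trans (A := B' ⧸ k) t (h1 t ht), fun x hx => ?_⟩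
  have hx' := h2 x hx.tower_top
  clear hx
  induction hx' using Submodule.span_induction with
  | mem a ha => exact Submodule.subset_span ha
  | zero => exact zero_mem _
  | add a b _ _ ha hb => exact add_mem ha hb
  | smul c a _ ha =>
    obtain ⟨c, rfl⟩ := Ideal.Quotient.mk_surjective c
    rw [show Ideal.Quotient.mk k c • a = c • a from algebraMap_smul (B' ⧸ k) c a]
    exact Submodule.smul_mem _ _ ha

theorem isUniversallyJapanese_of_top [IsNoetherianRing R] [IsNoetherianRing S]
    [Module.FaithfullyFlat R S] (hF : HasSeparableFibres R S)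
    (h : CAlg.IsUniversallyJapanese S) : CAlg.IsUniversallyJapanese R := by
  classical
  refine Groth.Agent.S9397.result R fun B _ _ _ hB => ?_
  let K := FractionRing B
  have : Algebra.EssFiniteType R K := Algebra.EssFiniteType.comp R B K
  let E := S ⊗[R] K
  let B' := S ⊗[R] B
  let φ : B' →ₐ[S] E :=
    Algebra.TensorProduct.map (AlgHom.id S S) (IsScalarTower.toAlgHom R B K)
  let : Algebra B' E := φ.toRingHom.toAlgebra
  have hφ : ∀ (t : S) (b : B), φ (t ⊗ₜ b) = t ⊗ₜ[R] algebraMap B K b := fun _ _ => rfl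
  have hvnr : ∀ x : E, ∃ y, x = y * x ^ 2 := fun x => by
    obtain ⟨y, hy⟩ := vnr_tensor_field hF K (Algebra.TensorProduct.comm R S K x)
    refine ⟨(Algebra.TensorProduct.comm R S K).symm y,
      (Algebra.TensorProduct.comm R S K).injective ?_⟩
    rw [map_mul, map_pow, AlgEquiv.apply_symm_apply]
    exact hy
  have : IsNoetherianRing E := Algebra.EssFiniteType.isNoetherianRing S E
  have : IsReduced E := ⟨fun x ⟨n, hn⟩ => by
    obtain ⟨y, hy⟩ := hvnr x
    have : ∀ m : ℕ, x = y ^ m * x ^ (m + 1) := by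
      intro m
      induction m with
      | zero => simp
      | succ m ih =>
        calc x = y ^ m * x ^ (m + 1) := ih
          _ = y ^ m * x ^ m * x := by ring
          _ = y ^ m * x ^ m * (y * x ^ 2) := by rw [← hy]
          _ = y ^ (m + 1) * x ^ (m + 1 + 1) := by ring
    rw [this n, pow_succ, hn, zero_mul, mul_zero]⟩
  have : Ring.KrullDimLE 0 E := Ring.KrullDimLE.mk₀ fun P hP => by
    refine Ideal.isMaximal_iff.2 ⟨fun h1 => hP.ne_top ((Ideal.eq_top_iff_one P).2 h1),
      fun J x hPJ hxP hxJ => ?_⟩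
    obtain ⟨y, hy⟩ := hvnr x
    have h0 : x * (1 - y * x) = 0 := by linear_combination hy
    have h1 : 1 - y * x ∈ P := (hP.mem_or_mem (h0 ▸ P.zero_mem)).resolve_left hxP
    have := J.add_mem (hPJ h1) (J.mul_mem_left y hxJ)
    rwa [sub_add_cancel] at this
  have : IsArtinianRing E := isArtinianRing_iff_krullDimLE_zero.2 inferInstance
  have hnum : ∀ z : E, ∃ (b : B) (a : B'), b ≠ 0 ∧ z * φ (1 ⊗ₜ b) = φ a := fun z => by
    induction z using TensorProduct.induction_on with
    | zero => exact ⟨1, 0, one_ne_zero, by rw [zero_mul, map_zero]⟩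
    | add x y hx hy =>
      obtain ⟨b, a, hb, hx⟩ := hx
      obtain ⟨b', a', hb', hy⟩ := hy
      refine ⟨b * b', a * (1 ⊗ₜ b') + a' * (1 ⊗ₜ b), mul_ne_zero hb hb', ?_⟩
      have h1 : (1 : S) ⊗ₜ[R] (b * b') = ((1 : S) ⊗ₜ[R] b) * ((1 : S) ⊗ₜ[R] b') := by simp
      rw [h1, map_mul, map_add, map_mul, map_mul, ← hx, ← hy]
      ring
    | tmul s k =>
      obtain ⟨a, b, hb, rfl⟩ := IsFractionRing.div_surjective (A := B) k
      refine ⟨b, s ⊗ₜ a, nonZeroDivisors.ne_zero hb, ?_⟩
      have hb' : algebraMap B K b ≠ 0 :=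
        (map_ne_zero_iff _ (IsFractionRing.injective B K)).2 (nonZeroDivisors.ne_zero hb)
      show (s ⊗ₜ[R] (algebraMap B K a / algebraMap B K b) : E) * ((1 : S) ⊗ₜ[R] algebraMap B K b) =
        s ⊗ₜ[R] algebraMap B K a
      rw [Algebra.TensorProduct.tmul_mul_tmul, mul_one, div_mul_cancel₀ _ hb']
  have : Algebra.FiniteType S B' := inferInstance
  have : IsNoetherianRing B' := Algebra.FiniteType.isNoetherianRing S B'
  have hM : ∀ M : MaximalSpectrum E, Module.Finite B' (integralClosure B' (E ⧸ M.asIdeal)) := by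
    intro M
    let : Field (E ⧸ M.asIdeal) := Ideal.Quotient.field M.asIdeal
    refine finite_integralClosure_quotient h fun z => ?_
    obtain ⟨z, rfl⟩ := Ideal.Quotient.mk_surjective z
    obtain ⟨b, a, hb, hz⟩ := hnum z
    refine ⟨a, 1 ⊗ₜ b, ?_, ?_⟩
    · have hu : IsUnit (φ (1 ⊗ₜ b)) := by
        have hb' : IsUnit (algebraMap B K b) :=
          isUnit_iff_ne_zero.2 ((map_ne_zero_iff _ (IsFractionRing.injective B K)).2 hb)
        show IsUnit ((1 : S) ⊗ₜ[R] algebraMap B K b : E)
        exact hb'.map (Algebra.TensorProduct.includeRight : K →ₐ[R] E)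
      exact (hu.map (Ideal.Quotient.mk M.asIdeal)).ne_zero
    · show Ideal.Quotient.mk _ z * Ideal.Quotient.mk _ (φ (1 ⊗ₜ b)) = Ideal.Quotient.mk _ (φ a)
      rw [← map_mul, hz]
  let W := integralClosure B' E
  let Ψ : W →ₗ[B'] ∀ M : MaximalSpectrum E, integralClosure B' (E ⧸ M.asIdeal) :=
    LinearMap.pi fun M =>
      { toFun := fun w => ⟨Ideal.Quotient.mk M.asIdeal w.1,
          w.2.map (Ideal.Quotient.mkₐ B' M.asIdeal)⟩
        map_add' := fun _ _ => rfl
        map_smul' := fun _ _ => rfl }
  have hΨ : Function.Injective Ψ := by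
    intro v w hvw
    refine Subtype.ext ((IsArtinianRing.equivPi E).injective (funext fun M => ?_))
    exact congrArg Subtype.val (congrFun hvw M)
  have hN' : ∀ M : MaximalSpectrum E, IsNoetherian B' (integralClosure B' (E ⧸ M.asIdeal)) :=
    fun M => have := hM M; inferInstance
  have : IsNoetherian B' (∀ M : MaximalSpectrum E, integralClosure B' (E ⧸ M.asIdeal)) :=
    inferInstance
  have : IsNoetherian B' W := isNoetherian_of_injective Ψ hΨ
  let C := integralClosure B K
  let ι : C → W := fun c => ⟨(1 : S) ⊗ₜ[R] (c : K), by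
    obtain ⟨p, hp, hp0⟩ := c.2
    refine ⟨p.map (Algebra.TensorProduct.includeRight : B →ₐ[R] B').toRingHom, hp.map _, ?_⟩
    rw [Polynomial.eval₂_map]
    have h2 : (algebraMap B' E).comp (Algebra.TensorProduct.includeRight : B →ₐ[R] B').toRingHom =
        (Algebra.TensorProduct.includeRight : K →ₐ[R] E).toRingHom.comp (algebraMap B K) := by
      ext b
      exact Algebra.TensorProduct.map_tmul _ _ _ _
    rw [h2]
    show Polynomial.eval₂ _ ((Algebra.TensorProduct.includeRight : K →ₐ[R] E).toRingHom (c : K)) p = 0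
    rw [← Polynomial.hom_eval₂, hp0, map_zero]⟩
  obtain ⟨T, hTsub, hT⟩ := Submodule.fg_span_iff_fg_span_finset_subset (R := B') (Set.range ι) |>.1
    (IsNoetherian.noetherian _)
  choose c hc using fun t : T => hTsub t.2
  let N : Submodule B C := Submodule.span B (Set.range c)
  let : AddCommGroup N := N.addCommGroup
  let f : N →ₗ[R] C := N.subtype.restrictScalars R
  have hsurj : Function.Surjective (f.lTensor S) := by
    let g : S ⊗[R] C →ₗ[R] E := LinearMap.lTensor S (C.val.toLinearMap.restrictScalars R)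
    have hg : Function.Injective g :=
      Module.Flat.lTensor_preserves_injective_linearMap _ Subtype.val_injective
    let V : Submodule B' E :=
      { carrier := Set.range (g ∘ₗ f.lTensor S)
        add_mem' := by rintro _ _ ⟨x, rfl⟩ ⟨y, rfl⟩; exact ⟨x + y, map_add _ _ _⟩
        zero_mem' := ⟨0, map_zero _⟩
        smul_mem' := by
          rintro b' _ ⟨x, rfl⟩
          induction x using TensorProduct.induction_on with
          | zero => exact ⟨0, by rw [map_zero, smul_zero]⟩
          | add x y hx hy =>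
            obtain ⟨x', hx'⟩ := hx
            obtain ⟨y', hy'⟩ := hy
            exact ⟨x' + y', by rw [map_add, map_add, hx', hy', smul_add]⟩
          | tmul s n =>
            induction b' using TensorProduct.induction_on with
            | zero => exact ⟨0, (map_zero _).trans (zero_smul B' (_ : E)).symm⟩
            | add x y hx hy =>
              obtain ⟨x', hx'⟩ := hx
              obtain ⟨y', hy'⟩ := hy
              exact ⟨x' + y', by rw [map_add, hx', hy', add_smul]⟩
            | tmul t b =>
              refine ⟨(t * s) ⊗ₜ (b • n), ?_⟩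
              show (t * s) ⊗ₜ[R] ((b • (n : C) : C) : K) =
                φ (t ⊗ₜ b) * (s ⊗ₜ[R] ((n : C) : K))
              rw [hφ, Algebra.TensorProduct.tmul_mul_tmul, Algebra.smul_def]
              rfl }
    have hV : ∀ w ∈ Submodule.span B' (Set.range ι), (w : E) ∈ V := by
      intro w hw
      rw [hT] at hw
      induction hw using Submodule.span_induction with
      | mem t ht =>
        refine ⟨(1 : S) ⊗ₜ ⟨c ⟨t, ht⟩, Submodule.subset_span ⟨⟨t, ht⟩, rfl⟩⟩, ?_⟩
        show (1 : S) ⊗ₜ[R] ((c ⟨t, ht⟩ : C) : K) = (t : E)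
        exact congrArg Subtype.val (hc ⟨t, ht⟩)
      | zero => exact V.zero_mem
      | add x y _ _ hx hy => exact V.add_mem hx hy
      | smul a x _ hx => exact V.smul_mem a hx
    intro z
    induction z using TensorProduct.induction_on with
    | zero => exact ⟨0, map_zero _⟩
    | add x y hx hy =>
      obtain ⟨x', rfl⟩ := hx
      obtain ⟨y', rfl⟩ := hy
      exact ⟨x' + y', map_add _ _ _⟩
    | tmul s y =>
      obtain ⟨x, hx⟩ := V.smul_mem (s ⊗ₜ[R] (1 : B) : B')
        (hV (ι y) (Submodule.subset_span ⟨y, rfl⟩))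
      refine ⟨x, hg (hx.trans ?_)⟩
      show φ (s ⊗ₜ[R] (1 : B)) * ((1 : S) ⊗ₜ[R] (y : K)) = s ⊗ₜ[R] (y : K)
      rw [hφ, map_one, Algebra.TensorProduct.tmul_mul_tmul, mul_one, one_mul]
  have hfs : Function.Surjective f :=
    by
    have h0 := @Module.FaithfullyFlat.lTensor_surjective_iff_surjective R S _ _ _ (N : Type u)
      (C : Type u) N.addCommGroup C.toSubring.toCommRing.toAddCommGroup _ _ f inferInstance
    exact h0.1 hsurj
  have hN : N = ⊤ := eq_top_iff.2 fun x _ => by
    obtain ⟨n, rfl⟩ := hfs x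
    exact n.2
  show Module.Finite B C
  exact Module.finite_def.mpr (hN ▸ Submodule.fg_span (Set.finite_range c))

end Groth.Agent.Hensel20
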