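import Groth.Agent.Hensel20.JapaneseDescent
import Groth.Agent.Hensel20.StageFibre
import Groth.Agent.Hensel20.Stages
import Groth.Agent.Hensel20.HenzBasic

/-! Henselization and universally Japanese rings. -/

set_option autoImplicit false

open IsLocalRing TensorProduct

namespace Groth.Agent.Hensel20

universe u

theorem isN1_top_of_model {R S A : Type u} [CommRing R] [CommRing S] [Algebra R S]
    [IsNoetherianRing S] [CommRing A] [Algebra R A] [Algebra A S] [IsScalarTower R A S]
    [Module.Flat A S] [IsNoetherianRing A] (hA : CAlg.IsUniversallyJapanese A)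
    (hF : HasSeparableFibres R S) {B : Type u} [CommRing B] [IsDomain B] [Algebra S B] {n : ℕ}
    (f : MvPolynomial (Fin n) S →ₐ[S] B) (hf : Function.Surjective f)
    (G : Finset (MvPolynomial (Fin n) S)) (hG : Ideal.span (G : Set (MvPolynomial (Fin n) S)) = RingHom.ker f)
    (hmodel : ∀ g ∈ G, g ∈ Set.range (MvPolynomial.map (algebraMap A S))) : CAlg.IsN1 B := by
  let : Algebra A B := ((algebraMap S B).comp (algebraMap A S)).toAlgebra
  have : IsScalarTower A S B := .of_algebraMap_eq fun _ => rfl
  let g : MvPolynomial (Fin n) A →ₐ[A] B := MvPolynomial.aeval fun j => f (MvPolynomial.X j)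
  have hg : ∀ q, g q = f (MvPolynomial.map (algebraMap A S) q) := fun q => by
    induction q using MvPolynomial.induction_on with
    | C a =>
      simp only [g, MvPolynomial.aeval_C, MvPolynomial.map_C]
      rw [← MvPolynomial.algebraMap_eq, AlgHom.commutes]
      rfl
    | add p q hp hq => simp only [map_add, hp, hq]
    | mul_X p j hp =>
      rw [map_mul g, hp]
      simp [g]
  let Q := RingHom.ker g
  have hQ : Q.IsPrime := RingHom.ker_isPrime _
  let B₀ := MvPolynomial (Fin n) A ⧸ Q
  have : IsDomain B₀ := Ideal.Quotient.isDomain Q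
  have hft : Algebra.FiniteType A B₀ :=
    Algebra.FiniteType.of_surjective (Ideal.Quotient.mkₐ A Q) Ideal.Quotient.mk_surjective
  have hN1 : CAlg.IsN1 B₀ :=
    (CAlg5.isN1_iff B₀ (FractionRing B₀)).2
      (CAlg5.IsN2.finite (hA B₀ hft) (FractionRing B₀) (FractionRing B₀))
  let kL : B₀ →ₐ[A] B := Ideal.kerLiftAlg g
  let μ : B₀ ⊗[A] S →ₐ[A] B :=
    Algebra.TensorProduct.lift kL (IsScalarTower.toAlgHom A S B) (fun _ _ => Commute.all _ _)
  let θ : MvPolynomial (Fin n) S →+* B₀ ⊗[A] S :=
    MvPolynomial.eval₂Hom (Algebra.TensorProduct.includeRight : S →ₐ[A] B₀ ⊗[A] S).toRingHom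
      fun j => Ideal.Quotient.mk Q (MvPolynomial.X j) ⊗ₜ[A] (1 : S)
  have hθmap : ∀ q, θ (MvPolynomial.map (algebraMap A S) q) = Ideal.Quotient.mk Q q ⊗ₜ 1 := fun q => by
    induction q using MvPolynomial.induction_on with
    | C a =>
      rw [MvPolynomial.map_C]
      simp only [θ, MvPolynomial.eval₂Hom_C]
      show (1 : B₀) ⊗ₜ[A] algebraMap A S a = algebraMap A B₀ a ⊗ₜ[A] (1 : S)
      rw [Algebra.algebraMap_eq_smul_one, Algebra.algebraMap_eq_smul_one, TensorProduct.smul_tmul]
    | add p q hp hq => simp only [map_add, hp, hq, TensorProduct.add_tmul]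
    | mul_X p j hp =>
      rw [map_mul, MvPolynomial.map_X, map_mul θ, hp, map_mul (Ideal.Quotient.mk Q)]
      simp [θ]
  have hθsurj : Function.Surjective θ := fun z => by
    induction z using TensorProduct.induction_on with
    | zero => exact ⟨0, map_zero _⟩
    | add x y hx hy =>
      obtain ⟨x', rfl⟩ := hx
      obtain ⟨y', rfl⟩ := hy
      exact ⟨x' + y', map_add _ _ _⟩
    | tmul b s =>
      obtain ⟨q, rfl⟩ := Ideal.Quotient.mk_surjective b
      refine ⟨MvPolynomial.map (algebraMap A S) q * MvPolynomial.C s, ?_⟩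
      rw [map_mul, hθmap]
      simp [θ]
  have hker : RingHom.ker f ≤ RingHom.ker θ := by
    rw [← hG, Ideal.span_le]
    intro p hp
    obtain ⟨q, rfl⟩ := hmodel p hp
    have h0 : f (MvPolynomial.map (algebraMap A S) q) = 0 := by
      have : MvPolynomial.map (algebraMap A S) q ∈ RingHom.ker f := hG ▸ Ideal.subset_span hp
      exact this
    have h1 : Ideal.Quotient.mk Q q = 0 :=
      Ideal.Quotient.eq_zero_iff_mem.2 ((hg q).trans h0)
    show θ _ = 0
    rw [hθmap, h1, TensorProduct.zero_tmul]
  have hμθ : ∀ p, μ (θ p) = f p := fun p => by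
    induction p using MvPolynomial.induction_on with
    | C s =>
      simp only [θ, MvPolynomial.eval₂Hom_C]
      rw [← MvPolynomial.algebraMap_eq, AlgHom.commutes]
      simp [μ]
    | add p q hp hq => simp only [map_add, hp, hq]
    | mul_X p j hp =>
      rw [map_mul θ, map_mul μ, hp, map_mul f]
      congr 1
      simp only [θ, MvPolynomial.eval₂Hom_X', μ, Algebra.TensorProduct.lift_tmul, map_one, mul_one]
      show g (MvPolynomial.X j) = _
      simp [g]
  have hμsurj : Function.Surjective μ := fun b => by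
    obtain ⟨p, rfl⟩ := hf b
    exact ⟨θ p, hμθ p⟩
  have hμinj : Function.Injective μ := (injective_iff_map_eq_zero μ).2 fun z hz => by
    obtain ⟨p, rfl⟩ := hθsurj z
    exact hker ((hμθ p).symm.trans hz)
  have hinj : Function.Injective fun b : B₀ => b ⊗ₜ[A] (1 : S) := fun a b hab => by
    have := congrArg μ hab
    simp only [μ, Algebra.TensorProduct.lift_tmul, map_one, mul_one] at this
    exact RingHom.kerLift_injective g.toRingHom this
  exact isN1_tensor (R := R) hF hN1 (RingEquiv.ofBijective μ ⟨hμinj, hμsurj⟩) hinj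

theorem henselization_isUniversallyJapanese_iff (R : Type u) [CommRing R] [IsLocalRing R]
    [IsNoetherianRing R] (S : Type u) [CommRing S] [IsLocalRing S] [Algebra R S]
    [IsLocalHom (algebraMap R S)] [Hensel.IsHenselization R S] :
    CAlg.IsUniversallyJapanese S ↔ CAlg.IsUniversallyJapanese R := by
  classical
  have hF : HasSeparableFibres R S := fun p _ =>
    exists_fields_fibre p (Henz21.henselizationEquiv (R := R) S)
  have : Module.FaithfullyFlat R S := Henz21.henselization_faithfullyFlat (R := R) S
  have : IsNoetherianRing S :=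
    (isNoetherianRing_iff_of_equiv (Henz21.henselizationEquiv (R := R) S)).1 inferInstance
  refine ⟨isUniversallyJapanese_of_top hF, fun hR => Groth.Agent.S9397.result S fun B _ _ _ hB => ?_⟩
  obtain ⟨n, f, hf⟩ := Algebra.FiniteType.iff_quotient_mvPolynomial''.1 hB
  obtain ⟨G, hG⟩ := IsNoetherian.noetherian (RingHom.ker f)
  let e := Henz21.henselizationEquiv (R := R) S
  let coeffs : Finset S := G.biUnion fun g => g.coeffs
  obtain ⟨i, hi⟩ := exists_stage coeffs e.symm
  let A := Stage i
  let σ : A →ₐ[R] S := e.toAlgHom.comp (stageHom i)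
  let : Algebra A S := σ.toRingHom.toAlgebra
  have : IsScalarTower R A S := .of_algebraMap_eq fun r => (σ.commutes r).symm
  have : Module.Flat A S := Module.Flat.of_linearEquiv
    (AlgEquiv.ofRingEquiv (f := e.toRingEquiv) (R := A) fun _ => rfl).symm.toLinearEquiv
  have : IsNoetherianRing A := stage_noetherian i
  have hA : CAlg.IsUniversallyJapanese A := Groth.Agent.S9398.result R hR A
  refine isN1_top_of_model (R := R) (A := A) hA hF f hf G hG fun g hg => ?_
  rw [MvPolynomial.mem_range_map_iff_coeffs_subset]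
  intro c hc
  obtain ⟨a, ha⟩ := hi c (Finset.mem_biUnion.2 ⟨g, hg, hc⟩)
  exact ⟨a, (congrArg e ha).trans (e.apply_symm_apply c)⟩

end Groth.Agent.Hensel20
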