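import Groth.Agent.Hensel20.LocalFinite

/-! Decompositions of quasi-finite and unramified algebras. -/

set_option autoImplicit false

open IsLocalRing

namespace Groth.Agent.Hensel20

universe u v

variable {R : Type u} [CommRing R] [IsLocalRing R]

omit [IsLocalRing R] in
theorem finite_quotient_of_fg {S : Type v} [CommRing S] [Algebra R S] (e : S)
    (hfg : (LinearMap.range (LinearMap.mulRight R e)).FG) :
    Module.Finite R (S ⧸ Ideal.span ({1 - e} : Set S)) := by
  have : Module.Finite R (LinearMap.range (LinearMap.mulRight R e)) := Module.Finite.iff_fg.mpr hfg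
  refine Module.Finite.of_surjective
    ((Ideal.Quotient.mkₐ R (Ideal.span {1 - e})).toLinearMap.comp
      (LinearMap.range (LinearMap.mulRight R e)).subtype) fun x => ?_
  obtain ⟨x, rfl⟩ := Ideal.Quotient.mk_surjective x
  refine ⟨⟨x * e, x, rfl⟩, ?_⟩
  change Ideal.Quotient.mk _ (x * e) = Ideal.Quotient.mk _ x
  rw [Ideal.Quotient.mk_eq_mk_iff_sub_mem, Ideal.mem_span_singleton']
  exact ⟨-x, by ring⟩

theorem quasiFiniteAt_comap_of_idempotent {S : Type v} [CommRing S] [Algebra R S]
    [Algebra.FiniteType R S] (e : S) (he : IsIdempotentElem e)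
    (q : Ideal (S ⧸ Ideal.span ({e} : Set S))) [q.IsPrime] [q.LiesOver (maximalIdeal R)]
    [Algebra.QuasiFiniteAt R q] :
    (q.comap (Ideal.Quotient.mk (Ideal.span ({e} : Set S)))).LiesOver (maximalIdeal R) ∧
      Algebra.QuasiFiniteAt R (q.comap (Ideal.Quotient.mk (Ideal.span ({e} : Set S)))) := by
  set π := Ideal.Quotient.mk (Ideal.span ({e} : Set S))
  have hP : (q.comap π).LiesOver (maximalIdeal R) := by
    rw [liesOver_maximalIdeal_iff, ← Ideal.map_le_iff_le_comap, Ideal.map_map]
    exact liesOver_maximalIdeal_iff.mp inferInstance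
  have heq : 1 - e ∉ q.comap π := by
    rw [Ideal.mem_comap, map_sub, map_one,
      Ideal.Quotient.eq_zero_iff_mem.mpr (Ideal.mem_span_singleton_self e), sub_zero]
    exact Ideal.IsPrime.one_notMem inferInstance
  obtain ⟨-, t, ht, hsep⟩ := exists_separating (R := R) q
  obtain ⟨t, rfl⟩ := Ideal.Quotient.mk_surjective t
  refine ⟨hP, quasiFiniteAt_of_separated _ hP (s := t * (1 - e))
    (fun h => (Ideal.IsPrime.mem_or_mem inferInstance h).elim ht heq) fun P hPp hPm hne => ?_⟩
  by_cases hePP : 1 - e ∈ P
  · exact P.mul_mem_left _ hePP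
  have heP : e ∈ P := (hPp.mem_or_mem (show e * (1 - e) ∈ P by
    rw [mul_sub, mul_one, he.eq, sub_self]; exact zero_mem _)).resolve_right hePP
  have hle : Ideal.span {e} ≤ P := by simpa [Ideal.span_le] using heP
  have hker : RingHom.ker π ≤ P := by simpa [π] using hle
  have hcm : (P.map π).comap π = P := by
    rw [Ideal.comap_map_of_surjective _ Ideal.Quotient.mk_surjective, ← RingHom.ker_eq_comap_bot,
      sup_eq_left.mpr hker]
  have hprime : (P.map π).IsPrime :=
    Ideal.map_isPrime_of_surjective Ideal.Quotient.mk_surjective hker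
  have := hsep (P.map π) hprime
    ((liesOver_maximalIdeal_iff (R := R) (q := P.map π)).mpr (by
        rw [show algebraMap R (S ⧸ Ideal.span ({e} : Set S)) = π.comp (algebraMap R S) from rfl,
          ← Ideal.map_map]
        exact Ideal.map_mono (liesOver_maximalIdeal_iff.mp hPm)))
    (fun h => hne (by rw [← h, hcm]))
  rw [← Ideal.mem_comap, hcm] at this
  exact P.mul_mem_right _ this

/-- A finite unramified local algebra with trivial residue extension is a quotient of the base. -/
theorem algebraMap_surjective_of_unramified [IsSepClosed (ResidueField R)] (A : Type v) [CommRing A]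
    [Algebra R A] [Module.Finite R A] [Algebra.FormallyUnramified R A] [IsLocalRing A] :
    Function.Surjective (algebraMap R A) := by
  have : IsLocalHom (algebraMap R A) := by
    refine ((local_hom_TFAE (algebraMap R A)).out 0 4).mpr ?_
    exact eq_maximalIdeal (Ideal.isMaximal_comap_of_isIntegral_of_isMaximal _)
  have : IsLocalHom (algebraMap R (ResidueField A)) := by
    rw [IsScalarTower.algebraMap_eq R A (ResidueField A), ResidueField.algebraMap_eq]
    exact RingHom.isLocalHom_comp _ _
  have hle : (⊤ : Submodule R A) ≤ LinearMap.range (Algebra.linearMap R A) := by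
    refine Submodule.le_of_le_smul_of_le_jacobson_bot (I := maximalIdeal R) Module.Finite.fg_top
      (IsLocalRing.jacobson_eq_maximalIdeal ⊥ bot_ne_top).ge fun x _ => ?_
    obtain ⟨r, hr⟩ := mem_range_of_unramified_of_isSepClosed
      (IsScalarTower.toAlgHom R A (ResidueField A)) x
    have h1 : x - algebraMap R A r ∈ maximalIdeal A := by
      rw [← residue_eq_zero_iff, map_sub, sub_eq_zero]; exact hr
    rw [← Algebra.FormallyUnramified.map_maximalIdeal (R := R)] at h1
    rw [show x = algebraMap R A r + (x - algebraMap R A r) by ring]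
    exact Submodule.add_mem_sup ⟨r, rfl⟩ (mem_map_iff_mem_smul_top.mp h1)
  exact fun x => hle (Submodule.mem_top : x ∈ (⊤ : Submodule R A))

/-- Unramified algebras over strictly henselian local rings. -/
theorem exists_unramified_split [HenselianRing R (maximalIdeal R)] [IsSepClosed (ResidueField R)]
    (S : Type u) [CommRing S] [Algebra R S] [Algebra.Unramified R S] :
    ∃ (ι : Type u) (_ : Fintype ι) (A : ι → Type u) (_ : ∀ i, CommRing (A i))
      (_ : ∀ i, Algebra R (A i)) (B : Type u) (_ : CommRing B) (_ : Algebra R B),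
      (∀ i, Function.Surjective (algebraMap R (A i))) ∧
      Ideal.map (algebraMap R B) (maximalIdeal R) = ⊤ ∧
      Nonempty (S ≃ₐ[R] ((∀ i, A i) × B)) := by
  classical
  let Z := finite_quasiFinite_points (R := R) (S := S)
  obtain ⟨e, he, hfg, hmem⟩ := exists_split_points (R := R) Z.toFinset fun q hq => by
    simpa [Z] using hq
  let S₁ := S ⧸ Ideal.span ({1 - e} : Set S)
  let S₂ := S ⧸ Ideal.span ({e} : Set S)
  have : Module.Finite R S₁ := finite_quotient_of_fg e hfg
  have : Algebra.FormallyUnramified R S₁ :=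
    .of_surjective (Ideal.Quotient.mkₐ R _) Ideal.Quotient.mk_surjective
  obtain ⟨ι, hι, f, hloc, ⟨φ⟩⟩ := exists_algEquiv_pi_local (R := R) S₁
  refine ⟨ι, hι, fun i => S₁ ⧸ Ideal.span {1 - f i}, inferInstance, inferInstance, S₂,
    inferInstance, inferInstance, fun i => ?_, ?_, ?_⟩
  · have := hloc i
    have : Algebra.FormallyUnramified R (S₁ ⧸ Ideal.span {1 - f i}) :=
      .of_surjective (Ideal.Quotient.mkₐ R _) Ideal.Quotient.mk_surjective
    exact algebraMap_surjective_of_unramified _
  · by_contra hne
    obtain ⟨M, hM, hle⟩ := Ideal.exists_le_maximal _ hne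
    have hM' := Ideal.comap_isMaximal_of_surjective (Ideal.Quotient.mk (Ideal.span ({e} : Set S)))
      Ideal.Quotient.mk_surjective (K := M)
    have hover : (M.comap (Ideal.Quotient.mk (Ideal.span ({e} : Set S)))).LiesOver
        (maximalIdeal R) := by
      rw [liesOver_maximalIdeal_iff, ← Ideal.map_le_iff_le_comap, Ideal.map_map]
      exact hle
    refine (hmem _ hM'.isPrime hover).mpr ?_ ?_
    · rw [Set.Finite.mem_toFinset]
      exact ⟨hM'.isPrime, hover, inferInstance⟩
    · rw [Ideal.mem_comap, Ideal.Quotient.eq_zero_iff_mem.mpr (Ideal.mem_span_singleton_self _)]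
      exact zero_mem _
  · let ψ : S →ₐ[R] S₁ × S₂ := (Ideal.Quotient.mkₐ R _).prod (Ideal.Quotient.mkₐ R _)
    have hψ : Function.Bijective ψ :=
      RingHom.prod_bijective_of_isIdempotentElem (e := 1 - e) (f := e) he.one_sub he
        (sub_add_cancel 1 e) (by rw [sub_mul, one_mul, he.eq, sub_self])
    exact ⟨(AlgEquiv.ofBijective ψ hψ).trans (AlgEquiv.prodCongr φ AlgEquiv.refl)⟩

end Groth.Agent.Hensel20
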