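import Groth.Agent.Hensel20.Local
import Mathlib.RingTheory.Jacobson.Ring
import Mathlib.RingTheory.Unramified.LocalRing
import Mathlib.RingTheory.Flat.FaithfullyFlat.Algebra

/-! Finite type algebras over henselian local rings. -/

set_option autoImplicit false

open Polynomial IsLocalRing

namespace Groth.Agent.Hensel20

universe u v w

variable {R : Type u} [CommRing R] [IsLocalRing R]

lemma liesOver_maximalIdeal_iff {S : Type v} [CommRing S] [Algebra R S] {q : Ideal S} [q.IsPrime] :
    q.LiesOver (maximalIdeal R) ↔ (maximalIdeal R).map (algebraMap R S) ≤ q := by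
  refine ⟨fun h => Ideal.map_le_iff_le_comap.mpr h.over.le, fun h => ⟨?_⟩⟩
  exact (maximalIdeal.isMaximal R).eq_of_le (Ideal.IsPrime.comap _).ne_top
    (Ideal.map_le_iff_le_comap.mp h)

/-- Quasi-finiteness in the closed fibre means being isolated in it. -/
lemma quasiFiniteAt_of_separated {S : Type v} [CommRing S] [Algebra R S] [Algebra.FiniteType R S]
    (q : Ideal S) [q.IsPrime] (hq : q.LiesOver (maximalIdeal R)) {s : S} (hs : s ∉ q)
    (h : ∀ (P : Ideal S), P.IsPrime → P.LiesOver (maximalIdeal R) → P ≠ q → s ∈ P) :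
    Algebra.QuasiFiniteAt R q := by
  refine Algebra.QuasiFiniteAt.of_isOpen_singleton_fiber ⟨q, inferInstance⟩ ?_
  refine isOpen_induced_iff.mpr ⟨PrimeSpectrum.basicOpen s, PrimeSpectrum.isOpen_basicOpen, ?_⟩
  ext ⟨P, hP⟩
  simp only [Set.mem_preimage, Set.mem_singleton_iff, SetLike.mem_coe,
    PrimeSpectrum.mem_basicOpen]
  constructor
  · intro hsP
    by_contra hne
    refine hsP (h P.asIdeal P.isPrime ⟨?_⟩ fun hPq => hne (Subtype.ext (PrimeSpectrum.ext hPq)))
    simp only [Set.mem_preimage, Set.mem_singleton_iff, PrimeSpectrum.ext_iff,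
      PrimeSpectrum.comap_asIdeal] at hP
    exact (hP.trans hq.over.symm).symm
  · intro h
    obtain rfl : P = ⟨q, inferInstance⟩ := congrArg Subtype.val h
    exact hs

/-- A quasi-finite point of the closed fibre is closed. -/
lemma exists_separating {S : Type v} [CommRing S] [Algebra R S] [Algebra.FiniteType R S]
    (q : Ideal S) [q.IsPrime] [q.LiesOver (maximalIdeal R)] [Algebra.QuasiFiniteAt R q] :
    q.IsMaximal ∧ ∃ s ∉ q,
      ∀ (P : Ideal S), P.IsPrime → P.LiesOver (maximalIdeal R) → P ≠ q → s ∈ P := by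
  obtain ⟨s, hs, h⟩ := Ideal.exists_not_mem_forall_mem_of_ne_of_liesOver (R := R) (maximalIdeal R) q
  refine ⟨?_, s, hs, fun P hP hPm hne => h P hP hne hPm⟩
  have hle : (maximalIdeal R).map (algebraMap R S) ≤ q := liesOver_maximalIdeal_iff.mp inferInstance
  let T := S ⧸ (maximalIdeal R).map (algebraMap R S)
  let := Ideal.Quotient.field (maximalIdeal R)
  have : Algebra.FiniteType (R ⧸ maximalIdeal R) T :=
    Algebra.FiniteType.of_restrictScalars_finiteType R _ _
  have : IsJacobsonRing T := isJacobsonRing_of_finiteType (A := R ⧸ maximalIdeal R)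
  have hrad : (q.map (Ideal.Quotient.mk _) : Ideal T).IsPrime :=
    Ideal.map_isPrime_of_surjective Ideal.Quotient.mk_surjective (by simpa using hle)
  have hJ := IsJacobsonRing.out (inferInstance : IsJacobsonRing T) hrad.isRadical
  have hsT : Ideal.Quotient.mk _ s ∉ (q.map (Ideal.Quotient.mk _) : Ideal T) := by
    rw [← Ideal.mem_comap, Ideal.comap_map_of_surjective _ Ideal.Quotient.mk_surjective]
    simpa [← RingHom.ker_eq_comap_bot, sup_eq_left.mpr hle] using hs
  rw [← hJ, Ideal.jacobson, Submodule.mem_sInf] at hsT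
  push Not at hsT
  obtain ⟨(M : Ideal T), ⟨hqM, hM⟩, hsM⟩ := hsT
  have hM' := Ideal.comap_isMaximal_of_surjective (Ideal.Quotient.mk ((maximalIdeal R).map (algebraMap R S)))
    Ideal.Quotient.mk_surjective (K := M)
  have hsup : (maximalIdeal R).map (algebraMap R S) ≤ M.comap (Ideal.Quotient.mk _) := fun x hx => by
    rw [Ideal.mem_comap, Ideal.Quotient.eq_zero_iff_mem.mpr hx]; exact zero_mem M
  have : q = M.comap (Ideal.Quotient.mk _) := by
    by_contra hne
    exact hsM (h _ hM'.isPrime (fun h' => hne h'.symm) (liesOver_maximalIdeal_iff.mpr hsup))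
  exact this ▸ hM'

/-- Split off the finite part over a henselian local ring; `Z` selects points of the closed fibre. -/
theorem exists_split_points [HenselianRing R (maximalIdeal R)] {S : Type u} [CommRing S]
    [Algebra R S] [Algebra.FiniteType R S]
    (Z : Finset (Ideal S))
    (hZ : ∀ q ∈ Z, ∃ _ : q.IsPrime, q.LiesOver (maximalIdeal R) ∧ Algebra.QuasiFiniteAt R q) :
    ∃ e : S, IsIdempotentElem e ∧ (LinearMap.range (LinearMap.mulRight R e)).FG ∧
      ∀ (q : Ideal S), q.IsPrime → q.LiesOver (maximalIdeal R) → (e ∉ q ↔ q ∈ Z) := by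
  classical
  set m := maximalIdeal R
  set J := m.map (algebraMap R S)
  have hs : ∀ q : Z, q.1.IsMaximal ∧ ∃ s ∉ q.1,
      ∀ (P : Ideal S), P.IsPrime → P.LiesOver m → P ≠ q.1 → s ∈ P := by
    rintro ⟨q, hq⟩
    obtain ⟨_, _, _⟩ := hZ q hq
    exact exists_separating q
  choose hmax s hsq hs using hs
  set σ := ∑ q, s q
  have hσ : ∀ P : Ideal S, P.IsPrime → P.LiesOver m → (σ ∉ P ↔ P ∈ Z) := by
    intro P hP hPm
    refine ⟨fun h => ?_, fun h hσP => ?_⟩
    · by_contra hPZ
      exact h (Ideal.sum_mem _ fun q _ => hs q P hP hPm fun h' => hPZ (h' ▸ q.2))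
    · refine hsq ⟨P, h⟩ ?_
      have h2 : ∑ q ∈ (Finset.univ.erase (⟨P, h⟩ : Z)), s q ∈ P :=
        Ideal.sum_mem _ fun q hq => hs q P hP hPm fun h' =>
          (Finset.mem_erase.mp hq).1 (Subtype.ext h'.symm)
      simp only [σ] at hσP
      rw [← Finset.add_sum_erase _ s (Finset.mem_univ (⟨P, h⟩ : Z))] at hσP
      exact (Ideal.add_mem_iff_left _ h2).mp hσP
  let K : Ideal S := Z.inf id
  have hKσ : K ⊔ (Ideal.span {σ} ⊔ J) = ⊤ := by
    by_contra hne
    obtain ⟨M, hM, hle⟩ := Ideal.exists_le_maximal _ hne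
    have hMm : M.LiesOver m :=
      liesOver_maximalIdeal_iff.mpr (le_sup_right.trans (le_sup_right.trans hle))
    have hMZ : M ∈ Z := by
      have hKM : K ≤ M := le_sup_left.trans hle
      obtain ⟨q, hq⟩ : ∃ q : Z, q.1 ≤ M := by
        obtain ⟨i, hi, hle'⟩ := hM.isPrime.inf_le'.mp hKM
        exact ⟨⟨i, hi⟩, hle'⟩
      exact ((hmax q).eq_of_le hM.ne_top hq) ▸ q.2
    exact (hσ M hM.isPrime hMm).mpr hMZ
      (hle (Ideal.mem_sup_right (Ideal.mem_sup_left (Ideal.mem_span_singleton_self σ))))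
  obtain ⟨a, ha, x, hx, hax⟩ := Submodule.mem_sup.mp
    ((Ideal.eq_top_iff_one _).mp hKσ)
  obtain ⟨t, ht, j, hj, rfl⟩ := Submodule.mem_sup.mp hx
  have htt : t * t - t ∈ J.radical := by
    rw [Ideal.radical_eq_sInf, Submodule.mem_sInf]
    rintro (P : Ideal S) ⟨hJP, hP⟩
    have hPm := liesOver_maximalIdeal_iff.mpr hJP
    by_cases hPZ : P ∈ Z
    · have h1 : a ∈ P := (Finset.inf_le hPZ : K ≤ P) ha
      have : t * t - t = (-t) * a + (-t) * j := by linear_combination t * hax
      rw [this]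
      exact add_mem (P.mul_mem_left _ h1) (P.mul_mem_left _ (hJP hj))
    · have : t ∈ P := by
        obtain ⟨c, rfl⟩ := Ideal.mem_span_singleton'.mp ht
        exact P.mul_mem_left c (not_not.mp fun h => hPZ ((hσ P hP hPm).mp h))
      exact sub_mem (P.mul_mem_left _ this) this
  obtain ⟨ε, hε, hεt⟩ := exists_idem_sub_mem_of_radical Ideal.le_radical le_rfl htt
  have hεP : ∀ P : Ideal S, P.IsPrime → P.LiesOver m → (ε ∉ P ↔ P ∈ Z) := by
    intro P hP hPm
    have hJP := liesOver_maximalIdeal_iff.mp hPm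
    have hd : ε - t ∈ P := hP.radical_le_iff.mpr hJP hεt
    rw [show ε = (ε - t) + t by ring, Ideal.add_mem_iff_right _ hd]
    constructor
    · intro ht'
      by_contra hPZ
      obtain ⟨c, rfl⟩ := Ideal.mem_span_singleton'.mp ht
      exact ht' (P.mul_mem_left c (not_not.mp fun h => hPZ ((hσ P hP hPm).mp h)))
    · intro hPZ ht'
      refine hP.one_notMem ?_
      rw [← hax]
      exact add_mem ((Finset.inf_le hPZ : K ≤ P) ha) (add_mem ht' (hJP hj))
  let L : Ideal S := J ⊔ Ideal.span {1 - ε}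
  let C := S ⧸ L
  have hCZ : ∀ Q : PrimeSpectrum C, Q.asIdeal.comap (Ideal.Quotient.mk L) ∈ Z := fun Q => by
    have hLQ : L ≤ Q.asIdeal.comap (Ideal.Quotient.mk L) := fun y hy => by
      rw [Ideal.mem_comap, Ideal.Quotient.eq_zero_iff_mem.mpr hy]; exact zero_mem _
    refine (hεP _ inferInstance (liesOver_maximalIdeal_iff.mpr (le_sup_left.trans hLQ))).mp ?_
    intro h
    have h1 := hLQ (Ideal.mem_sup_right (Ideal.mem_span_singleton_self (1 - ε)))
    exact Ideal.IsPrime.one_notMem inferInstance (by simpa using add_mem h1 h)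
  let := Ideal.Quotient.field m
  let : Algebra (R ⧸ m) C := Ideal.Quotient.algebraQuotientOfLEComap
    (Ideal.map_le_iff_le_comap.mp (le_sup_left : J ≤ L))
  have : IsScalarTower R (R ⧸ m) C := .of_algebraMap_eq fun _ => rfl
  have : Algebra.FiniteType (R ⧸ m) C := Algebra.FiniteType.of_restrictScalars_finiteType R _ _
  have hfin : Finite (PrimeSpectrum C) :=
    Finite.of_injective (fun Q => (⟨_, hCZ Q⟩ : Z)) fun Q Q' h => by
      ext1
      exact Ideal.comap_injective_of_surjective _ Ideal.Quotient.mk_surjective (congrArg Subtype.val h)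
  have : Algebra.QuasiFinite (R ⧸ m) C :=
    Algebra.QuasiFinite.iff_finite_comap_preimage_singleton.mpr fun _ => Set.toFinite _
  have : Module.Finite (R ⧸ m) C := Module.Finite.of_quasiFinite
  have : Module.Finite R (R ⧸ m) := Module.Finite.of_surjective (Algebra.linearMap R (R ⧸ m))
    Ideal.Quotient.mk_surjective
  have : Module.Finite R C := Module.Finite.trans (R ⧸ m) C
  obtain ⟨e, he, -, heε, -, hfg⟩ := exists_split_idempotent (I := m) (Ideal.Quotient.mkₐ R L)
    Ideal.Quotient.mk_surjective (fun y hy => by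
      rw [IsScalarTower.algebraMap_apply R S C, Ideal.Quotient.algebraMap_eq,
        Ideal.Quotient.eq_zero_iff_mem]
      exact Ideal.mem_sup_left (Ideal.mem_map_of_mem _ hy))
    ε (by
      rw [← map_one (Ideal.Quotient.mkₐ R L)]
      exact (Ideal.Quotient.mk_eq_mk_iff_sub_mem _ _).mpr (by
        rw [← neg_sub]
        exact neg_mem (Ideal.mem_sup_right (Ideal.mem_span_singleton_self (1 - ε)))))
    (fun k hk => by
      obtain ⟨b, hb, d, hd, rfl⟩ :=
        Submodule.mem_sup.mp (Ideal.Quotient.eq_zero_iff_mem.mp hk)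
      obtain ⟨c, rfl⟩ := Ideal.mem_span_singleton'.mp hd
      rw [show (b + c * (1 - ε)) * ε = ε * b + (-c) * (ε * ε - ε) by ring]
      exact add_mem (J.mul_mem_left _ hb) (J.mul_mem_left _ hε))
  refine ⟨e, he, hfg, fun q hq hqm => ?_⟩
  have hJq := liesOver_maximalIdeal_iff.mp hqm
  rw [← hεP q hq hqm, show e = (e - ε) + ε by ring, Ideal.add_mem_iff_right _ (hJq heε)]

/-- The quasi-finite points of the closed fibre are finite in number. -/
theorem finite_quasiFinite_points {S : Type v} [CommRing S] [Algebra R S]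
    [Algebra.FiniteType R S] :
    {q : Ideal S | ∃ _ : q.IsPrime,
      q.LiesOver (maximalIdeal R) ∧ Algebra.QuasiFiniteAt R q}.Finite := by
  classical
  set Z := {q : Ideal S | ∃ _ : q.IsPrime,
      q.LiesOver (maximalIdeal R) ∧ Algebra.QuasiFiniteAt R q}
  set J := (maximalIdeal R).map (algebraMap R S)
  have hs : ∀ q : Z, ∃ s ∉ q.1,
      ∀ (P : Ideal S), P.IsPrime → P.LiesOver (maximalIdeal R) → P ≠ q.1 → s ∈ P := by
    rintro ⟨q, _, _, _⟩
    exact (exists_separating q).2
  choose s hsq hs using hs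
  let := Ideal.Quotient.field (maximalIdeal R)
  have : Algebra.FiniteType (R ⧸ maximalIdeal R) (S ⧸ J) :=
    Algebra.FiniteType.of_restrictScalars_finiteType R _ _
  have : IsNoetherianRing (S ⧸ J) := Algebra.FiniteType.isNoetherianRing (R ⧸ maximalIdeal R) _
  obtain ⟨T, hT, hTspan⟩ := (Submodule.fg_span_iff_fg_span_finset_subset _).mp
    (IsNoetherian.noetherian (Submodule.span (S ⧸ J) (Set.range fun q => Ideal.Quotient.mk J (s q))))
  choose pre hpre using hT
  refine (T.attach.image fun x => (pre x.2).1).finite_toSet.subset fun q hq => ?_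
  obtain ⟨_, hqm, _⟩ := id hq
  by_contra hqT
  refine hsq ⟨q, hq⟩ ?_
  have hle : Submodule.span (S ⧸ J) (T : Set (S ⧸ J)) ≤ Ideal.map (Ideal.Quotient.mk J) q := by
    rw [Submodule.span_le]
    intro x hx
    rw [← hpre hx]
    refine Ideal.mem_map_of_mem _ (hs (pre hx) q inferInstance hqm fun h => hqT ?_)
    rw [Finset.mem_coe, Finset.mem_image]
    exact ⟨⟨x, hx⟩, Finset.mem_attach _ _, h.symm⟩
  have h1 := hle (hTspan ▸ Submodule.subset_span (Set.mem_range_self (⟨q, hq⟩ : Z)))
  rw [← Ideal.mem_comap, Ideal.comap_map_of_surjective _ Ideal.Quotient.mk_surjective,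
    ← RingHom.ker_eq_comap_bot, Ideal.mk_ker,
    sup_eq_left.mpr (liesOver_maximalIdeal_iff.mp hqm)] at h1
  exact h1

end Groth.Agent.Hensel20
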