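import Groth.Agent.Hensel20.Basic
import Mathlib.RingTheory.ZariskisMainTheorem

/-! A finite subalgebra which agrees with a finite type algebra near a given closed set. -/

set_option autoImplicit false

open Polynomial TensorProduct

namespace Groth.Agent.Hensel20

universe u v w

variable {A : Type u} [CommRing A] {I : Ideal A} {S : Type v} [CommRing S] [Algebra A S]

/-- The elements `r` of a subalgebra `E` with `E[1/r] = S[1/r]`. -/
def satIdeal (E : Subalgebra A S) : Ideal E where
  carrier := {r | ∀ x : S, ∃ m : ℕ, (r : S) ^ m * x ∈ E}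
  zero_mem' x := ⟨1, by simp⟩
  add_mem' {r s} hr hs x := by
    obtain ⟨a, ha⟩ := hr x
    obtain ⟨b, hb⟩ := hs x
    refine ⟨a + b, ?_⟩
    rw [Subalgebra.coe_add, add_pow, Finset.sum_mul]
    refine Subalgebra.sum_mem _ fun i _ => ?_
    rcases le_or_gt a i with h | h
    · have : (r : S) ^ i * (s : S) ^ (a + b - i) * ((a + b).choose i : S) * x =
          (r : S) ^ (i - a) * (s : S) ^ (a + b - i) * ((a + b).choose i : S) * ((r : S) ^ a * x) := by
        nth_rw 1 [← Nat.sub_add_cancel h]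
        ring
      rw [this]
      exact mul_mem (mul_mem (mul_mem (pow_mem r.2 _) (pow_mem s.2 _)) (natCast_mem _ _)) ha
    · have hb' : b ≤ a + b - i := by omega
      have : (r : S) ^ i * (s : S) ^ (a + b - i) * ((a + b).choose i : S) * x =
          (r : S) ^ i * (s : S) ^ (a + b - i - b) * ((a + b).choose i : S) * ((s : S) ^ b * x) := by
        nth_rw 1 [← Nat.sub_add_cancel hb']
        ring
      rw [this]
      exact mul_mem (mul_mem (mul_mem (pow_mem r.2 _) (pow_mem s.2 _)) (natCast_mem _ _)) hb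
  smul_mem' c r hr x := by
    obtain ⟨a, ha⟩ := hr x
    refine ⟨a, ?_⟩
    rw [smul_eq_mul, Subalgebra.coe_mul, mul_pow, mul_assoc]
    exact mul_mem (pow_mem c.2 _) ha

lemma mem_satIdeal {E : Subalgebra A S} {r : E} :
    r ∈ satIdeal E ↔ ∀ x : S, ∃ m : ℕ, (r : S) ^ m * x ∈ E := Iff.rfl

lemma exists_pow_mul_mem_of_adjoin {E : Subalgebra A S} {r : S} (hr : r ∈ E) {s : Set S}
    (hs : Algebra.adjoin A s = ⊤) (h : ∀ x ∈ s, ∃ m : ℕ, r ^ m * x ∈ E) (x : S) :
    ∃ m : ℕ, r ^ m * x ∈ E := by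
  have hx : x ∈ Algebra.adjoin A s := hs ▸ Algebra.mem_top
  induction hx using Algebra.adjoin_induction with
  | mem x hx => exact h x hx
  | algebraMap a => exact ⟨0, by simp⟩
  | add x y _ _ hx hy =>
    obtain ⟨a, ha⟩ := hx; obtain ⟨b, hb⟩ := hy
    refine ⟨a + b, ?_⟩
    have : r ^ (a + b) * (x + y) = r ^ b * (r ^ a * x) + r ^ a * (r ^ b * y) := by ring
    rw [this]
    exact add_mem (mul_mem (pow_mem hr _) ha) (mul_mem (pow_mem hr _) hb)
  | mul x y _ _ hx hy =>
    obtain ⟨a, ha⟩ := hx; obtain ⟨b, hb⟩ := hy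
    refine ⟨a + b, ?_⟩
    have : r ^ (a + b) * (x * y) = (r ^ a * x) * (r ^ b * y) := by ring
    rw [this]
    exact mul_mem ha hb

/-- An integral element congruent to one which can serve as the denominator. -/
lemma exists_integral_denominator {C : Type w} [CommRing C] [Algebra A C] [Algebra.IsIntegral A C]
    [Algebra.FiniteType A S] (π : S →ₐ[A] C)
    (hqf : ∀ (q : Ideal S) [q.IsPrime], RingHom.ker π ≤ q → Algebra.QuasiFiniteAt A q) :
    ∃ r : integralClosure A S, π r = 1 ∧ r ∈ satIdeal (integralClosure A S) := by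
  let φ : integralClosure A S →ₐ[A] C := π.comp (integralClosure A S).val
  let E' := φ.range
  let J : Ideal E' := (satIdeal (integralClosure A S)).map φ.rangeRestrict
  have hsurj : Function.Surjective φ.rangeRestrict := φ.rangeRestrict_surjective
  suffices hJ : J = ⊤ by
    obtain ⟨r, hr, hr1⟩ := (Ideal.mem_map_iff_of_surjective _ hsurj).mp
      (hJ ▸ Submodule.mem_top : (1 : E') ∈ J)
    exact ⟨r, congrArg Subtype.val hr1, hr⟩
  by_contra hJ
  obtain ⟨M, hM, hJM⟩ := Ideal.exists_le_maximal J hJ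
  have : Algebra.IsIntegral E' C := Algebra.IsIntegral.tower_top A
  obtain ⟨Q, -, hQ, hQM⟩ :=
    Ideal.exists_ideal_over_prime_of_isIntegral M (⊥ : Ideal C)
      (fun x hx => by
        rw [Ideal.mem_comap, Ideal.mem_bot] at hx
        rw [show x = 0 from Subtype.ext hx]
        exact zero_mem _)
  let q := Q.comap π
  have hq : RingHom.ker π ≤ q := fun x hx => by
    rw [RingHom.mem_ker] at hx
    simp [q, hx]
  have := hqf q hq
  obtain ⟨r, hrq, hri, hr⟩ := Algebra.zariskisMainProperty_iff.mp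
    (Algebra.ZariskisMainProperty.of_finiteType (R := A) q)
  have hmem : (⟨r, hri⟩ : integralClosure A S) ∈ satIdeal (integralClosure A S) := fun x => hr x
  have := hJM (Ideal.mem_map_of_mem φ.rangeRestrict hmem)
  rw [← hQM, Ideal.mem_comap] at this
  exact hrq this

/-- A finite subalgebra `E` of `S`, an element `r` of it with `E[1/r] = S[1/r]`, and an element `w`
which is an idempotent modulo `I` cutting out `C`. -/
lemma exists_finite_model {C : Type w} [CommRing C] [Algebra A C] [Module.Finite A C]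
    [Algebra.FiniteType A S] (π : S →ₐ[A] C) (hπ : Function.Surjective π)
    (hqf : ∀ (q : Ideal S) [q.IsPrime], RingHom.ker π ≤ q → Algebra.QuasiFiniteAt A q)
    (ε : S) (hε1 : π ε = 1) (hεk : ∀ k, π k = 0 → k * ε ∈ I.map (algebraMap A S)) :
    ∃ E : Subalgebra A S, Module.Finite A E ∧ Function.Surjective (π.comp E.val) ∧
      ∃ r w : E, π r = 1 ∧ r ∈ satIdeal E ∧ π w = 1 ∧
        (w : S) - ε ∈ I.map (algebraMap A S) ∧
        ∀ k : E, π k = 0 → k * w ∈ I.map (algebraMap A E) := by
  classical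
  obtain ⟨⟨r, hri⟩, hr1, hr⟩ := exists_integral_denominator π hqf
  choose m hm using hr
  obtain ⟨s, hs⟩ := Algebra.FiniteType.out (R := A) (A := S)
  obtain ⟨c, hc⟩ := Module.Finite.fg_top (R := A) (M := C)
  choose l hl using hπ
  let t : Set S := {r} ∪ (fun x => r ^ m x * x) '' (↑s ∪ l '' ↑c)
  let E := Algebra.adjoin A t
  have ht : t.Finite := (Set.finite_singleton r).union
    ((s.finite_toSet.union (c.finite_toSet.image l)).image _)
  have hti : ∀ x ∈ t, IsIntegral A x := by
    rintro x (rfl | ⟨y, -, rfl⟩)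
    · exact hri
    · exact hm y
  have hfin : Module.Finite A E := Module.Finite.iff_fg.mpr (fg_adjoin_of_finite ht hti)
  have hrE : r ∈ E := Algebra.subset_adjoin (Or.inl rfl)
  have hsat : (⟨r, hrE⟩ : E) ∈ satIdeal E := fun x =>
    exists_pow_mul_mem_of_adjoin hrE hs
      (fun y hy => ⟨m y, Algebra.subset_adjoin (Or.inr ⟨y, Or.inl hy, rfl⟩)⟩) x
  have hsurjE : Function.Surjective (π.comp E.val) := by
    intro z
    have hz : z ∈ Submodule.span A (c : Set C) := by rw [hc]; trivial
    suffices Submodule.span A (c : Set C) ≤ LinearMap.range (π.comp E.val).toLinearMap from this hz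
    rw [Submodule.span_le]
    intro x hx
    refine ⟨⟨r ^ m (l x) * l x, Algebra.subset_adjoin (Or.inr ⟨l x, Or.inr ⟨x, hx, rfl⟩, rfl⟩)⟩, ?_⟩
    simp [hr1, hl]
  obtain ⟨n, hn⟩ := hsat ε
  let R : E := ⟨r, hrE⟩
  let z : E := ⟨r ^ n * ε, hn⟩
  have hz1 : π z = 1 := by simp [z, hr1, hε1]
  have key : ∀ k : E, π k = 0 → ∃ j : ℕ, R ^ j * (k * z) ∈ I.map (algebraMap A E) := by
    intro k hk
    have h1 : ((k * z : E) : S) ∈ I • (⊤ : Submodule A S) := by
      rw [← mem_map_iff_mem_smul_top]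
      have := Ideal.mul_mem_left _ (r ^ n) (hεk k hk)
      simpa [z, mul_left_comm] using this
    suffices ∀ x : S, x ∈ I • (⊤ : Submodule A S) →
        ∃ j : ℕ, ∃ y : E, (y : S) = r ^ j * x ∧ y ∈ I.map (algebraMap A E) by
      obtain ⟨j, y, hy, hy'⟩ := this _ h1
      refine ⟨j, ?_⟩
      convert hy' using 1
      exact Subtype.ext (by simp [hy, R])
    intro x hx
    refine Submodule.smul_induction_on hx (fun a ha x _ => ?_) (fun x y hx hy => ?_)
    · obtain ⟨j, hj⟩ := hsat x
      exact ⟨j, algebraMap A E a * ⟨_, hj⟩, by simp [Algebra.smul_def, mul_left_comm],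
        Ideal.mul_mem_right _ _ (Ideal.mem_map_of_mem _ ha)⟩
    · obtain ⟨a, X, hX, hX'⟩ := hx
      obtain ⟨b, Y, hY, hY'⟩ := hy
      refine ⟨a + b, R ^ b * X + R ^ a * Y, ?_,
        add_mem (Ideal.mul_mem_left _ _ hX') (Ideal.mul_mem_left _ _ hY')⟩
      simp [R, hX, hY]
      ring
  obtain ⟨M, hM⟩ := key (R - 1) (by simp [R, hr1])
  let w : E := R ^ M * z
  have hwr : (R - 1) * w ∈ I.map (algebraMap A E) := by
    simpa [w, mul_left_comm] using hM
  have hwpow : ∀ j : ℕ, R ^ j * w - w ∈ I.map (algebraMap A E) := by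
    intro j
    obtain ⟨d, hd⟩ := sub_dvd_pow_sub_pow R 1 j
    have : R ^ j * w - w = d * ((R - 1) * w) := by
      rw [one_pow] at hd
      linear_combination w * hd
    rw [this]
    exact Ideal.mul_mem_left _ _ hwr
  refine ⟨E, hfin, hsurjE, R, w, hr1, hsat, by simp [w, hz1, R, hr1], ?_, fun k hk => ?_⟩
  · have h1 : π (r ^ (M + n) - 1) = 0 := by simp [hr1]
    have := hεk _ h1
    convert this using 1
    simp [w, z, R]
    ring
  · obtain ⟨j, hj⟩ := key k hk
    have h2 : k * w = R ^ M * (R ^ j * (k * z)) - k * (R ^ j * w - w) := by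
      simp only [w]; ring
    rw [h2]
    exact sub_mem (Ideal.mul_mem_left _ _ hj) (Ideal.mul_mem_left _ _ (hwpow j))

end Groth.Agent.Hensel20
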