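import Mathlib
import Groth.Agent.LimTop61.ZmtFactor
import Groth.Agent.FlatMor66.OnePoint
import Groth.Agent.Sga84.Epi

/-!
# Lifting of clopens along finite morphisms gives lifting of sections of separated etale morphisms
-/

set_option autoImplicit false
universe u
open CategoryTheory CategoryTheory.Limits AlgebraicGeometry

namespace Groth.Agent.Hensel20.SectionsLift

variable {S S₀ : Scheme.{u}} (i : S₀ ⟶ S)

/-- `ClopenLift i`: open-closed subsets lift uniquely along finite morphisms. -/
def ClopenLift : Prop :=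
  ∀ (S' : Scheme.{u}) (g : S' ⟶ S), IsFinite g →
    ∀ V : Set ↥(pullback g i), IsClopen V → ∃! U : Set ↥S', IsClopen U ∧ (pullback.fst g i).base ⁻¹' U = V

variable {i}

theorem closed_eq_empty (ha : ClopenLift i) {C : Set S} (hC : IsClosed C)
    (h : ∀ s₀, i.base s₀ ∉ C) : C = ∅ := by
  let Z : S.IdealSheafData := Scheme.IdealSheafData.vanishingIdeal ⟨C, hC⟩
  have hr : Set.range Z.subschemeι.base = C := by
    rw [Z.range_subschemeι]
    exact Scheme.IdealSheafData.coe_support_vanishingIdeal _
  have hempty : ∀ z : ↥(pullback Z.subschemeι i), False := fun z => by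
    refine h ((pullback.snd Z.subschemeι i).base z) ?_
    rw [← hr]
    refine ⟨(pullback.fst Z.subschemeι i).base z, ?_⟩
    rw [← Scheme.Hom.comp_apply, ← Scheme.Hom.comp_apply, pullback.condition]
  obtain ⟨U, -, huniq⟩ := ha Z.subscheme Z.subschemeι inferInstance ∅ isClopen_empty
  have h1 := huniq ∅ ⟨isClopen_empty, Set.preimage_empty⟩
  have h2 := huniq Set.univ ⟨isClopen_univ, by ext z; exact (hempty z).elim⟩
  rw [← hr, Set.range_eq_empty_iff]
  by_contra hne
  rw [not_isEmpty_iff] at hne
  obtain ⟨x⟩ := hne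
  have : (x : Z.subscheme) ∈ (∅ : Set Z.subscheme) := (h2.trans h1.symm) ▸ Set.mem_univ x
  exact this

variable [IsClosedImmersion i]

theorem unique_section (ha : ClopenLift i) {S' : Scheme.{u}} (g : S' ⟶ S) [Etale g] [IsSeparated g]
    {u v : S ⟶ S'} (hu : u ≫ g = 𝟙 S) (hv : v ≫ g = 𝟙 S) (h : i ≫ u = i ≫ v) : u = v := by
  let q : S ⟶ pullback g g := pullback.lift u v (hu.trans hv.symm)
  let δ := pullback.diagonal g
  have hD : IsClosed ((q.base ⁻¹' Set.range δ.base)ᶜ) :=
    ((IsOpenImmersion.isOpen_range δ).preimage q.continuous).isClosed_compl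
  have h0 := closed_eq_empty ha hD fun s₀ hs => hs ⟨(i ≫ u).base s₀, by
    rw [← Scheme.Hom.comp_apply (i ≫ u) δ, ← Scheme.Hom.comp_apply i q]
    refine congrArg (fun φ : S₀ ⟶ pullback g g => φ.base s₀) ?_
    have hq1 : q ≫ pullback.fst g g = u := pullback.lift_fst _ _ _
    have hq2 : q ≫ pullback.snd g g = v := pullback.lift_snd _ _ _
    apply pullback.hom_ext
    · rw [Category.assoc _ δ, Category.assoc i q, hq1, pullback.diagonal_fst, Category.comp_id]
    · rw [Category.assoc _ δ, Category.assoc i q, hq2, pullback.diagonal_snd, Category.comp_id, h]⟩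
  have hrange : Set.range q.base ⊆ Set.range δ.base := by
    rintro _ ⟨s, rfl⟩
    by_contra hs
    exact (Set.eq_empty_iff_forall_notMem.mp h0 s) hs
  have hl := IsOpenImmersion.lift_fac δ q hrange
  calc u = q ≫ pullback.fst g g := (pullback.lift_fst _ _ _).symm
    _ = IsOpenImmersion.lift δ q hrange ≫ δ ≫ pullback.fst g g := by rw [← Category.assoc, hl]
    _ = IsOpenImmersion.lift δ q hrange ≫ δ ≫ pullback.snd g g := by
        rw [pullback.diagonal_fst, pullback.diagonal_snd]
    _ = q ≫ pullback.snd g g := by rw [← Category.assoc, hl]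
    _ = v := pullback.lift_snd _ _ _

theorem isIso_of_finite_etale (ha : ClopenLift i) {E : Scheme.{u}} (eE : E ⟶ S) [IsFinite eE] [Etale eE]
    [Mono (pullback.snd eE i)] (hsurj : ∀ s₀, ∃ e, eE.base e = i.base s₀) : IsIso eE := by
  have hs : Surjective eE := by
    constructor
    have hclosed : IsClosed ((Set.range eE.base)ᶜ) := eE.isOpenMap.isOpen_range.isClosed_compl
    have h0 := closed_eq_empty ha hclosed fun s₀ hs => hs (hsurj s₀)
    intro s
    by_contra hne
    exact Set.eq_empty_iff_forall_notMem.mp h0 s hne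
  have hinj : UniversallyInjective eE := by
    rw [UniversallyInjective.iff_diagonal]
    constructor
    let δ := pullback.diagonal eE
    let π₂ := pullback.fst eE eE ≫ eE
    have hC : IsClosed (π₂.base '' (Set.range δ.base)ᶜ) :=
      π₂.isClosedMap _ (IsOpenImmersion.isOpen_range δ).isClosed_compl
    have h0 := closed_eq_empty ha hC fun s₀ hs => by
      obtain ⟨c, hc, hcs⟩ := hs
      obtain ⟨c', hc'1, -⟩ := Scheme.Pullback.exists_preimage_pullback (f := π₂) (g := i) c s₀ hcs
      let P := pullback π₂ i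
      have e1 : pullback.fst π₂ i ≫ pullback.fst eE eE = pullback.fst π₂ i ≫ pullback.snd eE eE := by
        have c1 : (pullback.fst π₂ i ≫ pullback.fst eE eE) ≫ eE = pullback.snd π₂ i ≫ i := by
          rw [Category.assoc]; exact pullback.condition
        have c2 : (pullback.fst π₂ i ≫ pullback.snd eE eE) ≫ eE = pullback.snd π₂ i ≫ i := by
          rw [Category.assoc, ← pullback.condition (f := eE) (g := eE)]; exact pullback.condition
        have h3 : pullback.lift _ _ c1 = pullback.lift _ _ c2 :=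
          (cancel_mono (pullback.snd eE i)).mp (by rw [pullback.lift_snd, pullback.lift_snd])
        have := congrArg (fun φ => φ ≫ pullback.fst eE i) h3
        simpa only [pullback.lift_fst] using this
      refine hc ⟨(pullback.fst π₂ i ≫ pullback.fst eE eE).base c', ?_⟩
      rw [← hc'1, ← Scheme.Hom.comp_apply _ δ]
      refine congrArg (fun φ : P ⟶ pullback eE eE => φ.base c') ?_
      apply pullback.hom_ext
      · simp [δ]
      · rw [Category.assoc, pullback.diagonal_snd, Category.comp_id]; exact e1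
    intro c
    by_contra hc
    exact Set.eq_empty_iff_forall_notMem.mp h0 _ ⟨c, fun h => hc h, rfl⟩
  have := Sga84.isOpenImmersion_of_etale eE
  exact (isIso_iff_isOpenImmersion_and_epi_base eE).mpr ⟨inferInstance,
    (TopCat.epi_iff_surjective _).mpr eE.surjective⟩

theorem exists_section (ha : ClopenLift i) [CompactSpace ↥S] [QuasiSeparatedSpace ↥S]
    {S' : Scheme.{u}} (g : S' ⟶ S) [Etale g] [IsSeparated g]
    (t : S₀ ⟶ S') (ht : t ≫ g = i) :
    ∃ u : S ⟶ S', u ≫ g = 𝟙 S ∧ i ≫ u = t := by
  have : CompactSpace S₀ := QuasiCompact.compactSpace_of_compactSpace i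
  obtain ⟨W₀, hWc, hWo, htW, -⟩ := PrespectralSpace.exists_isCompact_and_isOpen_between
    (isCompact_range t.continuous) isOpen_univ (Set.subset_univ _)
  let W : S'.Opens := ⟨W₀, hWo⟩
  have : CompactSpace (W : Scheme.{u}) := isCompact_iff_compactSpace.mp hWc
  let gW := W.ι ≫ g
  have : QuasiCompact gW := quasiCompact_of_compactSpace gW
  have : LocallyQuasiFinite gW := FlatMor66.lqf_of_etale gW
  obtain ⟨T, j, π, _, -, -, _, hjπ⟩ := LimTop61.exists_openImmersion_finite (f := gW)
  have htW' : Set.range t.base ⊆ Set.range W.ι.base := by simpa [W] using htW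
  let s : S₀ ⟶ (W : Scheme.{u}) := IsOpenImmersion.lift W.ι t htW'
  have hs : s ≫ W.ι = t := IsOpenImmersion.lift_fac _ _ _
  have hsg : s ≫ gW = 𝟙 S₀ ≫ i := by rw [Category.id_comp, ← Category.assoc, hs, ht]
  let s₁ : S₀ ⟶ pullback gW i := pullback.lift s (𝟙 S₀) hsg
  have hs₁ : s₁ ≫ pullback.snd gW i = 𝟙 _ := pullback.lift_snd _ _ _
  have : IsClosedImmersion s₁ := by
    have : IsClosedImmersion (s₁ ≫ pullback.snd gW i) := by rw [hs₁]; infer_instance
    exact IsClosedImmersion.of_comp s₁ (pullback.snd gW i)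
  have : Etale s₁ := by
    have : Etale (s₁ ≫ pullback.snd gW i) := by rw [hs₁]; infer_instance
    exact Etale.of_comp s₁ (pullback.snd gW i)
  have : IsOpenImmersion s₁ := Sga84.isOpenImmersion_of_etale s₁
  let m : pullback gW i ⟶ pullback π i :=
    pullback.map gW i π i j (𝟙 _) (𝟙 _) (by rw [Category.comp_id, hjπ]) (by simp)
  let w₀ := s₁ ≫ m
  have hmf : m ≫ pullback.fst π i = pullback.fst gW i ≫ j := pullback.lift_fst _ _ _
  have hms : m ≫ pullback.snd π i = pullback.snd gW i ≫ 𝟙 _ := pullback.lift_snd _ _ _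
  have hs₁f : s₁ ≫ pullback.fst gW i = s := pullback.lift_fst _ _ _
  have hw₀ : w₀ ≫ pullback.snd π i = 𝟙 _ := by
    rw [Category.assoc, hms, Category.comp_id, hs₁]
  have hw₀f : w₀ ≫ pullback.fst π i = s ≫ j := by
    rw [Category.assoc, hmf, ← Category.assoc, hs₁f]
  have : IsOpenImmersion m := inferInstance
  have : IsOpenImmersion w₀ := inferInstance
  have : IsClosedImmersion w₀ := by
    have : IsClosedImmersion (w₀ ≫ pullback.snd π i) := by rw [hw₀]; infer_instance
    exact IsClosedImmersion.of_comp w₀ (pullback.snd π i)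
  obtain ⟨U, ⟨hU, hUV⟩, -⟩ := ha T π inferInstance (Set.range w₀.base)
    ⟨w₀.isClosedEmbedding.isClosed_range, IsOpenImmersion.isOpen_range w₀⟩
  have hUj : U ⊆ Set.range j.base := by
    have hC : IsClosed (π.base '' (U ∩ (Set.range j.base)ᶜ)) :=
      π.isClosedMap _ (hU.1.inter (IsOpenImmersion.isOpen_range j).isClosed_compl)
    have h0 := closed_eq_empty ha hC fun s₀ hs => by
      obtain ⟨z, ⟨hzU, hzj⟩, hzs⟩ := hs
      obtain ⟨z', hz'1, -⟩ := Scheme.Pullback.exists_preimage_pullback (f := π) (g := i) z s₀ hzs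
      have : z' ∈ Set.range w₀.base := by rw [← hUV, Set.mem_preimage, hz'1]; exact hzU
      obtain ⟨r, rfl⟩ := this
      refine hzj ⟨s.base r, ?_⟩
      rw [← hz'1, ← Scheme.Hom.comp_apply s j, ← Scheme.Hom.comp_apply w₀, hw₀f]
    intro z hz
    by_contra hzj
    exact Set.eq_empty_iff_forall_notMem.mp h0 _ ⟨z, ⟨hz, hzj⟩, rfl⟩
  let UO : T.Opens := ⟨U, hU.2⟩
  have : IsClosedImmersion UO.ι := IsClosedImmersion.of_isPreimmersion _ (by simpa [UO] using hU.1)
  let e' : (UO : Scheme.{u}) ⟶ (W : Scheme.{u}) := IsOpenImmersion.lift j UO.ι (by simpa [UO] using hUj)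
  have he' : e' ≫ j = UO.ι := IsOpenImmersion.lift_fac _ _ _
  let eE := UO.ι ≫ π
  have heE : eE = e' ≫ gW := by rw [← hjπ, ← Category.assoc, he']
  have : IsOpenImmersion e' := by
    have : IsOpenImmersion (e' ≫ j) := by rw [he']; infer_instance
    exact IsOpenImmersion.of_comp e' j
  have : Etale eE := by rw [heE]; infer_instance
  let k : pullback eE i ⟶ pullback π i :=
    pullback.map eE i π i UO.ι (𝟙 _) (𝟙 _) (by simp [eE]) (by simp)
  have hkf : k ≫ pullback.fst π i = pullback.fst eE i ≫ UO.ι := pullback.lift_fst _ _ _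
  have hks : k ≫ pullback.snd π i = pullback.snd eE i :=
    (pullback.lift_snd _ _ _).trans (Category.comp_id _)
  have hkr : Set.range k.base ⊆ Set.range w₀.base := by
    rintro _ ⟨z, rfl⟩
    rw [← hUV]
    show (pullback.fst π i).base (k.base z) ∈ U
    rw [← Scheme.Hom.comp_apply k, hkf, Scheme.Hom.comp_apply]
    exact ((pullback.fst eE i).base z).2
  have : Mono (pullback.snd eE i) := by
    have hl := IsOpenImmersion.lift_fac w₀ k hkr
    have h2 : IsOpenImmersion.lift w₀ k hkr = pullback.snd eE i := by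
      have h3 := congrArg (fun φ => φ ≫ pullback.snd π i) hl
      rwa [Category.assoc, hw₀, Category.comp_id, hks] at h3
    rw [← h2]
    have : Mono (IsOpenImmersion.lift w₀ k hkr ≫ w₀) := by rw [hl]; infer_instance
    exact mono_of_mono _ w₀
  have : IsIso eE := isIso_of_finite_etale ha eE fun s₀ => by
    have hmem : (pullback.fst π i).base (w₀.base s₀) ∈ U := by
      show w₀.base s₀ ∈ (pullback.fst π i).base ⁻¹' U
      rw [hUV]; exact ⟨s₀, rfl⟩
    refine ⟨⟨_, hmem⟩, ?_⟩
    show π.base ((pullback.fst π i).base (w₀.base s₀)) = _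
    rw [← Scheme.Hom.comp_apply _ π, pullback.condition, Scheme.Hom.comp_apply,
      ← Scheme.Hom.comp_apply w₀, hw₀]
    rfl
  refine ⟨inv eE ≫ e' ≫ W.ι, ?_, ?_⟩
  · rw [Category.assoc, IsIso.inv_comp_eq, Category.comp_id, Category.assoc]; exact heE.symm
  · let z : S₀ ⟶ pullback eE i := pullback.lift (i ≫ inv eE) (𝟙 _) (by simp)
    have hzf : z ≫ pullback.fst eE i = i ≫ inv eE := pullback.lift_fst _ _ _
    have hzs : z ≫ pullback.snd eE i = 𝟙 _ := pullback.lift_snd _ _ _
    have hz := congrArg (fun φ => z ≫ φ) (IsOpenImmersion.lift_fac w₀ k hkr).symm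
    have hl2 : z ≫ IsOpenImmersion.lift w₀ k hkr = 𝟙 _ := by
      have h3 := congrArg (fun φ => φ ≫ pullback.snd π i) hz
      rwa [Category.assoc, Category.assoc, Category.assoc, hw₀, Category.comp_id, hks, hzs, eq_comm] at h3
    have h4 : (i ≫ inv eE) ≫ UO.ι = s ≫ j := by
      have h3 := congrArg (fun φ => φ ≫ pullback.fst π i) hz
      rw [← Category.assoc z (IsOpenImmersion.lift w₀ k hkr), hl2, Category.id_comp, hw₀f,
        Category.assoc z k, hkf, ← Category.assoc, hzf] at h3
      exact h3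
    rw [← he', ← Category.assoc, cancel_mono] at h4
    rw [← hs, ← h4]
    simp only [Category.assoc]

end Groth.Agent.Hensel20.SectionsLift
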