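import Groth.Agent.Hensel20.FibreRegular
import Groth.Agent.EGA4H10.NormalFlat

/-! Base change along maps with separable fibres: regular fibres of dimension zero and normality. -/

set_option autoImplicit false

open TensorProduct

namespace Groth.Agent.Hensel20

universe u

theorem exists_eq_mul_sq {k E : Type u} [Field k] [CommRing E] [IsReduced E] [Algebra k E]
    [Algebra.IsIntegral k E] (x : E) : ∃ y, x = y * x ^ 2 := by
  let A := Algebra.adjoin k {x}
  have hfg : (Subalgebra.toSubmodule A).FG := (Algebra.IsIntegral.isIntegral x).fg_adjoin_singleton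
  have : Module.Finite k A := Module.Finite.iff_fg.mpr hfg
  have : IsArtinianRing A := IsArtinianRing.of_finite k A
  have : IsReduced A := isReduced_of_injective A.val Subtype.val_injective
  have := IsArtinianRing.isSemisimpleRing_of_isReduced A
  let a : A := ⟨x, Algebra.subset_adjoin rfl⟩
  obtain ⟨e, he, hspan⟩ := IsSemisimpleRing.ideal_eq_span_idempotent (Ideal.span {a})
  obtain ⟨b, hb⟩ := Ideal.mem_span_singleton'.1
    (show e ∈ Ideal.span {a} from hspan ▸ Ideal.mem_span_singleton_self e)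
  obtain ⟨c, hc⟩ := Ideal.mem_span_singleton'.1
    (show a ∈ Ideal.span {e} from hspan ▸ Ideal.mem_span_singleton_self a)
  refine ⟨(b : E), ?_⟩
  have h1 : a = b * a ^ 2 := by
    calc a = c * e := hc.symm
      _ = (c * e) * e := by rw [mul_assoc, he.eq]
      _ = a * (b * a) := by rw [hc, hb]
      _ = b * a ^ 2 := by ring
  exact congrArg Subtype.val h1

variable {R S : Type u} [CommRing R] [CommRing S] [Algebra R S]

theorem vnr_tensor_field (hF : HasSeparableFibres R S) (K : Type u) [Field K] [Algebra R K]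
    (x : K ⊗[R] S) : ∃ y, x = y * x ^ 2 := by
  let p := RingHom.ker (algebraMap R K)
  have : p.IsPrime := RingHom.ker_isPrime _
  let : Algebra p.ResidueField K := (IsFractionRing.lift (A := R ⧸ p) (K := p.ResidueField)
    (g := RingHom.kerLift (algebraMap R K)) (RingHom.kerLift_injective _)).toAlgebra
  have : IsScalarTower R p.ResidueField K := .of_algebraMap_eq fun r => by
    rw [RingHom.algebraMap_toAlgebra, IsScalarTower.algebraMap_apply R (R ⧸ p) p.ResidueField,
      IsFractionRing.lift_algebraMap]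
    rfl
  obtain ⟨n, F, iF, iA, hsep, ⟨e⟩⟩ := hF p
  let PF := ∀ i, F i
  let ε : K ⊗[R] S ≃+* K ⊗[p.ResidueField] PF :=
    (Algebra.TensorProduct.cancelBaseChange R p.ResidueField K K S).symm.toRingEquiv.trans
      (Algebra.TensorProduct.congr (AlgEquiv.refl (R := K) (A₁ := K)) e).toRingEquiv
  have : IsReduced (K ⊗[p.ResidueField] PF) := by
    have : ∀ i, IsReduced (K ⊗[p.ResidueField] F i) := fun i =>
      have := hsep i
      isReduced_separable_tensor
    exact isReduced_of_injective (Algebra.TensorProduct.piRight p.ResidueField K K F).toRingEquiv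
      (RingEquiv.injective _)
  have : Algebra.IsIntegral p.ResidueField PF :=
    ⟨fun z => isIntegral_pi z fun i => have := hsep i; Algebra.IsIntegral.isIntegral (z i)⟩
  obtain ⟨y, hy⟩ := exists_eq_mul_sq (k := K) (ε x)
  refine ⟨ε.symm y, ε.injective ?_⟩
  rw [map_mul, map_pow, ε.apply_symm_apply]
  exact hy

variable {A : Type u} [CommRing A] [Algebra R A] [Algebra A S] [IsScalarTower R A S]

theorem vnr_tensor_field_over (hF : HasSeparableFibres R S) (K : Type u) [Field K] [Algebra A K]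
    (x : K ⊗[A] S) : ∃ y, x = y * x ^ 2 := by
  let : Algebra R K := ((algebraMap A K).comp (algebraMap R A)).toAlgebra
  have : IsScalarTower R A K := .of_algebraMap_eq fun _ => rfl
  let π : K ⊗[R] S →ₐ[R] K ⊗[A] S := Algebra.TensorProduct.lift
    ((Algebra.TensorProduct.includeLeft : K →ₐ[A] K ⊗[A] S).restrictScalars R)
    ((Algebra.TensorProduct.includeRight : S →ₐ[A] K ⊗[A] S).restrictScalars R)
    (fun _ _ => Commute.all _ _)
  have hπ : Function.Surjective π := fun z => by
    induction z using TensorProduct.induction_on with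
    | zero => exact ⟨0, map_zero _⟩
    | add a b ha hb =>
      obtain ⟨a, rfl⟩ := ha
      obtain ⟨b, rfl⟩ := hb
      exact ⟨a + b, map_add _ _ _⟩
    | tmul c s => exact ⟨c ⊗ₜ s, by simp [π]⟩
  obtain ⟨x, rfl⟩ := hπ x
  obtain ⟨y, hy⟩ := vnr_tensor_field hF K x
  exact ⟨π y, by rw [← map_pow, ← map_mul, ← hy]⟩

variable {C : Type u} [CommRing C] [Algebra A C]

theorem exists_notMem_mul_mem (hF : HasSeparableFibres R S) (q : Ideal (C ⊗[A] S)) [q.IsPrime]
    {d : C ⊗[A] S} (hd : d ∈ q) :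
    ∃ w ∉ q, w * d ∈ (q.comap (algebraMap C (C ⊗[A] S))).map (algebraMap C (C ⊗[A] S)) := by
  let p := q.comap (algebraMap C (C ⊗[A] S))
  let f := IsScalarTower.toAlgHom A C (C ⧸ p)
  let π₁ : C ⊗[A] S →ₐ[A] (C ⧸ p) ⊗[A] S := Algebra.TensorProduct.map f (AlgHom.id A S)
  have hπ₁ : Function.Surjective π₁ :=
    TensorProduct.map_surjective Ideal.Quotient.mk_surjective Function.surjective_id
  have hker : RingHom.ker π₁ = p.map (algebraMap C (C ⊗[A] S)) := by
    have h := Algebra.TensorProduct.rTensor_ker (R := A) (C := S) f Ideal.Quotient.mk_surjective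
    rw [show RingHom.ker f = p from Ideal.mk_ker] at h
    exact h
  let g := IsScalarTower.toAlgHom A (C ⧸ p) p.ResidueField
  let π₂ : (C ⧸ p) ⊗[A] S →ₐ[A] p.ResidueField ⊗[A] S :=
    Algebra.TensorProduct.map g (AlgHom.id A S)
  let : Algebra ((C ⧸ p) ⊗[A] S) (p.ResidueField ⊗[A] S) := π₂.toRingHom.toAlgebra
  have : IsScalarTower (C ⧸ p) ((C ⧸ p) ⊗[A] S) (p.ResidueField ⊗[A] S) :=
    .of_algebraMap_eq fun c => by
      show algebraMap (C ⧸ p) p.ResidueField c ⊗ₜ[A] (1 : S) = π₂ (c ⊗ₜ 1)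
      simp [π₂, g]
  let N := Algebra.algebraMapSubmonoid ((C ⧸ p) ⊗[A] S) (nonZeroDivisors (C ⧸ p))
  have hloc : IsLocalization N (p.ResidueField ⊗[A] S) :=
    IsLocalization.tensorProduct_tensorProduct A S (nonZeroDivisors (C ⧸ p)) p.ResidueField (by
      ext t
      show π₂ (1 ⊗ₜ t) = 1 ⊗ₜ t
      simp [π₂])
  obtain ⟨y, hy⟩ := vnr_tensor_field_over hF p.ResidueField (π₂ (π₁ d))
  obtain ⟨⟨y', ⟨_, c, hc, rfl⟩⟩, hyc⟩ := IsLocalization.surj N y
  obtain ⟨y', rfl⟩ := hπ₁ y'
  obtain ⟨c, rfl⟩ := Ideal.Quotient.mk_surjective c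
  let ιc := algebraMap C (C ⊗[A] S) c
  have hc₁ : algebraMap (C ⧸ p) ((C ⧸ p) ⊗[A] S) (Ideal.Quotient.mk p c) = π₁ ιc := by
    show Ideal.Quotient.mk p c ⊗ₜ[A] (1 : S) = π₁ (c ⊗ₜ 1)
    simp [π₁, f]
  have hyc' : y * π₂ (π₁ ιc) = π₂ (π₁ y') := by rw [← hc₁]; exact hyc
  have h0 : π₂ (π₁ ((ιc - y' * d) * d)) = 0 := by
    rw [map_mul π₁, map_sub π₁, map_mul π₁, map_mul π₂, map_sub π₂, map_mul π₂, ← hyc']
    linear_combination π₂ (π₁ ιc) * hy
  obtain ⟨⟨_, c', hc', rfl⟩, hc'0⟩ := (IsLocalization.map_eq_zero_iff N _ _).1 h0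
  obtain ⟨c', rfl⟩ := Ideal.Quotient.mk_surjective c'
  have hnot : ∀ a : C, Ideal.Quotient.mk p a ∈ nonZeroDivisors (C ⧸ p) →
      algebraMap C (C ⊗[A] S) a ∉ q := fun a ha hq =>
    nonZeroDivisors.ne_zero ha (Ideal.Quotient.eq_zero_iff_mem.2 hq)
  refine ⟨algebraMap C (C ⊗[A] S) c' * (ιc - y' * d), fun h => ?_, ?_⟩
  · rcases ‹q.IsPrime›.mem_or_mem h with h | h
    · exact hnot c' hc' h
    · refine hnot c hc ?_
      have h2 := q.add_mem h (q.mul_mem_left y' hd)
      rw [sub_add_cancel] at h2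
      exact h2
  · show _ ∈ p.map (algebraMap C (C ⊗[A] S))
    rw [← hker, RingHom.mem_ker, mul_assoc, map_mul π₁, ← hc'0]
    congr 1

theorem isNormalRing_tensor [IsNoetherianRing C] [Module.Flat A S] [IsNoetherianRing (C ⊗[A] S)]
    (hF : HasSeparableFibres R S) (hC : EGA4.IsNormalRing C) :
    EGA4.IsNormalRing (C ⊗[A] S) := by
  intro q _
  obtain ⟨h1, h2⟩ := hC (q.comap (algebraMap C (C ⊗[A] S)))
  refine EGA4H10.normal_localization_of_flat C (C ⊗[A] S) (fun r _ => ?_) q h1 h2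
  let p := r.comap (algebraMap C (C ⊗[A] S))
  let L := Localization.AtPrime r
  have hI : p.map (algebraMap C L) = IsLocalRing.maximalIdeal L := by
    rw [IsScalarTower.algebraMap_eq C (C ⊗[A] S) L, ← Ideal.map_map,
      ← Localization.AtPrime.map_eq_maximalIdeal]
    refine le_antisymm (Ideal.map_mono Ideal.map_comap_le) (Ideal.map_le_iff_le_comap.2 fun d hd => ?_)
    obtain ⟨w, hw, hwd⟩ := exists_notMem_mul_mem hF r hd
    rw [Ideal.mem_comap, IsLocalization.algebraMap_mem_map_algebraMap_iff r.primeCompl]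
    exact ⟨w, hw, hwd⟩
  have hmax : (p.map (algebraMap C L)).IsMaximal := hI ▸ IsLocalRing.maximalIdeal.isMaximal L
  show IsDomain (L ⧸ p.map (algebraMap C L)) ∧ IsIntegrallyClosed (L ⧸ p.map (algebraMap C L))
  let : Field (L ⧸ p.map (algebraMap C L)) := Ideal.Quotient.field _
  exact ⟨inferInstance, inferInstance⟩

end Groth.Agent.Hensel20
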