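import Groth.Agent.Hensel20.HenzProps
import Groth.Agent.CAlg1.CMPoly
import Groth.Agent.CAlg1.SerreNormal

/-! Local rings of henselizations: depth, dimension, Serre conditions. -/

set_option autoImplicit false

open IsLocalRing TensorProduct

namespace Groth.Agent.Hensel20

open Henz21

universe u

variable {R K : Type u} [CommRing R] [IsLocalRing R] [Field K] [Algebra R K]
  [IsLocalHom (algebraMap R K)]

/-- The residue field has depth zero. -/
theorem depth_quotient_maximalIdeal (A : Type u) [CommRing A] [IsLocalRing A] [IsNoetherianRing A] :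
    LocCoh.depth A (A ⧸ maximalIdeal A) = 0 := by
  have hc : (⊥ : Submodule A (A ⧸ maximalIdeal A)).colon {1} = maximalIdeal A := by
    ext a
    rw [Submodule.mem_colon_singleton, Submodule.mem_bot, Algebra.smul_def, mul_one,
      Ideal.Quotient.algebraMap_eq, Ideal.Quotient.eq_zero_iff_mem]
  exact EGA4Alg4.depth_eq_zero_iff.mpr ⟨(maximalIdeal.isMaximal _).isPrime, 1, by
    rw [hc, (maximalIdeal.isMaximal A).isPrime.radical]⟩

omit [IsLocalRing R] [IsLocalHom (algebraMap R K)] in
/-- A prime of the colimit is generated by its contraction after localisation. -/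
theorem exists_mul_mem_map_comap (P : Ideal (H R K)) [P.IsPrime] {x : H R K} (hx : x ∈ P) :
    ∃ m ∉ P, m * x ∈ (P.comap (algebraMap R (H R K))).map (algebraMap R (H R K)) := by
  obtain ⟨i, s, rfl⟩ := H.exists_rep x
  let q : Ideal i.S := P.comap (H.incl i)
  have : q.IsPrime := Ideal.comap_isPrime _ P
  let p := P.comap (algebraMap R (H R K))
  have hq : q.comap (algebraMap R i.S) = p := by
    ext r
    rw [Ideal.mem_comap, Ideal.mem_comap, AlgHom.commutes]
    rfl
  have : q.LiesOver p := ⟨hq.symm⟩
  have : Algebra.IsUnramifiedAt R q := Algebra.FormallyUnramified.comp R i.S (Localization.AtPrime q)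
  let _ := Localization.AtPrime.algebraOfLiesOver p q
  have h := ((Algebra.isUnramifiedAt_iff_map_eq R p q).mp inferInstance).2
  have hs : algebraMap i.S (Localization.AtPrime q) s ∈
      (p.map (algebraMap R i.S)).map (algebraMap i.S (Localization.AtPrime q)) := by
    rw [Ideal.map_map, ← IsScalarTower.algebraMap_eq, h,
      IsLocalization.AtPrime.to_map_mem_maximal_iff (Localization.AtPrime q) q]
    exact hx
  obtain ⟨m, hm, hms⟩ :=
    (IsLocalization.algebraMap_mem_map_algebraMap_iff q.primeCompl _ _ _).mp hs
  refine ⟨H.incl i m, hm, ?_⟩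
  have := Ideal.mem_map_of_mem (H.incl i).toRingHom hms
  rw [Ideal.map_map, show (H.incl i).toRingHom.comp (algebraMap R i.S) = algebraMap R (H R K) from
    RingHom.ext (H.incl i).commutes] at this
  simpa using this

omit [IsLocalRing R] [IsLocalHom (algebraMap R K)] in
theorem localization_facts (P : Ideal (H R K)) [P.IsPrime] (p : Ideal R) [p.IsPrime] [P.LiesOver p]
    [Algebra (Localization.AtPrime p) (Localization.AtPrime P)]
    [Localization.AtPrime.IsLiesOverAlgebra p P] :
    IsLocalHom (algebraMap (Localization.AtPrime p) (Localization.AtPrime P)) ∧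
      Module.Flat (Localization.AtPrime p) (Localization.AtPrime P) ∧
      (maximalIdeal (Localization.AtPrime p)).map
          (algebraMap (Localization.AtPrime p) (Localization.AtPrime P)) =
        maximalIdeal (Localization.AtPrime P) := by
  have h1 : Module.Flat (H R K) (Localization.AtPrime P) :=
    IsLocalization.flat (Localization.AtPrime P) P.primeCompl
  have h2 : Module.Flat R (Localization.AtPrime P) :=
    Module.Flat.trans R (H R K) (Localization.AtPrime P)
  have h3 : Algebra.FormallyUnramified R (Localization.AtPrime p) :=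
    Algebra.FormallyUnramified.of_isLocalization p.primeCompl
  have h4 : Algebra.EssFiniteType R (Localization.AtPrime p) :=
    Algebra.EssFiniteType.of_isLocalization _ p.primeCompl
  have hm : (maximalIdeal (Localization.AtPrime p)).map
      (algebraMap (Localization.AtPrime p) (Localization.AtPrime P)) =
        maximalIdeal (Localization.AtPrime P) := by
    rw [← Localization.AtPrime.map_eq_maximalIdeal, Ideal.map_map, ← IsScalarTower.algebraMap_eq,
      IsScalarTower.algebraMap_eq R (H R K) (Localization.AtPrime P), ← Ideal.map_map,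
      ← Localization.AtPrime.map_eq_maximalIdeal]
    refine le_antisymm (Ideal.map_mono (Ideal.map_le_iff_le_comap.mpr ?_))
      (Ideal.map_le_iff_le_comap.mpr fun x hx => ?_)
    · rw [← Ideal.under_def, ← P.over_def p]
    · obtain ⟨m, hmP, hmx⟩ := exists_mul_mem_map_comap P hx
      rw [← Ideal.under_def, ← P.over_def p] at hmx
      exact (IsLocalization.algebraMap_mem_map_algebraMap_iff P.primeCompl _ _ _).mpr
        ⟨m, hmP, hmx⟩
  refine ⟨((local_hom_TFAE _).out 0 2).mpr hm.le, ?_, hm⟩
  exact flat_of_formallyUnramified R (Localization.AtPrime p) (Localization.AtPrime P)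

/-- Depth, height and regularity at a prime of the colimit. -/
theorem localization_invariants [IsNoetherianRing R] (P : Ideal (H R K)) [P.IsPrime] (p : Ideal R)
    [p.IsPrime] [P.LiesOver p] :
    LocCoh.depth (Localization.AtPrime P) (Localization.AtPrime P) =
        LocCoh.depth (Localization.AtPrime p) (Localization.AtPrime p) ∧
      P.height = p.height ∧
      (IsRegularLocalRing (Localization.AtPrime P) ↔ IsRegularLocalRing (Localization.AtPrime p)) := by
  have := isNoetherianRing_H (R := R) (K := K)
  let _ := Localization.AtPrime.algebraOfLiesOver p P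
  obtain ⟨hl, hf, hm⟩ := localization_facts P p
  refine ⟨?_, ?_, Unr55.isRegularLocalRing_iff_of_map_maximalIdeal _ _ hm⟩
  · rw [CAlg1.depth_of_flat_local (Localization.AtPrime p) (Localization.AtPrime P), hm]
    rw [depth_quotient_maximalIdeal, add_zero]
  · have := Unr55.ringKrullDim_eq_of_map_maximalIdeal _ _ hm
    rw [IsLocalization.AtPrime.ringKrullDim_eq_height P, IsLocalization.AtPrime.ringKrullDim_eq_height p]
      at this
    exact_mod_cast this

theorem exists_liesOver (p : Ideal R) [p.IsPrime] :
    ∃ (P : Ideal (H R K)) (_ : P.IsPrime), P.LiesOver p := by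
  obtain ⟨P, hP⟩ := PrimeSpectrum.comap_surjective_of_faithfullyFlat (B := H R K)
    (⟨p, inferInstance⟩ : PrimeSpectrum R)
  exact ⟨P.asIdeal, P.2, ⟨(congrArg PrimeSpectrum.asIdeal hP).symm⟩⟩

variable [IsNoetherianRing R]

theorem hasSk_H_iff (k : ℕ) : LocCoh.HasSk k (H R K) (H R K) ↔ LocCoh.HasSk k R R := by
  have := isNoetherianRing_H (R := R) (K := K)
  rw [CAlg1.hasSk_self_iff, CAlg1.hasSk_self_iff]
  refine ⟨fun h p _ => ?_, fun h P _ => ?_⟩
  · obtain ⟨P, _, _⟩ := exists_liesOver (K := K) p
    obtain ⟨h1, h2, -⟩ := localization_invariants P p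
    rw [← h1, ← h2]; exact h P
  · obtain ⟨h1, h2, -⟩ := localization_invariants P (P.under R)
    rw [h1, h2]; exact h _

theorem hasRk_H_iff (k : ℕ) : LocCoh.HasRk k (H R K) ↔ LocCoh.HasRk k R := by
  refine ⟨fun h p _ hp => ?_, fun h P _ hP => ?_⟩
  · obtain ⟨P, _, _⟩ := exists_liesOver (K := K) p
    obtain ⟨-, h2, h3⟩ := localization_invariants P p
    exact h3.mp (h P (by rwa [h2]))
  · obtain ⟨-, h2, h3⟩ := localization_invariants P (P.under R)
    exact h3.mpr (h _ (by rwa [← h2]))

variable {S : Type u} [CommRing S] [IsLocalRing S] [Algebra R S] (e : H R K ≃ₐ[R] S)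

include e in
theorem isCohenMacaulay_iff_of_equiv [IsLocalHom (algebraMap R S)] :
    LocCoh.IsCohenMacaulayLocalRing S ↔ LocCoh.IsCohenMacaulayLocalRing R := by
  have := isNoetherianRing_H (R := R) (K := K)
  have := (isNoetherianRing_iff_of_equiv e).mp inferInstance
  have : Module.Flat R S := Module.Flat.of_linearEquiv e.symm.toLinearEquiv
  have hm : (maximalIdeal R).map (algebraMap R S) = maximalIdeal S := by
    rw [← e.toAlgHom.comp_algebraMap, ← Ideal.map_map, H.map_maximalIdeal]
    exact map_ringEquiv_maximalIdeal e.toRingEquiv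
  rw [CAlg1.cmLocal_iff, CAlg1.cmLocal_iff, Unr55.ringKrullDim_eq_of_map_maximalIdeal R S hm,
    CAlg1.depth_of_flat_local R S, hm]
  rw [depth_quotient_maximalIdeal, add_zero]

end Groth.Agent.Hensel20
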